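import Groth.Agent.Frg27.TFT
import Mathlib.RingTheory.AdicCompletion.RingHom

/-!
Extension of algebra maps to completions with values in complete algebras.
-/

set_option autoImplicit false
set_option linter.style.haveILetI false
set_option linter.unusedSectionVars false

namespace Groth.Agent.Frg27

universe u v w

variable {R : Type u} [CommRing R] (I : Ideal R)
variable {C : Type v} [CommRing C] [Algebra R C]
variable {B : Type w} [CommRing B] [Algebra R B]

/-- The completion of an algebra for the ideal of definition. -/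
abbrev Compl (C : Type v) [CommRing C] [Algebra R C] : Type v :=
  AdicCompletion (I.map (algebraMap R C)) C

variable {I}

theorem map_map_le (f : C →ₐ[R] B) : (I.map (algebraMap R C)).map f.toRingHom ≤ I.map (algebraMap R B) := by
  rw [Ideal.map_map]
  exact (congrArg (fun g => Ideal.map g I) f.comp_algebraMap).le

theorem pow_le_comap (f : C →ₐ[R] B) (n : ℕ) :
    (I.map (algebraMap R C)) ^ n ≤ ((I.map (algebraMap R B)) ^ n).comap f.toRingHom := by
  rw [← Ideal.map_le_iff_le_comap, Ideal.map_pow]
  exact Ideal.pow_right_mono (map_map_le f) n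

variable [IsAdicComplete (I.map (algebraMap R B)) B]

/-- The maps to the truncations. -/
noncomputable def liftTrunc (f : C →ₐ[R] B) (n : ℕ) :
    Compl I C →ₐ[R] B ⧸ (I.map (algebraMap R B)) ^ n :=
  (Ideal.quotientMapₐ _ f (pow_le_comap f n)).comp
    ((AdicCompletion.evalₐ (I.map (algebraMap R C)) n).restrictScalars R)

theorem liftTrunc_compat (f : C →ₐ[R] B) {m n : ℕ} (hle : m ≤ n) :
    (Ideal.Quotient.factorₐ R (Ideal.pow_le_pow_right (I := I.map (algebraMap R B)) hle)).comp
      (liftTrunc (I := I) f n) = liftTrunc (I := I) f m := by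
  refine AlgHom.ext fun x => ?_
  obtain ⟨c, rfl⟩ := AdicCompletion.mk_surjective (I.map (algebraMap R C)) C x
  simp only [liftTrunc, AlgHom.comp_apply, AlgHom.restrictScalars_apply, AdicCompletion.evalₐ_mk]
  change Ideal.Quotient.mk _ (f (c.val n)) = Ideal.Quotient.mk _ (f (c.val m))
  refine Ideal.Quotient.eq.mpr ?_
  rw [← map_sub]
  refine pow_le_comap f m ?_
  have := SModEq.sub_mem.mp (c.2 hle)
  rw [smul_eq_mul, Ideal.mul_top] at this
  rw [← neg_sub]
  exact neg_mem this

/-- The extension of an algebra map to the completion. -/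
noncomputable def complLift (f : C →ₐ[R] B) : Compl I C →ₐ[R] B :=
  IsAdicComplete.liftAlgHom (I.map (algebraMap R B)) (liftTrunc f) (liftTrunc_compat f)

@[simp] theorem complLift_algebraMap (f : C →ₐ[R] B) (c : C) :
    complLift (I := I) f (algebraMap C (Compl I C) c) = f c := by
  refine sub_eq_zero.mp
    (IsHausdorff.haus (I := I.map (algebraMap R B)) (M := B) inferInstance _ fun n => ?_)
  rw [SModEq.zero, smul_eq_mul, Ideal.mul_top, ← Ideal.Quotient.eq, complLift,
    IsAdicComplete.mk_liftAlgHom]
  simp only [liftTrunc, AlgHom.comp_apply, AlgHom.restrictScalars_apply, AlgHom.commutes]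
  rfl

theorem complLift_comp (f : C →ₐ[R] B) :
    (complLift (I := I) f).comp (IsScalarTower.toAlgHom R C (Compl I C)) = f :=
  AlgHom.ext (complLift_algebraMap f)

/-- Two maps from the completion to a complete algebra agreeing on the algebra are equal. -/
theorem compl_hom_ext (hI : I.FG) {g g' : Compl I C →ₐ[R] B}
    (h : ∀ c, g (algebraMap C _ c) = g' (algebraMap C _ c)) : g = g' := by
  refine AlgHom.ext fun x => sub_eq_zero.mp
    (IsHausdorff.haus (I := I.map (algebraMap R B)) (M := B) inferInstance _ fun n => ?_)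
  rw [SModEq.zero, smul_eq_mul, Ideal.mul_top]
  obtain ⟨c, hc⟩ := Submodule.Quotient.mk_surjective _ (x.val n)
  have hd : x - algebraMap C (Compl I C) c ∈
      LinearMap.ker (AdicCompletion.eval (I.map (algebraMap R C)) C n) := by
    rw [LinearMap.mem_ker, map_sub]
    exact sub_eq_zero.mpr hc.symm
  rw [← AdicCompletion.pow_smul_top_eq_ker_eval (Ideal.FG.map hI _), Ideal.smul_top_eq_map,
    Submodule.restrictScalars_mem, ← Ideal.map_pow, Ideal.map_map,
    ← IsScalarTower.algebraMap_eq] at hd
  have hdiff : ∀ e : Compl I C →ₐ[R] B, e x - e (algebraMap C _ c) ∈ (I.map (algebraMap R B)) ^ n := by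
    intro e
    have h2 := Ideal.mem_map_of_mem e.toRingHom hd
    rw [Ideal.map_map, map_sub] at h2
    rw [← Ideal.map_pow]
    exact (congrArg (fun k => Ideal.map k (I ^ n)) e.comp_algebraMap).le h2
  have := sub_mem (hdiff g) (hdiff g')
  rwa [h c, sub_sub_sub_cancel_right] at this

end Groth.Agent.Frg27
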