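import Groth.Agent.Frg27.TFT
import Groth.Agent.Frg27.Lift
import Mathlib.LinearAlgebra.TensorProduct.Quotient
import Mathlib.RingTheory.Flat.Stability

/-!
The completion of an algebra for the ideal of definition: truncations, topological finite type,
and truncations after base change.
-/

set_option autoImplicit false

universe u

open TensorProduct

namespace Groth.Agent.Frg27

variable {R : Type u} [CommRing R] {I : Ideal R}
variable {C : Type u} [CommRing C] [Algebra R C]

theorem isAdicComplete_compl (hI : I.FG) :
    IsAdicComplete (I.map (algebraMap R (Compl I C))) (Compl I C) := by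
  have h : IsAdicComplete (I.map (algebraMap R C)) (Compl I C) :=
    AdicCompletion.isAdicComplete (Ideal.FG.map hI _)
  exact (IsAdicComplete.map_algebraMap_iff _ _).mpr ((IsAdicComplete.map_algebraMap_iff _ _).mp h)

/-- Every element of the completion is close to an element of the algebra. -/
theorem exists_sub_mem_compl (hI : I.FG) (x : Compl I C) (j : ℕ) :
    ∃ c : C, x - algebraMap C (Compl I C) c ∈ (I ^ j).map (algebraMap R (Compl I C)) := by
  set K := I.map (algebraMap R C)
  obtain ⟨c, hc⟩ := Submodule.Quotient.mk_surjective _ (x.val j)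
  refine ⟨c, ?_⟩
  have hd : x - algebraMap C (Compl I C) c ∈ LinearMap.ker (AdicCompletion.eval K _ j) := by
    rw [LinearMap.mem_ker, map_sub]
    exact sub_eq_zero.mpr hc.symm
  rw [← AdicCompletion.pow_smul_top_eq_ker_eval (Ideal.FG.map hI _), Ideal.smul_top_eq_map,
    Submodule.restrictScalars_mem, ← Ideal.map_pow, Ideal.map_map,
    ← IsScalarTower.algebraMap_eq] at hd
  exact hd

/-- An element of the algebra lies in `I^j` of the completion only if it lies in `I^j`. -/
theorem mem_of_algebraMap_mem_compl (c : C) (j : ℕ)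
    (h : algebraMap C (Compl I C) c ∈ (I ^ j).map (algebraMap R (Compl I C))) :
    c ∈ (I ^ j).map (algebraMap R C) := by
  set K := I.map (algebraMap R C) with hK
  have h1 : algebraMap C (Compl I C) c ∈ (K ^ j • ⊤ : Submodule C (Compl I C)) := by
    rw [Ideal.smul_top_eq_map, Submodule.restrictScalars_mem, hK, ← Ideal.map_pow, Ideal.map_map,
      ← IsScalarTower.algebraMap_eq]
    exact h
  have h2 : (Submodule.Quotient.mk c : C ⧸ (K ^ j • ⊤ : Ideal C)) = 0 :=
    LinearMap.mem_ker.mp (AdicCompletion.pow_smul_top_le_ker_eval K j h1)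
  rw [Submodule.Quotient.mk_eq_zero, smul_eq_mul, Ideal.mul_top, hK, ← Ideal.map_pow] at h2
  exact h2

variable (S : Type u) [CommRing S] [Algebra R S] [Algebra S C] [IsScalarTower R S C]

/-- The truncations of the completion are those of the algebra. -/
noncomputable def truncEquiv (hI : I.FG) (j : ℕ) :
    (C ⧸ (I ^ j).map (algebraMap R C)) ≃ₐ[S] Compl I C ⧸ (I ^ j).map (algebraMap R (Compl I C)) :=
  AlgEquiv.ofBijective
    (Ideal.quotientMapₐ ((I ^ j).map (algebraMap R (Compl I C))) (IsScalarTower.toAlgHom S C (Compl I C))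
      (by
        rw [Ideal.map_le_iff_le_comap]
        intro r hr
        change algebraMap C (Compl I C) (algebraMap R C r) ∈ (I ^ j).map (algebraMap R (Compl I C))
        rw [← IsScalarTower.algebraMap_apply]
        exact Ideal.mem_map_of_mem _ hr))
    (by
      constructor
      · refine (injective_iff_map_eq_zero _).mpr fun y hy => ?_
        obtain ⟨c, rfl⟩ := Ideal.Quotient.mk_surjective y
        exact Ideal.Quotient.eq_zero_iff_mem.mpr
          (mem_of_algebraMap_mem_compl c j (Ideal.Quotient.eq_zero_iff_mem.mp hy))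
      · intro y
        obtain ⟨x, rfl⟩ := Ideal.Quotient.mk_surjective y
        obtain ⟨c, hc⟩ := exists_sub_mem_compl hI x j
        exact ⟨Ideal.Quotient.mk _ c, (Ideal.Quotient.eq.mpr hc).symm⟩)

variable {S}

omit [Algebra R C] in
/-- Truncations of a finite type algebra over an algebra with finite type truncation. -/
theorem finiteType_quotient_of_finiteType (C : Type u) [CommRing C] [Algebra R C] [Algebra S C]
    [IsScalarTower R S C] [Algebra.FiniteType S C] (J : Ideal R)
    [Algebra.FiniteType R (S ⧸ J.map (algebraMap R S))] :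
    Algebra.FiniteType R (C ⧸ J.map (algebraMap R C)) := by
  set P := J.map (algebraMap R S) with hP
  haveI : Algebra.FiniteType S (C ⧸ P.map (algebraMap S C)) :=
    Algebra.FiniteType.of_surjective (Ideal.Quotient.mkₐ S _) Ideal.Quotient.mk_surjective
  haveI : Algebra.FiniteType (S ⧸ P) (C ⧸ P.map (algebraMap S C)) :=
    Algebra.FiniteType.of_restrictScalars_finiteType S _ _
  haveI : IsScalarTower R (S ⧸ P) (C ⧸ P.map (algebraMap S C)) :=
    IsScalarTower.of_algebraMap_eq fun r =>
      congrArg (Ideal.Quotient.mk _) (IsScalarTower.algebraMap_apply R S C r)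
  have h : Algebra.FiniteType R (C ⧸ P.map (algebraMap S C)) :=
    Algebra.FiniteType.trans (S := S ⧸ P) inferInstance inferInstance
  exact h.of_surjective (Ideal.quotientEquivAlgOfEq R (by
    rw [hP, Ideal.map_map, ← IsScalarTower.algebraMap_eq])).toAlgHom (AlgEquiv.surjective _)

theorem tft_compl (hI : I.FG) [Algebra.FiniteType R (C ⧸ I.map (algebraMap R C))] :
    AdicRing.TopFiniteType R I (Compl I C) := by
  haveI := isAdicComplete_compl (C := C) hI
  refine tft_of_finiteType_quotient hI ?_
  have h : Algebra.FiniteType R (Compl I C ⧸ (I ^ 1).map (algebraMap R (Compl I C))) := by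
    refine Algebra.FiniteType.of_surjective
      ((truncEquiv R hI 1).toAlgHom.comp
        (Ideal.quotientEquivAlgOfEq R (by rw [pow_one] :
          I.map (algebraMap R C) = (I ^ 1).map (algebraMap R C))).toAlgHom) ?_
    exact (truncEquiv R hI 1).surjective.comp (AlgEquiv.surjective _)
  exact h.of_surjective (Ideal.quotientEquivAlgOfEq R (by rw [pow_one])).toAlgHom
    (AlgEquiv.surjective _)

theorem tft_compl_of_finiteType (hI : I.FG) (hS : AdicRing.TopFiniteType R I S)
    [Algebra.FiniteType S C] : AdicRing.TopFiniteType R I (Compl I C) := by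
  haveI := finiteType_quotient hI hS
  haveI := finiteType_quotient_of_finiteType (S := S) C I
  exact tft_compl hI

variable (S) in
/-- Truncated base change of the completion. -/
noncomputable def truncTensorEquiv (hI : I.FG) (j : ℕ) :
    (S ⧸ (I ^ j).map (algebraMap R S)) ⊗[S] C ≃ₗ[S ⧸ (I ^ j).map (algebraMap R S)]
      (S ⧸ (I ^ j).map (algebraMap R S)) ⊗[S] Compl I C :=
  let e : ∀ (B : Type u) [CommRing B] [Algebra R B] [Algebra S B] [IsScalarTower R S B],
      (S ⧸ (I ^ j).map (algebraMap R S)) ⊗[S] B ≃ₗ[S] B ⧸ (I ^ j).map (algebraMap R B) :=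
    fun B _ _ _ _ => (quotTensorEquivQuotSMul B _).trans
      ((Submodule.quotEquivOfEq _ (((I ^ j).map (algebraMap R B)).restrictScalars S) (by
        rw [Ideal.smul_top_eq_map, Ideal.map_map, ← IsScalarTower.algebraMap_eq])).trans
        (Submodule.Quotient.restrictScalarsEquiv S _))
  ((e C).trans ((truncEquiv S hI j).toLinearEquiv.trans (e (Compl I C)).symm)).extendScalarsOfSurjective
    Ideal.Quotient.mk_surjective

end Groth.Agent.Frg27
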