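import Groth.Prelude.Def_FSch3
import Groth.Agent.Frg27.Compl
import Groth.Agent.CAlg1.Complete
import Groth.Agent.CAlg7.FlatLimit

/-!
Flatness of the map of completions induced by a flat map.
-/

set_option autoImplicit false

universe u

open TensorProduct

namespace Groth.Agent.Frg27

variable {A : Type u} [CommRing A] [IsNoetherianRing A]

theorem flat_complMap (J : Ideal A) {C T : Type u} [CommRing C] [CommRing T] [Algebra A C]
    [Algebra A T] [IsNoetherianRing C] [IsNoetherianRing T] (g : C →+* T)
    (hg : g.comp (algebraMap A C) = algebraMap A T) (hflat : g.Flat)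
    (hJ : (J.map (algebraMap A C)).map g ≤ J.map (algebraMap A T)) :
    (FSch.complMap (J.map (algebraMap A C)) (J.map (algebraMap A T)) g hJ).Flat := by
  have hJfg : J.FG := IsNoetherian.noetherian J
  set φ := FSch.complMap (J.map (algebraMap A C)) (J.map (algebraMap A T)) g hJ
  letI : Algebra C T := g.toAlgebra
  haveI : Module.Flat C T := hflat
  haveI : IsScalarTower A C T := IsScalarTower.of_algebraMap_eq fun a => (RingHom.congr_fun hg a).symm
  letI : Algebra (Compl J C) (Compl J T) := φ.toAlgebra
  haveI : IsScalarTower C (Compl J C) (Compl J T) := IsScalarTower.of_algebraMap_eq fun c => by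
    refine AdicCompletion.ext_evalₐ fun n => ?_
    change _ = AdicCompletion.evalₐ _ n (φ (algebraMap C (Compl J C) c))
    rw [show φ = _ from rfl]
    simp only [FSch.complMap, AdicCompletion.evalₐ_liftRingHom, RingHom.comp_apply,
      IsScalarTower.algebraMap_apply C T (Compl J T), AlgHom.toRingHom_eq_coe, RingHom.coe_coe,
      AlgHom.commutes]
    rfl
  haveI : IsScalarTower A (Compl J C) (Compl J T) := IsScalarTower.of_algebraMap_eq fun a => by
    rw [IsScalarTower.algebraMap_apply A C (Compl J C) a,
      ← IsScalarTower.algebraMap_apply C (Compl J C) (Compl J T),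
      IsScalarTower.algebraMap_apply A C (Compl J T)]
  haveI : IsNoetherianRing (Compl J C) :=
    CAlg1.isNoetherianRing_adicCompletion _ (IsNoetherian.noetherian _)
  haveI : IsNoetherianRing (Compl J T) :=
    CAlg1.isNoetherianRing_adicCompletion _ (IsNoetherian.noetherian _)
  haveI : Module.Flat T (Compl J T) := inferInstance
  haveI : Module.Flat C (Compl J T) := Module.Flat.trans C T _
  refine CAlg7.flat_of_forall_flat_mod_pow (S := Compl J T) (J.map (algebraMap A (Compl J C))) ?_ fun m _ => ?_
  · rw [Ideal.map_map, ← IsScalarTower.algebraMap_eq]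
    haveI := isAdicComplete_compl (C := T) hJfg
    exact IsAdicComplete.le_jacobson_bot _
  · set P := (J.map (algebraMap A (Compl J C))) ^ m with hP
    have hsurj : Function.Surjective (algebraMap C (Compl J C ⧸ P)) := fun y => by
      obtain ⟨x, rfl⟩ := Ideal.Quotient.mk_surjective y
      obtain ⟨c, hc⟩ := exists_sub_mem_compl hJfg x m
      rw [Ideal.map_pow] at hc
      exact ⟨c, (Ideal.Quotient.eq.mpr hc).symm⟩
    haveI : Module.Flat (Compl J C ⧸ P) ((Compl J C ⧸ P) ⊗[C] Compl J T) := inferInstance
    let N : Submodule (Compl J C) (Compl J T) := P • ⊤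
    let μ : (Compl J C ⧸ P) ⊗[C] Compl J T →ₗ[C] Compl J T ⧸ N :=
      TensorProduct.lift ((LinearMap.lsmul (Compl J C ⧸ P) (Compl J T ⧸ N)).restrictScalars₁₂ C C
        |>.compl₂ ((N.mkQ).restrictScalars C))
    have hμ : ∀ a x, μ (a ⊗ₜ x) = a • Submodule.Quotient.mk x := fun a x => rfl
    have hone : ∀ (c : C) (x : Compl J T), algebraMap C (Compl J C) c ∈ P →
        (1 : Compl J C ⧸ P) ⊗ₜ[C] (c • x) = 0 := fun c x hc => by
      rw [← TensorProduct.smul_tmul, Algebra.smul_def, mul_one,
        IsScalarTower.algebraMap_apply C (Compl J C) (Compl J C ⧸ P)]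
      rw [show algebraMap (Compl J C) (Compl J C ⧸ P) (algebraMap C (Compl J C) c) = 0 from
        Ideal.Quotient.eq_zero_iff_mem.mpr hc, TensorProduct.zero_tmul]
    have hzero : ∀ x ∈ N, (1 : Compl J C ⧸ P) ⊗ₜ[C] x = 0 := by
      intro x hx
      have hx' : x ∈ (J ^ m).map (algebraMap A C) • (⊤ : Submodule C (Compl J T)) := by
        have h1 : x ∈ N.restrictScalars C := hx
        have e : P = ((J ^ m).map (algebraMap A C)).map (algebraMap C (Compl J C)) := by
          rw [hP, ← Ideal.map_pow, Ideal.map_map, ← IsScalarTower.algebraMap_eq]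
        simp only [N, e] at h1
        rwa [Ideal.smul_restrictScalars, Submodule.restrictScalars_top] at h1
      refine Submodule.smul_induction_on hx' (fun c hc y _ => hone c y ?_) ?_
      · have := Ideal.mem_map_of_mem (algebraMap C (Compl J C)) hc
        rw [Ideal.map_map, ← IsScalarTower.algebraMap_eq, Ideal.map_pow] at this
        exact this
      · intro a b ha hb
        rw [TensorProduct.tmul_add, ha, hb, add_zero]
    have hbij : Function.Bijective μ := by
      refine ⟨(injective_iff_map_eq_zero μ).mpr fun z hz => ?_, fun y => ?_⟩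
      · obtain ⟨x, rfl⟩ : ∃ x, (1 : Compl J C ⧸ P) ⊗ₜ[C] x = z := by
          clear hz
          induction z with
          | zero => exact ⟨0, TensorProduct.tmul_zero _ _⟩
          | add a b ha hb =>
            obtain ⟨x, rfl⟩ := ha
            obtain ⟨y, rfl⟩ := hb
            exact ⟨x + y, TensorProduct.tmul_add _ _ _⟩
          | tmul a x =>
            obtain ⟨c, rfl⟩ := hsurj a
            exact ⟨c • x, by rw [← TensorProduct.smul_tmul, Algebra.smul_def, mul_one]⟩
        rw [hμ, one_smul, Submodule.Quotient.mk_eq_zero] at hz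
        exact hzero x hz
      · obtain ⟨x, rfl⟩ := Submodule.mkQ_surjective _ y
        exact ⟨1 ⊗ₜ x, by rw [hμ, one_smul]; rfl⟩
    exact Module.Flat.of_linearEquiv ((LinearEquiv.ofBijective μ hbij).extendScalarsOfSurjective hsurj).symm

end Groth.Agent.Frg27
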