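import Groth.Agent.CAlg1.Complete
import Groth.Agent.AdicC27.Approx
import Groth.Agent.S8822
import Mathlib.RingTheory.Ideal.KrullsHeightTheorem
import Mathlib.RingTheory.Henselian
import Mathlib.RingTheory.KrullDimension.Field

/-!
Rig-closed primes of complete Noetherian rings.
-/

set_option autoImplicit false

universe u

namespace Groth.Agent.Frg27

/-- `q` does not contain `I` and is maximal among such primes. -/
def IsRig {A : Type u} [CommRing A] (I : Ideal A) (q : PrimeSpectrum A) : Prop :=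
  ¬ I ≤ q.asIdeal ∧ ∀ y : PrimeSpectrum A, q ≤ y → ¬ I ≤ y.asIdeal → y = q

/-- Completeness for a power gives completeness. -/
theorem isAdicComplete_of_pow {A : Type u} [CommRing A] {K : Ideal A} {N : ℕ}
    [IsAdicComplete (K ^ (N + 1)) A] : IsAdicComplete K A where
  haus' x hx := IsHausdorff.haus (I := K ^ (N + 1)) inferInstance x fun n => by
    rw [← pow_mul]
    exact hx _
  prec' f hf := by
    obtain ⟨L, hL⟩ := IsPrecomplete.prec (I := K ^ (N + 1)) (f := fun n => f ((N + 1) * n)) inferInstance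
      fun {m n} hmn => by
        rw [← pow_mul]
        exact hf (Nat.mul_le_mul le_rfl hmn)
    refine ⟨L, fun n => (hf (Nat.le_mul_of_pos_left n (Nat.succ_pos N))).trans ?_⟩
    have h := hL n
    rw [← pow_mul] at h
    exact h.mono (Submodule.smul_mono_left (Ideal.pow_le_pow_right (Nat.le_mul_of_pos_left n (Nat.succ_pos N))))

section Domain

variable {D : Type u} [CommRing D] [IsDomain D] [IsNoetherianRing D]

theorem krullDimLE_one_of_forall_mem {x : D} (hx : x ≠ 0)
    (h : ∀ P : Ideal D, P.IsPrime → P ≠ ⊥ → x ∈ P) : Ring.KrullDimLE 1 D := by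
  refine Ring.KrullDimLE.mk₁' fun P hP0 hP => ?_
  obtain ⟨M, hM, hPM⟩ := Ideal.exists_le_maximal P hP.ne_top
  by_cases hPM' : P = M
  · exact hPM' ▸ hM
  exfalso
  have hlt : P < M := lt_of_le_of_ne hPM hPM'
  have hfin := Ideal.finite_minimalPrimes_of_isNoetherianRing D (Ideal.span {x})
  classical
  obtain ⟨Q, hQ, hMQ⟩ : ∃ Q ∈ hfin.toFinset, M ≤ Q := by
    refine (Ideal.subset_union_prime (f := id) ⊥ ⊥ fun Q hQ _ _ =>
      (hfin.mem_toFinset.mp hQ).1.1).mp ?_
    intro y hy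
    simp only [Set.mem_iUnion, Finset.mem_coe, id_eq, SetLike.mem_coe]
    by_cases hy0 : y = 0
    · obtain ⟨Q, hQ, -⟩ := Ideal.exists_minimalPrimes_le
        ((Ideal.span_singleton_le_iff_mem _).mpr (h M hM.isPrime (fun e => hP0 (le_bot_iff.mp (e ▸ hPM)))))
      exact ⟨Q, hfin.mem_toFinset.mpr hQ, hy0 ▸ Q.zero_mem⟩
    obtain ⟨Q, hQ, hQM⟩ := Ideal.exists_minimalPrimes_le
      ((Ideal.span_singleton_le_iff_mem _).mpr hy : Ideal.span {y} ≤ M)
    have hyQ : y ∈ Q := hQ.1.2 (Ideal.mem_span_singleton_self y)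
    haveI := hQ.1.1
    have hQ0 : Q ≠ ⊥ := fun e => hy0 (by rwa [e] at hyQ)
    refine ⟨Q, hfin.mem_toFinset.mpr ?_, hyQ⟩
    obtain ⟨Q', hQ', hQ'Q⟩ := Ideal.exists_minimalPrimes_le
      ((Ideal.span_singleton_le_iff_mem _).mpr (h Q hQ.1.1 hQ0) : Ideal.span {x} ≤ Q)
    by_cases he : Q' = Q
    · exact he ▸ hQ'
    exfalso
    haveI := hQ'.1.1
    have hQ'0 : Q' ≠ ⊥ := fun e => hx (by
      have := hQ'.1.2 (Ideal.mem_span_singleton_self x)
      rwa [e] at this)
    have h1 := Ideal.height_le_one_of_isPrincipal_of_mem_minimalPrimes _ Q hQ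
    have h2 : Ideal.height (⊥ : Ideal D) < Q'.height :=
      Ideal.height_strict_mono_of_isPrime (bot_lt_iff_ne_bot.mpr hQ'0)
    have h3 : Q'.height < Q.height :=
      Ideal.height_strict_mono_of_isPrime (lt_of_le_of_ne hQ'Q he)
    rw [Ideal.height_bot] at h2
    have h4 := Order.one_le_iff_pos.mpr h2
    exact absurd (lt_of_le_of_lt h4 h3) (not_lt.mpr h1)
  have hQ' := hfin.mem_toFinset.mp hQ
  haveI := hQ'.1.1
  haveI := hP
  have h1 := Ideal.height_le_one_of_isPrincipal_of_mem_minimalPrimes _ Q hQ'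
  have h2 : Ideal.height (⊥ : Ideal D) < P.height :=
    Ideal.height_strict_mono_of_isPrime (bot_lt_iff_ne_bot.mpr hP0)
  have h3 : P.height < Q.height := Ideal.height_strict_mono_of_isPrime (lt_of_lt_of_le hlt hMQ)
  rw [Ideal.height_bot] at h2
  exact absurd (lt_of_le_of_lt (Order.one_le_iff_pos.mpr h2) h3) (not_lt.mpr h1)

theorem ringKrullDim_eq_one_of {J : Ideal D} (hJ0 : J ≠ ⊥) (hJ : J ≠ ⊤) [Ring.KrullDimLE 1 D] :
    ringKrullDim D = 1 := by
  refine le_antisymm (Ring.krullDimLE_iff.mp inferInstance) ?_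
  obtain ⟨M, hM, hJM⟩ := Ideal.exists_le_maximal J hJ
  have hM0 : (⊥ : Ideal D) < M := bot_lt_iff_ne_bot.mpr fun e => hJ0 (le_bot_iff.mp (e ▸ hJM))
  refine le_trans ?_ (Ideal.height_le_ringKrullDim_of_ne_top hM.ne_top)
  have h2 : Ideal.height (⊥ : Ideal D) < M.height := Ideal.height_strict_mono_of_isPrime hM0
  rw [Ideal.height_bot] at h2
  exact_mod_cast Order.one_le_iff_pos.mpr h2

variable {J : Ideal D} [IsAdicComplete J D]

theorem isLocalRing_of_dim_one (hJ0 : J ≠ ⊥) [Ring.KrullDimLE 1 D] :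
    IsLocalRing D ∧ (∀ m : Ideal D, m.IsMaximal → m = J.radical) ∧ IsAdicComplete J.radical D := by
  have hJjac := IsAdicComplete.le_jacobson_bot J
  have hmax : ∀ m : Ideal D, m.IsMaximal → J ≤ m := fun m hm => hJjac.trans (sInf_le ⟨bot_le, hm⟩)
  haveI hrad : IsAdicComplete J.radical D := by
    obtain ⟨N, hN⟩ := Ideal.exists_radical_pow_le_of_fg J (IsNoetherian.noetherian _)
    have hd : IsAdicComplete (J.radical ^ (N + 1)) D :=
      CAlg1.isAdicComplete_of_le ((Ideal.pow_le_pow_right (Nat.le_succ N)).trans hN)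
        (IsNoetherian.noetherian _)
    exact isAdicComplete_of_pow (N := N)
  have hprime : ∀ P : Ideal D, J ≤ P → P.IsPrime → P.IsMaximal := fun P hle hP =>
    hP.isMaximal_of_ne_bot fun e => hJ0 (le_bot_iff.mp (e ▸ hle))
  have huniq : ∀ m1 m2 : Ideal D, m1.IsMaximal → m2.IsMaximal → m1 = m2 := by
    intro m1 m2 h1 h2
    by_contra hne
    classical
    have hfin := Ideal.finite_minimalPrimes_of_isNoetherianRing D J
    have hmin : ∀ m : Ideal D, m.IsMaximal → m ∈ J.minimalPrimes := fun m hm => by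
      obtain ⟨Q, hQ, hQm⟩ := Ideal.exists_minimalPrimes_le (hmax m hm)
      exact ((hprime Q hQ.1.2 hQ.1.1).eq_of_le hm.ne_top hQm) ▸ hQ
    have hcop : m1 ⊔ (hfin.toFinset.erase m1).inf id = ⊤ := by
      rw [Finset.inf_eq_iInf]
      refine Ideal.sup_iInf_eq_top fun Q hQ => ?_
      obtain ⟨hQ1, hQ2⟩ := Finset.mem_erase.mp hQ
      have hQ' := hfin.mem_toFinset.mp hQ2
      exact Ideal.IsMaximal.coprime_of_ne h1 (hprime Q hQ'.1.2 hQ'.1.1) (Ne.symm hQ1)
    obtain ⟨a, ha, b, hb, hab⟩ := Submodule.mem_sup.mp (hcop ▸ Submodule.mem_top : (1 : D) ∈ _)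
    have hb' : ∀ Q ∈ J.minimalPrimes, Q ≠ m1 → b ∈ Q := fun Q hQ hne' =>
      (Finset.inf_le (f := id) (Finset.mem_erase.mpr ⟨hne', hfin.mem_toFinset.mpr hQ⟩)) hb
    have hprod : a * b ∈ J.radical := by
      rw [← Ideal.sInf_minimalPrimes, Submodule.mem_sInf]
      intro Q hQ
      by_cases e : Q = m1
      · exact e ▸ Ideal.mul_mem_right _ _ ha
      · exact Ideal.mul_mem_left _ _ (hb' Q hQ e)
    have hu : IsUnit (a - b) := by
      by_contra hnu
      obtain ⟨m, hm, hmem⟩ := exists_max_ideal_of_mem_nonunits hnu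
      refine hm.ne_top ((Ideal.eq_top_iff_one m).mpr ?_)
      by_cases e : m = m1
      · subst e
        have : b ∈ m := by simpa using sub_mem ha hmem
        exact hab ▸ add_mem ha this
      · have hbm := hb' m (hmin m hm) e
        have : a ∈ m := by simpa using add_mem hmem hbm
        exact hab ▸ add_mem this hbm
    haveI : HenselianRing D J.radical := inferInstance
    obtain ⟨r, hr, hra⟩ := HenselianRing.is_henselian (I := J.radical)
      (Polynomial.X * (Polynomial.X - Polynomial.C 1)) (Polynomial.monic_X.mul (Polynomial.monic_X_sub_C 1)) a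
      (by
        have : a - 1 = -b := by rw [← hab]; ring
        simp only [Polynomial.eval_mul, Polynomial.eval_X, Polynomial.eval_sub, Polynomial.eval_C, this,
          mul_neg]
        exact neg_mem hprod)
      (by
        refine IsUnit.map _ ?_
        have : a - 1 + a = a - b := by rw [← hab]; ring
        simpa [Polynomial.derivative_mul, this] using hu)
    simp only [Polynomial.IsRoot, Polynomial.eval_mul, Polynomial.eval_X, Polynomial.eval_sub,
      Polynomial.eval_C, mul_eq_zero, sub_eq_zero] at hr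
    have hr1 : r - a ∈ m1 := Ideal.IsPrime.radical_le_iff h1.isPrime |>.mpr (hmax m1 h1) hra
    have hr2 : r - a ∈ m2 := Ideal.IsPrime.radical_le_iff h2.isPrime |>.mpr (hmax m2 h2) hra
    rcases hr with rfl | rfl
    · rw [zero_sub, neg_mem_iff] at hr2
      exact h2.ne_top ((Ideal.eq_top_iff_one _).mpr (hab ▸ add_mem hr2 (hb' m2 (hmin m2 h2) (Ne.symm hne))))
    · exact h1.ne_top ((Ideal.eq_top_iff_one _).mpr (by simpa using add_mem hr1 ha))
  obtain ⟨m, hm⟩ := Ideal.exists_maximal D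
  refine ⟨IsLocalRing.of_unique_max_ideal ⟨m, hm, fun m' hm' => huniq m' m hm' hm⟩, fun m' hm' => ?_, hrad⟩
  refine le_antisymm ?_ ((Ideal.IsPrime.radical_le_iff hm'.isPrime).mpr (hmax m' hm'))
  rw [← Ideal.sInf_minimalPrimes]
  exact le_sInf fun Q hQ => (huniq m' Q hm' (hprime Q hQ.1.2 hQ.1.1)).le

end Domain

variable {A : Type u} [CommRing A] [IsNoetherianRing A] (I : Ideal A) [IsAdicComplete I A]

theorem isAdicComplete_quotient (J : Ideal A) :
    IsAdicComplete (I.map (Ideal.Quotient.mk J)) (A ⧸ J) := by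
  haveI : IsAdicComplete (I.map (algebraMap A A)) A := by rwa [Algebra.algebraMap_self, Ideal.map_id]
  exact S8822.result A I A inferInstance J

omit [IsAdicComplete I A] [IsNoetherianRing A] in
theorem map_ne_bot_iff {q : Ideal A} : I.map (Ideal.Quotient.mk q) ≠ ⊥ ↔ ¬ I ≤ q := by
  rw [Ne, Ideal.map_eq_bot_iff_le_ker, Ideal.mk_ker]

theorem map_ne_top (q : PrimeSpectrum A) : I.map (Ideal.Quotient.mk q.asIdeal) ≠ ⊤ := fun e => by
  haveI := isAdicComplete_quotient I q.asIdeal
  have := IsAdicComplete.le_jacobson_bot (I.map (Ideal.Quotient.mk q.asIdeal))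
  rw [e, top_le_iff, Ideal.jacobson_eq_top_iff] at this
  exact (Ideal.bot_prime (α := A ⧸ q.asIdeal)).ne_top this

variable {I}

theorem IsRig.krullDimLE_one {q : PrimeSpectrum A} (hq : IsRig I q) :
    Ring.KrullDimLE 1 (A ⧸ q.asIdeal) := by
  obtain ⟨a, ha, haq⟩ := SetLike.not_le_iff_exists.mp hq.1
  refine krullDimLE_one_of_forall_mem (x := Ideal.Quotient.mk _ a)
    (fun e => haq (Ideal.Quotient.eq_zero_iff_mem.mp e)) fun P hP hP0 => ?_
  by_contra hmem
  haveI := hP
  have hle : q.asIdeal ≤ P.comap (Ideal.Quotient.mk q.asIdeal) := by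
    intro z hz
    rw [Ideal.mem_comap, Ideal.Quotient.eq_zero_iff_mem.mpr hz]
    exact P.zero_mem
  have := hq.2 ⟨P.comap (Ideal.Quotient.mk q.asIdeal), inferInstance⟩ hle fun h => hmem (h ha)
  refine hP0 (Ideal.comap_injective_of_surjective (Ideal.Quotient.mk q.asIdeal) Ideal.Quotient.mk_surjective ?_)
  exact (congrArg PrimeSpectrum.asIdeal this).trans (by rw [← RingHom.ker_eq_comap_bot, Ideal.mk_ker])

theorem IsRig.dim_eq_one {q : PrimeSpectrum A} (hq : IsRig I q) :
    ringKrullDim (A ⧸ q.asIdeal) = 1 := by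
  haveI := hq.krullDimLE_one
  exact ringKrullDim_eq_one_of ((map_ne_bot_iff I).mpr hq.1) (map_ne_top I q)

theorem IsRig.local_data {q : PrimeSpectrum A} (hq : IsRig I q) :
    IsLocalRing (A ⧸ q.asIdeal) ∧
      (∀ m : Ideal (A ⧸ q.asIdeal), m.IsMaximal → m = (I.map (Ideal.Quotient.mk q.asIdeal)).radical) ∧
      IsAdicComplete (I.map (Ideal.Quotient.mk q.asIdeal)).radical (A ⧸ q.asIdeal) := by
  haveI := hq.krullDimLE_one
  haveI := isAdicComplete_quotient I q.asIdeal
  exact isLocalRing_of_dim_one ((map_ne_bot_iff I).mpr hq.1)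

theorem isRig_of_krullDimLE_one {q : PrimeSpectrum A} [Ring.KrullDimLE 1 (A ⧸ q.asIdeal)]
    (hI : ¬ I ≤ q.asIdeal) : IsRig I q := by
  refine ⟨hI, fun y hy hy' => ?_⟩
  by_contra hne
  haveI hP : (y.asIdeal.map (Ideal.Quotient.mk q.asIdeal)).IsPrime :=
    Ideal.map_isPrime_of_surjective Ideal.Quotient.mk_surjective (by rw [Ideal.mk_ker]; exact hy)
  have h0 : y.asIdeal.map (Ideal.Quotient.mk q.asIdeal) ≠ ⊥ := by
    rw [map_ne_bot_iff]
    exact fun h => hne (PrimeSpectrum.ext (le_antisymm h hy))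
  haveI := isAdicComplete_quotient I q.asIdeal
  have hm := hP.isMaximal_of_ne_bot h0
  have h1 : I.map (Ideal.Quotient.mk q.asIdeal) ≤ y.asIdeal.map (Ideal.Quotient.mk q.asIdeal) :=
    (IsAdicComplete.le_jacobson_bot _).trans (sInf_le ⟨bot_le, hm⟩)
  refine hy' fun z hz => ?_
  have := h1 (Ideal.mem_map_of_mem _ hz)
  rw [Ideal.mem_quotient_iff_mem hy] at this
  exact this

theorem isRig_iff {q : PrimeSpectrum A} :
    IsRig I q ↔ ringKrullDim (A ⧸ q.asIdeal) = 1 ∧ ¬ I ≤ q.asIdeal :=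
  ⟨fun h => ⟨h.dim_eq_one, h.1⟩, fun ⟨h, hI⟩ => by
    haveI : Ring.KrullDimLE 1 (A ⧸ q.asIdeal) := Ring.krullDimLE_iff.mpr h.le
    exact isRig_of_krullDimLE_one hI⟩

end Groth.Agent.Frg27
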