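import Groth.Agent.Frg27.RigPoints
import Groth.Agent.AdicC27.Approx
import Mathlib.RingTheory.Localization.BaseChange
import Mathlib.LinearAlgebra.TensorProduct.Quotient
import Mathlib.RingTheory.TensorProduct.Finite
import Mathlib.RingTheory.Flat.Localization

/-!
Flatness at a point of a completed base change.
-/

set_option autoImplicit false

universe u

open TensorProduct

namespace Groth.Agent.Frg27

section Quotient

variable {T S : Type u} [CommRing T] [CommRing S] [Algebra T S]

theorem flat_quotientMap [Module.Flat T S] (K : Ideal T) :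
    (Ideal.quotientMap (K.map (algebraMap T S)) (algebraMap T S) Ideal.le_comap_map).Flat := by
  letI : Algebra (T ⧸ K) (S ⧸ K.map (algebraMap T S)) :=
    (Ideal.quotientMap (K.map (algebraMap T S)) (algebraMap T S) Ideal.le_comap_map).toAlgebra
  haveI : IsScalarTower T (T ⧸ K) (S ⧸ K.map (algebraMap T S)) := IsScalarTower.of_algebraMap_eq fun _ => rfl
  let e : (T ⧸ K) ⊗[T] S ≃ₗ[T ⧸ K] S ⧸ K.map (algebraMap T S) :=
    ((quotTensorEquivQuotSMul S K).trans
      ((Submodule.quotEquivOfEq _ ((K.map (algebraMap T S)).restrictScalars T) (by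
        rw [Ideal.smul_top_eq_map])).trans
        (Submodule.Quotient.restrictScalarsEquiv T _))).extendScalarsOfSurjective Ideal.Quotient.mk_surjective
  exact Module.Flat.of_linearEquiv e.symm

theorem flat_tensor_of_quotientMap (K : Ideal T)
    (h : (Ideal.quotientMap (K.map (algebraMap T S)) (algebraMap T S) Ideal.le_comap_map).Flat) :
    Module.Flat (T ⧸ K) ((T ⧸ K) ⊗[T] S) := by
  letI : Algebra (T ⧸ K) (S ⧸ K.map (algebraMap T S)) :=
    (Ideal.quotientMap (K.map (algebraMap T S)) (algebraMap T S) Ideal.le_comap_map).toAlgebra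
  haveI : IsScalarTower T (T ⧸ K) (S ⧸ K.map (algebraMap T S)) := IsScalarTower.of_algebraMap_eq fun _ => rfl
  haveI : Module.Flat (T ⧸ K) (S ⧸ K.map (algebraMap T S)) := h
  let e : (T ⧸ K) ⊗[T] S ≃ₗ[T ⧸ K] S ⧸ K.map (algebraMap T S) :=
    ((quotTensorEquivQuotSMul S K).trans
      ((Submodule.quotEquivOfEq _ ((K.map (algebraMap T S)).restrictScalars T) (by
        rw [Ideal.smul_top_eq_map])).trans
        (Submodule.Quotient.restrictScalarsEquiv T _))).extendScalarsOfSurjective Ideal.Quotient.mk_surjective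
  exact Module.Flat.of_linearEquiv e

end Quotient

/-- A flat algebra over `C ⊗ B` in which the complement of a prime `Q` of `B` is invertible is flat
over `C` if `B_Q` is flat over the base. -/
theorem flat_baseChange_localization {R C B L : Type u} [CommRing R] [CommRing C] [CommRing B]
    [CommRing L] [Algebra R C] [Algebra R B] (Q : Ideal B) [Q.IsPrime]
    (h : ((algebraMap B (Localization.AtPrime Q)).comp (algebraMap R B)).Flat)
    (ι : C ⊗[R] B →+* L) (hι : ι.Flat)
    (hu : ∀ b ∉ Q, IsUnit (ι ((1 : C) ⊗ₜ[R] b))) :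
    (ι.comp (algebraMap C (C ⊗[R] B))).Flat := by
  let BQ := Localization.AtPrime Q
  haveI : Module.Flat R BQ := by
    rw [← IsScalarTower.algebraMap_eq] at h
    exact RingHom.flat_algebraMap_iff.mp h
  letI : Algebra (C ⊗[R] B) (C ⊗[R] BQ) :=
    (Algebra.TensorProduct.map (AlgHom.id R C) (IsScalarTower.toAlgHom R B BQ)).toAlgebra
  haveI : IsScalarTower C (C ⊗[R] B) (C ⊗[R] BQ) :=
    .of_algebraMap_eq <| by intro; simp [RingHom.algebraMap_toAlgebra]
  set M := Q.primeCompl.map (Algebra.TensorProduct.includeRight (R := R) (A := C))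
  haveI : IsLocalization M (C ⊗[R] BQ) :=
    IsLocalization.tensorProduct_tensorProduct_right R C Q.primeCompl BQ
      (by ext; simp [RingHom.algebraMap_toAlgebra])
  have hM : ∀ y : M, IsUnit (ι y) := by
    rintro ⟨-, b, hb, rfl⟩
    exact hu b hb
  let j : C ⊗[R] BQ →+* L := IsLocalization.lift hM
  letI : Algebra (C ⊗[R] B) L := ι.toAlgebra
  letI : Algebra (C ⊗[R] BQ) L := j.toAlgebra
  haveI : IsScalarTower (C ⊗[R] B) (C ⊗[R] BQ) L :=
    .of_algebraMap_eq fun x => (IsLocalization.lift_eq hM x).symm
  haveI : Module.Flat (C ⊗[R] B) L := hι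
  haveI : Module.Flat (C ⊗[R] BQ) L :=
    (Module.flat_iff_of_isLocalization (C ⊗[R] BQ) M L).mpr inferInstance
  have e : ι.comp (algebraMap C (C ⊗[R] B)) = j.comp (algebraMap C (C ⊗[R] BQ)) := by
    rw [IsScalarTower.algebraMap_eq C (C ⊗[R] B) (C ⊗[R] BQ), ← RingHom.comp_assoc, IsLocalization.lift_comp]
  rw [e]
  exact RingHom.Flat.comp (RingHom.flat_algebraMap_iff.mpr inferInstance) (‹Module.Flat (C ⊗[R] BQ) L› : j.Flat)

theorem finite_of_finite_nilradical {R D : Type u} [CommRing R] [CommRing D] [IsNoetherianRing D]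
    [Algebra R D] {m : Ideal D} (hm : m ≤ (⊥ : Ideal D).radical) [Module.Finite R (D ⧸ m)] :
    Module.Finite R D := by
  haveI : IsAdicComplete ((⊥ : Ideal R).map (algebraMap R D)) D := by
    rw [Ideal.map_bot]
    infer_instance
  exact finite_of_finite_residue (I := (⊥ : Ideal R)) (m := m) (by rwa [Ideal.map_bot])

/-- Flatness of a completed base change `T` of `B → A'` along `A' → C`, given by its universal
property, at a point `q`. -/
theorem flat_at_of_pushout {A : Type u} [CommRing A] [IsNoetherianRing A] {I : Ideal A}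
    {A' B C T : Type u} [CommRing A'] [CommRing B] [CommRing C] [CommRing T]
    [IsNoetherianRing A'] [IsNoetherianRing B] [IsNoetherianRing C] [IsNoetherianRing T]
    [Algebra A A'] [Algebra A B] [Algebra A C] [Algebra A T] [Algebra C T] [IsScalarTower A C T]
    [IsAdicComplete (I.map (algebraMap A B)) B] [IsAdicComplete (I.map (algebraMap A T)) T]
    (χ : A' →ₐ[A] C) (ψB : A' →ₐ[A] B) (Λ : B →ₐ[A] T)
    (hcomm : ∀ a, algebraMap C T (χ a) = Λ (ψB a))
    (hlift : ∀ (Z : Type u) [CommRing Z] [Algebra A Z] [IsAdicComplete (I.map (algebraMap A Z)) Z]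
      (v : C →ₐ[A] Z) (w : B →ₐ[A] Z), (∀ a, v (χ a) = w (ψB a)) →
        ∃ θ : T →ₐ[A] Z, (∀ c, θ (algebraMap C T c) = v c) ∧ ∀ b, θ (Λ b) = w b)
    (hext : ∀ (Z : Type u) [CommRing Z] [Algebra A Z] [IsAdicComplete (I.map (algebraMap A Z)) Z]
      (θ θ' : T →ₐ[A] Z), (∀ c, θ (algebraMap C T c) = θ' (algebraMap C T c)) →
        (∀ b, θ (Λ b) = θ' (Λ b)) → θ = θ')
    (q : PrimeSpectrum T)
    (hfin : ((Ideal.Quotient.mk q.asIdeal).comp ((algebraMap C T).comp χ.toRingHom)).Finite)
    (hflat : ((algebraMap B (Localization.AtPrime (PrimeSpectrum.comap Λ.toRingHom q).asIdeal)).comp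
      ψB.toRingHom).Flat) :
    Module.Flat C (Localization.AtPrime q.asIdeal) := by
  letI : Algebra A' C := χ.toRingHom.toAlgebra
  letI : Algebra A' B := ψB.toRingHom.toAlgebra
  letI : Algebra A' T := ((algebraMap C T).comp χ.toRingHom).toAlgebra
  haveI : IsScalarTower A A' C := .of_algebraMap_eq fun a => (χ.commutes a).symm
  haveI : IsScalarTower A A' B := .of_algebraMap_eq fun a => (ψB.commutes a).symm
  haveI : IsScalarTower A' C T := .of_algebraMap_eq fun _ => rfl
  haveI : IsScalarTower A A' T := .of_algebraMap_eq fun a =>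
    (IsScalarTower.algebraMap_apply A C T a).trans (congrArg (algebraMap C T) (χ.commutes a).symm)
  let S := Localization.AtPrime q.asIdeal
  haveI : IsNoetherianRing S := IsLocalization.isNoetherianRing q.asIdeal.primeCompl _ inferInstance
  let P : Ideal C := q.asIdeal.comap (algebraMap C T)
  haveI hfinP : Module.Finite A' (C ⧸ P) := by
    haveI : Module.Finite A' (T ⧸ q.asIdeal) := RingHom.finite_algebraMap.mp hfin
    exact Module.Finite.of_injective (Ideal.quotientMapₐ q.asIdeal (IsScalarTower.toAlgHom A' C T) le_rfl).toLinearMap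
      Ideal.quotientMap_injective
  refine FlatCrit65.flat_of_lexQuot (S := S) (M := S) (I := P) ?_
    (FlatCrit65.lexQuot_of_flat fun n => flat_tensor_of_quotientMap _ ?_)
  · rw [IsLocalRing.jacobson_eq_maximalIdeal ⊥ bot_ne_top, Ideal.map_le_iff_le_comap]
    intro c hc
    rw [Ideal.mem_comap, IsScalarTower.algebraMap_apply C T S,
      IsLocalization.AtPrime.to_map_mem_maximal_iff S q.asIdeal]
    exact hc
  -- the truncation
  let K := P ^ n
  haveI : Module.Finite A' (C ⧸ K) := by
    have hle : K ≤ P ∨ n = 0 := by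
      rcases n with _ | n
      · exact Or.inr rfl
      · exact Or.inl (Ideal.pow_le_self n.succ_ne_zero)
    rcases hle with hle | rfl
    · let f := Ideal.Quotient.factorₐ A' hle
      haveI : Module.Finite A' ((C ⧸ K) ⧸ P.map (Ideal.Quotient.mk K)) :=
        Module.Finite.equiv (DoubleQuot.quotQuotEquivQuotOfLEₐ A' hle).toLinearEquiv.symm
      refine finite_of_finite_nilradical (m := P.map (Ideal.Quotient.mk K)) fun x hx => ⟨n, ?_⟩
      have h := Ideal.pow_mem_pow hx n
      rw [← Ideal.map_pow, Ideal.map_quotient_self] at h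
      exact h
    · haveI : Subsingleton (C ⧸ K) := Ideal.Quotient.subsingleton_iff.mpr (by rw [show K = P ^ 0 from rfl, pow_zero, Ideal.one_eq_top])
      infer_instance
  let KT := K.map (algebraMap C T)
  let W := (C ⧸ K) ⊗[A'] B
  haveI : IsScalarTower A A' W := inferInstance
  haveI : IsAdicComplete (I.map (algebraMap A W)) W := by
    letI : Algebra B W := Algebra.TensorProduct.rightAlgebra
    haveI : IsScalarTower A B W := .of_algebraMap_eq fun a => by
      change algebraMap A W a = (1 : C ⧸ K) ⊗ₜ[A'] algebraMap A B a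
      rw [IsScalarTower.algebraMap_apply A A' W, IsScalarTower.algebraMap_apply A A' B]
      exact ((Algebra.TensorProduct.includeRight : B →ₐ[A'] W).commutes _).symm
    haveI : Module.Finite B W :=
      Module.Finite.equiv (Algebra.TensorProduct.commRight A' B (C ⧸ K)).toLinearEquiv
    haveI := AdicC27.isAdicComplete_of_finite (I := I.map (algebraMap A B)) W
    rw [← map_eq_of_tower (J := I) (R := A) (S := B) (T := W)]
    exact (IsAdicComplete.map_algebraMap_iff _ _).mpr inferInstance
  let v : C →ₐ[A] W := ((Algebra.TensorProduct.includeLeft : C ⧸ K →ₐ[A'] W).restrictScalars A).comp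
    (Ideal.Quotient.mkₐ A K)
  let w : B →ₐ[A] W := (Algebra.TensorProduct.includeRight : B →ₐ[A'] W).restrictScalars A
  obtain ⟨θ, hθC, hθB⟩ := hlift W v w fun a => by
    change Ideal.Quotient.mk K (χ a) ⊗ₜ[A'] (1 : B) = (1 : C ⧸ K) ⊗ₜ[A'] algebraMap A' B a
    rw [← Algebra.TensorProduct.tmul_one_eq_one_tmul]
    rfl
  let η : W →ₐ[A'] T ⧸ KT := Algebra.TensorProduct.lift
    (Ideal.quotientMapₐ KT (IsScalarTower.toAlgHom A' C T) Ideal.le_comap_map)
    ((Ideal.Quotient.mkₐ A' KT).comp
      { Λ.toRingHom with commutes' := fun a => (hcomm a).symm })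
    (fun _ _ => Commute.all _ _)
  have hη : ∀ c b, η (Ideal.Quotient.mk K c ⊗ₜ b) = Ideal.Quotient.mk KT (algebraMap C T c * Λ b) :=
    fun c b => (Algebra.TensorProduct.lift_tmul _ _ _ _ _).trans
      (map_mul (Ideal.Quotient.mk KT) _ _).symm
  haveI : IsAdicComplete (I.map (algebraMap A (T ⧸ KT))) (T ⧸ KT) := complete_quotient KT
  have hηθ : ∀ t, η (θ t) = Ideal.Quotient.mk KT t := AlgHom.congr_fun
    (hext (T ⧸ KT) ((η.restrictScalars A).comp θ) (Ideal.Quotient.mkₐ A KT)
      (fun c => by
        change η (θ (algebraMap C T c)) = _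
        rw [hθC]
        exact (hη c 1).trans (by rw [map_one, mul_one]; rfl))
      (fun b => by
        change η (θ (Λ b)) = _
        rw [hθB]
        exact ((congrArg η (by rw [map_one]; rfl : w b = Ideal.Quotient.mk K 1 ⊗ₜ b)).trans (hη 1 b)).trans
          (by rw [map_one, one_mul]; rfl)))
  have hker : ∀ t ∈ KT, θ t = 0 := by
    intro t ht
    have h := Ideal.mem_map_of_mem θ.toRingHom ht
    rw [Ideal.map_map] at h
    refine (Ideal.map_eq_bot_iff_le_ker _).mpr ?_ |>.le h
    intro c hc
    change θ (algebraMap C T c) = 0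
    rw [hθC]
    change Ideal.Quotient.mk K c ⊗ₜ[A'] (1 : B) = 0
    rw [Ideal.Quotient.eq_zero_iff_mem.mpr hc, TensorProduct.zero_tmul]
  let θ' : T ⧸ KT →ₐ[A] W := Ideal.Quotient.liftₐ KT θ hker
  have hleft : ∀ z, θ' (η z) = z := by
    intro z
    induction z using TensorProduct.induction_on with
    | zero => simp
    | add a b ha hb => rw [map_add, map_add, ha, hb]
    | tmul c b =>
      obtain ⟨c, rfl⟩ := Ideal.Quotient.mk_surjective c
      rw [hη]
      change θ (algebraMap C T c * Λ b) = _
      rw [map_mul, hθC, hθB]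
      exact (Algebra.TensorProduct.tmul_mul_tmul _ _ _ _).trans (by rw [mul_one, one_mul]; rfl)
  have hηbij : Function.Bijective η :=
    ⟨Function.LeftInverse.injective hleft, fun y => by
      obtain ⟨t, rfl⟩ := Ideal.Quotient.mk_surjective y
      exact ⟨θ t, hηθ t⟩⟩
  let L := S ⧸ KT.map (algebraMap T S)
  haveI : Module.Flat T S := IsLocalization.flat S q.asIdeal.primeCompl
  let ι : W →+* L :=
    (Ideal.quotientMap (KT.map (algebraMap T S)) (algebraMap T S) Ideal.le_comap_map).comp η.toRingHom
  have hι : ι.Flat :=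
    (RingHom.Flat.of_bijective hηbij).comp (flat_quotientMap KT)
  have h := flat_baseChange_localization (C := C ⧸ K) (PrimeSpectrum.comap Λ.toRingHom q).asIdeal hflat ι hι
    fun b hb => by
      have e : ι ((1 : C ⧸ K) ⊗ₜ[A'] b) = Ideal.Quotient.mk _ (algebraMap T S (Λ b)) := by
        have h1 := hη 1 b
        rw [map_one, map_one, one_mul] at h1
        exact congrArg (Ideal.quotientMap (KT.map (algebraMap T S)) (algebraMap T S) Ideal.le_comap_map) h1
      rw [e]
      exact (IsLocalization.map_units S (⟨Λ b, hb⟩ : q.asIdeal.primeCompl)).map _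
  have hle : (K.map (algebraMap C S)) = KT.map (algebraMap T S) :=
    ((Ideal.map_map _ _).trans (congrArg (fun φ => Ideal.map φ K) (IsScalarTower.algebraMap_eq C T S).symm)).symm
  have h' := h.comp (RingHom.Flat.of_bijective (f := (Ideal.quotEquivOfEq hle.symm).toRingHom)
    (Ideal.quotEquivOfEq hle.symm).bijective)
  convert h' using 1
  refine Ideal.Quotient.ringHom_ext (RingHom.ext fun c => ?_)
  simp only [RingHom.comp_apply]
  have e : ι ((Ideal.Quotient.mk K c) ⊗ₜ[A'] (1 : B)) =
      Ideal.Quotient.mk (KT.map (algebraMap T S)) (algebraMap T S (algebraMap C T c)) := by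
    have h1 := hη c 1
    rw [map_one, mul_one] at h1
    exact congrArg (Ideal.quotientMap (KT.map (algebraMap T S)) (algebraMap T S) Ideal.le_comap_map) h1
  exact (congrArg (Ideal.Quotient.mk _) (IsScalarTower.algebraMap_apply C T S c)).trans
    (congrArg (Ideal.quotEquivOfEq hle.symm) e).symm

section Tensor

variable {A : Type u} [CommRing A] [IsNoetherianRing A] {I : Ideal A}

/-- Maps out of a completed localization of an `A`-algebra are determined on that algebra. -/
theorem cl_ext_base {S : Type u} [CommRing S] [IsNoetherianRing S] [Algebra A S] {g : S}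
    {Z : Type u} [CommRing Z] [Algebra A Z] [IsAdicComplete (I.map (algebraMap A Z)) Z]
    (φ ψ : CL (I.map (algebraMap A S)) g →ₐ[A] Z)
    (h : ∀ s, φ (algebraMap S _ s) = ψ (algebraMap S _ s)) : φ = ψ := by
  letI : Algebra S Z := (φ.toRingHom.comp (algebraMap S _)).toAlgebra
  haveI : IsScalarTower A S Z := .of_algebraMap_eq fun a =>
    ((congrArg φ (IsScalarTower.algebraMap_apply A S _ a).symm).trans (φ.commutes a)).symm
  haveI : IsAdicComplete ((I.map (algebraMap A S)).map (algebraMap S Z)) Z := complete_tower inferInstance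
  exact AlgHom.ext fun x => AlgHom.congr_fun (cl_algHom_ext
    { φ.toRingHom with commutes' := fun _ => rfl } { ψ.toRingHom with commutes' := fun s => (h s).symm }) x

variable {C B : Type u} [CommRing C] [CommRing B] [Algebra A C] [Algebra A B] [IsNoetherianRing C]
  {Z : Type u} [CommRing Z] [Algebra A Z] [IsAdicComplete (I.map (algebraMap A Z)) Z]

theorem ct_ext (θ θ' : AdicCompletion ((I.map (algebraMap A C)).map (algebraMap C (TensorProduct A C B)))
      (TensorProduct A C B) →ₐ[A] Z)
    (hC : ∀ c, θ (algebraMap C _ c) = θ' (algebraMap C _ c))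
    (hB : ∀ b : B, θ (algebraMap (C ⊗[A] B) _ ((1 : C) ⊗ₜ b)) = θ' (algebraMap (C ⊗[A] B) _ ((1 : C) ⊗ₜ b))) :
    θ = θ' := by
  letI : Algebra C Z := (θ.toRingHom.comp (algebraMap C _)).toAlgebra
  haveI : IsScalarTower A C Z := .of_algebraMap_eq fun a =>
    ((congrArg θ (IsScalarTower.algebraMap_apply A C _ a).symm).trans (θ.commutes a)).symm
  haveI : IsAdicComplete ((I.map (algebraMap A C)).map (algebraMap C Z)) Z := complete_tower inferInstance
  let θC : AdicCompletion ((I.map (algebraMap A C)).map (algebraMap C (TensorProduct A C B)))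
      (TensorProduct A C B) →ₐ[C] Z := { θ.toRingHom with commutes' := fun _ => rfl }
  let θC' : AdicCompletion ((I.map (algebraMap A C)).map (algebraMap C (TensorProduct A C B)))
      (TensorProduct A C B) →ₐ[C] Z := { θ'.toRingHom with commutes' := fun c => (hC c).symm }
  have hD : θC = θC' := by
    refine compl_hom_ext (IsNoetherian.noetherian _) fun y => ?_
    induction y using TensorProduct.induction_on with
    | zero => simp
    | add a b ha hb => simp only [map_add, ha, hb]
    | tmul c b =>
      rw [show c ⊗ₜ[A] b = algebraMap C (C ⊗[A] B) c * ((1 : C) ⊗ₜ b) by simp,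
        map_mul, map_mul, map_mul, ← IsScalarTower.algebraMap_apply, AlgHom.commutes, AlgHom.commutes]
      exact congrArg (algebraMap C Z c * ·) (hB b)
  exact AlgHom.ext fun x => AlgHom.congr_fun hD x

theorem exists_ct_lift (u : C →ₐ[A] Z) (v : B →ₐ[A] Z) :
    ∃ θ : AdicCompletion ((I.map (algebraMap A C)).map (algebraMap C (TensorProduct A C B)))
        (TensorProduct A C B) →ₐ[A] Z,
      (∀ c, θ (algebraMap C _ c) = u c) ∧
        ∀ b : B, θ (algebraMap (C ⊗[A] B) _ ((1 : C) ⊗ₜ b)) = v b := by
  letI : Algebra C Z := u.toRingHom.toAlgebra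
  haveI : IsScalarTower A C Z := .of_algebraMap_eq fun a => (u.commutes a).symm
  haveI : IsAdicComplete ((I.map (algebraMap A C)).map (algebraMap C Z)) Z := complete_tower inferInstance
  let m : C ⊗[A] B →ₐ[C] Z :=
    Algebra.TensorProduct.lift (Algebra.ofId C Z) v (fun _ _ => Commute.all _ _)
  let d : AdicCompletion ((I.map (algebraMap A C)).map (algebraMap C (TensorProduct A C B)))
      (TensorProduct A C B) →ₐ[C] Z := complLift m
  refine ⟨{ d.toRingHom with commutes' := fun a => ?_ }, fun c => d.commutes c, fun b => ?_⟩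
  · change d (algebraMap A _ a) = _
    rw [IsScalarTower.algebraMap_apply A C (AdicCompletion _ (C ⊗[A] B)), d.commutes,
      ← IsScalarTower.algebraMap_apply]
  · refine (complLift_algebraMap m _).trans ?_
    rw [Algebra.TensorProduct.lift_tmul, map_one, one_mul]

end Tensor

/-- Flatness at a prime of the target; a name keeps comparisons of the rings shallow. -/
def FlatAt {R T : Type u} [CommRing R] [CommRing T] (q : PrimeSpectrum T) (φ : R →+* T) : Prop :=
  ((algebraMap T (Localization.AtPrime q.asIdeal)).comp φ).Flat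

theorem FlatAt.intro {R T : Type u} [CommRing R] [CommRing T] {q : PrimeSpectrum T} {φ : R →+* T}
    (h : ((algebraMap T (Localization.AtPrime q.asIdeal)).comp φ).Flat) : FlatAt q φ := h

theorem FlatAt.out {R T : Type u} [CommRing R] [CommRing T] {q : PrimeSpectrum T} {φ : R →+* T}
    (h : FlatAt q φ) : ((algebraMap T (Localization.AtPrime q.asIdeal)).comp φ).Flat := h

theorem rigFlat_flatAt {R : Type u} [CommRing R] [IsNoetherianRing R] {J : Ideal R} {S : Type u}
    [CommRing S] [Algebra R S] (H : RigFlat J S) (f : R)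
    (ψ : CL J f →+* CL (J.map (algebraMap R S)) (algebraMap R S f))
    (h : ψ.comp (algebraMap (Localization.Away f) (CL J f)) =
      (algebraMap (Localization.Away (algebraMap R S f))
        (CL (J.map (algebraMap R S)) (algebraMap R S f))).comp (Localization.awayMap (algebraMap R S) f))
    (q : PrimeSpectrum (CL (J.map (algebraMap R S)) (algebraMap R S f)))
    (hq : IsRig (((J.map (algebraMap R S)).map (algebraMap S (Localization.Away (algebraMap R S f)))).map
      (algebraMap (Localization.Away (algebraMap R S f))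
        (CL (J.map (algebraMap R S)) (algebraMap R S f)))) q) : FlatAt q ψ :=
  H f ψ h q hq

theorem cl_ext_of_eq {A : Type u} [CommRing A] [IsNoetherianRing A] {I : Ideal A} {S : Type u} [CommRing S]
    [IsNoetherianRing S] [Algebra A S] {J : Ideal S} (hJ : I.map (algebraMap A S) = J) {g : S}
    {Z : Type u} [CommRing Z] [Algebra A Z] [IsAdicComplete (I.map (algebraMap A Z)) Z]
    (φ ψ : CL J g →ₐ[A] Z) (h : ∀ s, φ (algebraMap S _ s) = ψ (algebraMap S _ s)) : φ = ψ := by
  subst hJ
  exact cl_ext_base φ ψ h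

/-- Rig-flatness is stable under completed base change, given by its universal property. -/
theorem rigFlat_of_pushout {A : Type u} [CommRing A] [IsNoetherianRing A] {I : Ideal A}
    [IsAdicComplete I A] {B C D : Type u} [CommRing B] [Algebra A B] [IsNoetherianRing B]
    [IsAdicComplete (I.map (algebraMap A B)) B] (hAB' : RigFlat I B)
    [CommRing C] [Algebra A C] [IsNoetherianRing C] [IsAdicComplete (I.map (algebraMap A C)) C]
    [CommRing D] [Algebra A D] [Algebra C D] [IsScalarTower A C D] [IsNoetherianRing D]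
    [IsAdicComplete (I.map (algebraMap A D)) D]
    (hftD : Algebra.FiniteType A (D ⧸ I.map (algebraMap A D))) (ι : B →ₐ[A] D)
    (hlift : ∀ (Z : Type u) [CommRing Z] [Algebra A Z] [IsAdicComplete (I.map (algebraMap A Z)) Z]
      (u : C →ₐ[A] Z) (v : B →ₐ[A] Z), ∃ θ : D →ₐ[A] Z,
        (∀ c, θ (algebraMap C D c) = u c) ∧ ∀ b, θ (ι b) = v b)
    (hext : ∀ (Z : Type u) [CommRing Z] [Algebra A Z] [IsAdicComplete (I.map (algebraMap A Z)) Z]
      (θ θ' : D →ₐ[A] Z), (∀ c, θ (algebraMap C D c) = θ' (algebraMap C D c)) →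
        (∀ b, θ (ι b) = θ' (ι b)) → θ = θ') :
    RigFlat (I.map (algebraMap A C)) D := by
  let K : Ideal C := I.map (algebraMap A C)
  haveI : IsAdicComplete (K.map (algebraMap C D)) D := complete_tower inferInstance
  refine rigFlat_intro fun h ψ q hq => ?_
  let KD : Ideal D := K.map (algebraMap C D)
  haveI := cl_noetherian K h
  haveI := cl_complete K h
  haveI := cl_noetherian KD (algebraMap C D h)
  haveI hcE := cl_complete KD (algebraMap C D h)
  let E := CL KD (algebraMap C D h)
  haveI : IsAdicComplete (K.map (algebraMap C E)) E := complete_of_map (S := D)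
  haveI : IsAdicComplete (I.map (algebraMap A E)) E := complete_of_map (S := C)
  have hqA : IsRig (I.map (algebraMap A E)) q := isRig_tower_iff.mp hq
  have hKE : KD.map (algebraMap D E) = I.map (algebraMap A E) :=
    (map_eq_of_tower (R := C)).trans map_eq_of_tower
  obtain ⟨f, hf, hgood⟩ := exists_good (J := I)
    (ft_trans hftD (ft_congr hKE (cl_ft KD (algebraMap C D h)))) hqA
  let h' : C := h * algebraMap A C f
  haveI := cl_noetherian I f
  haveI := cl_complete I f
  haveI := cl_noetherian (I.map (algebraMap A B)) (algebraMap A B f)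
  haveI := cl_complete_base (J := I) (algebraMap A B f)
  haveI := cl_noetherian K h'
  haveI := cl_complete K h'
  haveI := cl_complete_base (J := I) h'
  haveI := cl_noetherian KD (algebraMap C D h')
  haveI := cl_complete KD (algebraMap C D h')
  let E' := CL KD (algebraMap C D h')
  haveI : IsAdicComplete (K.map (algebraMap C E')) E' := complete_of_map (S := D)
  haveI hcA : IsAdicComplete (I.map (algebraMap A E')) E' := complete_of_map (S := C)
  haveI hcq := complete_quotient (R := A) (J := I) q.asIdeal
  haveI : IsAdicComplete (K.map (algebraMap C (E ⧸ q.asIdeal))) (E ⧸ q.asIdeal) := complete_tower hcq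
  haveI : IsAdicComplete (KD.map (algebraMap D (E ⧸ q.asIdeal))) (E ⧸ q.asIdeal) :=
    complete_tower (R := C) inferInstance
  have hu2 : IsUnit (algebraMap C E' h') := isUnit_tower_iff.mp (isUnit_cl KD (algebraMap C D h'))
  have hu1 : IsUnit (algebraMap C E' h) :=
    isUnit_of_mul_isUnit_left (y := algebraMap C E' (algebraMap A C f)) (by rw [← map_mul]; exact hu2)
  have huf : IsUnit (algebraMap A E' f) :=
    (isUnit_tower_iff (S := C)).mp
      (isUnit_of_mul_isUnit_right (x := algebraMap C E' h) (by rw [← map_mul]; exact hu2))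
  have huq : IsUnit (algebraMap C (E ⧸ q.asIdeal) h') := by
    rw [map_mul]
    refine IsUnit.mul ?_ (isUnit_tower_iff.mpr hf)
    refine isUnit_tower_iff (S := E) |>.mp ?_
    exact ((isUnit_tower_iff (S := D)).mp (isUnit_cl KD (algebraMap C D h))).map _
  let π := clLift KD (algebraMap C D h') (T := E ⧸ q.asIdeal) (isUnit_tower_iff.mpr huq)
  let Φ : E →ₐ[D] E' := clLift KD (algebraMap C D h) (T := E') (isUnit_tower_iff.mpr hu1)
  have hπ : ∀ x, π (Φ x) = Ideal.Quotient.mk q.asIdeal x := fun x =>
    AlgHom.congr_fun (cl_algHom_ext (π.comp Φ) (Ideal.Quotient.mkₐ D q.asIdeal)) x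
  obtain ⟨q', hrig, hcomap, hsurj⟩ := exists_point (J := I) hqA (Φ.restrictScalars A)
    (π.restrictScalars A) hπ
  let C1 := CL K h'
  let ψ2 : C1 →ₐ[C] E' := clLift K h' (T := E') hu2
  let Af := CL I f
  let Bf := CL (I.map (algebraMap A B)) (algebraMap A B f)
  let χ : Af →ₐ[A] C1 := clLift I f ((isUnit_tower_iff (S := C)).mp
    (isUnit_of_mul_isUnit_right (x := algebraMap C C1 h) (by rw [← map_mul]; exact isUnit_cl K h')))
  let ψf : Af →ₐ[A] Bf := clLift I f ((isUnit_tower_iff (S := B)).mp (isUnit_cl _ _))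
  let ιB : B →ₐ[A] E' := (IsScalarTower.toAlgHom A D E').comp ι
  letI : Algebra B E' := ιB.toRingHom.toAlgebra
  haveI : IsScalarTower A B E' := .of_algebraMap_eq fun a => (ιB.commutes a).symm
  haveI : IsAdicComplete ((I.map (algebraMap A B)).map (algebraMap B E')) E' := complete_tower hcA
  let Λ : Bf →ₐ[B] E' := clLift (I.map (algebraMap A B)) (algebraMap A B f) (T := E')
    (isUnit_tower_iff.mpr huf)
  have hcomp : (ψ2.restrictScalars A).comp χ = (Λ.restrictScalars A).comp ψf := cl_algHom_ext _ _
  have hfin := finite_of_good hgood (Φ := Φ.restrictScalars A) hcomap hsurj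
    ((ψ2.restrictScalars A).comp χ) (isUnit_cl I f)
  have hfin' := hfin
  rw [hcomp] at hfin'
  have hqB := isRig_comap hrig (Λ.restrictScalars A)
    (RingHom.Finite.of_comp_finite (f := ψf.toRingHom) hfin')
  have hBf := rigFlat_apply hAB' ψf hqB
  have h2 : ((algebraMap E' (Localization.AtPrime q'.asIdeal)).comp ψ2.toRingHom).Flat := by
    letI : Algebra C1 E' := ψ2.toRingHom.toAlgebra
    haveI : IsScalarTower C C1 E' := .of_algebraMap_eq fun c => (ψ2.commutes c).symm
    haveI : IsScalarTower A C1 E' := .of_algebraMap_eq fun a => ((ψ2.restrictScalars A).commutes a).symm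
    have hflat : Module.Flat C1 (Localization.AtPrime q'.asIdeal) := by
      refine flat_at_of_pushout (I := I) χ ψf (Λ.restrictScalars A)
        (fun a => AlgHom.congr_fun hcomp a) ?_ ?_ q' hfin hBf
      · intro Z _ _ _ v w hvw
        let u : C →ₐ[A] Z := v.comp (IsScalarTower.toAlgHom A C C1)
        let uB : B →ₐ[A] Z := w.comp (IsScalarTower.toAlgHom A B Bf)
        obtain ⟨θ₀, hθ₀C, hθ₀B⟩ := hlift Z u uB
        letI : Algebra D Z := θ₀.toRingHom.toAlgebra
        haveI : IsScalarTower A D Z := .of_algebraMap_eq fun a => (θ₀.commutes a).symm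
        haveI : IsAdicComplete (KD.map (algebraMap D Z)) Z := by
          rw [show KD = I.map (algebraMap A D) from map_eq_of_tower]
          exact complete_tower inferInstance
        have huD : IsUnit (algebraMap D Z (algebraMap C D h')) :=
          (hθ₀C h').symm ▸ (isUnit_cl K h').map v
        let θ : E' →ₐ[A] Z := (clLift KD (algebraMap C D h') huD).restrictScalars A
        have hθD : ∀ d, θ (algebraMap D E' d) = θ₀ d := fun d =>
          (clLift KD (algebraMap C D h') (T := Z) huD).commutes d
        have hθC : ∀ c, θ (algebraMap C E' c) = u c := fun c =>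
          ((congrArg θ (IsScalarTower.algebraMap_apply C D E' c)).trans (hθD _)).trans (hθ₀C c)
        have hθB : ∀ b, θ (ιB b) = uB b := fun b => (hθD _).trans (hθ₀B b)
        have e1 : θ.comp (ψ2.restrictScalars A) = v :=
          cl_ext_base _ _ fun c => (congrArg θ (ψ2.commutes c)).trans (hθC c)
        have e2 : θ.comp (Λ.restrictScalars A) = w :=
          cl_ext_base _ _ fun b => (congrArg θ (Λ.commutes b)).trans (hθB b)
        exact ⟨θ, fun c => AlgHom.congr_fun e1 c, fun b => AlgHom.congr_fun e2 b⟩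
      · intro Z _ _ _ θ θ' hC hB
        refine cl_ext_of_eq (S := D) map_eq_of_tower.symm θ θ' fun d => ?_
        refine AlgHom.congr_fun (hext Z (θ.comp (IsScalarTower.toAlgHom A D E'))
          (θ'.comp (IsScalarTower.toAlgHom A D E')) (fun c => ?_) fun b => ?_) d
        · change θ (algebraMap D E' (algebraMap C D c)) = θ' (algebraMap D E' (algebraMap C D c))
          rw [← IsScalarTower.algebraMap_apply C D E', ← ψ2.commutes c]
          exact hC _
        · exact ((congrArg θ (Λ.commutes b)).symm.trans (hB _)).trans (congrArg θ' (Λ.commutes b))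
    convert RingHom.flat_algebraMap_iff.mpr hflat using 1
    exact (IsScalarTower.algebraMap_eq C1 E' _).symm
  let χ' : CL K h →ₐ[C] C1 := clLift K h
    (isUnit_of_mul_isUnit_left (y := algebraMap C C1 (algebraMap A C f))
      (by rw [← map_mul]; exact isUnit_cl K h'))
  haveI : Module.Flat C C1 := cl_flat K h'
  haveI : Module.Flat D E' := cl_flat KD (algebraMap C D h')
  have h4 := RingHom.Flat.comp (flat_cl_algHom χ') h2
  refine flat_at_descend (flat_cl_algHom Φ) hcomap ?_
  have e1 : Φ.toRingHom.comp ψ.toRingHom = ψ2.toRingHom.comp χ'.toRingHom :=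
    congrArg AlgHom.toRingHom (cl_algHom_ext ((Φ.restrictScalars C).comp ψ) (ψ2.comp χ'))
  rw [e1]
  exact h4

end Groth.Agent.Frg27
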