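import Groth.Agent.Frg27.RigClosed
import Mathlib.RingTheory.Jacobson.Ring
import Mathlib.RingTheory.Ideal.GoingUp

/-!
Finiteness over complete Noetherian rings of rig-closed points.
-/

set_option autoImplicit false

universe u v

namespace Groth.Agent.Frg27

variable {A : Type u} [CommRing A] {I : Ideal A} [IsAdicComplete I A]

/-- Complete Nakayama. -/
theorem finite_of_sup_eq_top {M : Type v} [AddCommGroup M] [Module A M] [IsHausdorff I M]
    {T : Submodule A M} (hT : T.FG) (h : T ⊔ I • ⊤ = ⊤) : Module.Finite A M := by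
  obtain ⟨k, g, hg⟩ := Submodule.fg_iff_exists_fin_generating_family.mp hT
  let φ : (Fin k → A) →ₗ[A] M := Fintype.linearCombination A g
  have hφ : LinearMap.range φ = T := by rw [Fintype.range_linearCombination, hg]
  refine Module.Finite.of_surjective φ fun y => ?_
  refine AdicC27.mem_range_of_approx (I := I) φ (fun k => ((I ^ k • ⊤ : Submodule A M) : Set M))
    (fun k => subset_rfl) (fun j y hy => ?_) (show y ∈ (I ^ 0 • ⊤ : Submodule A M) by simp)
  have h1 : y ∈ (I ^ j • (⊤ : Submodule A (Fin k → A))).map φ ⊔ I ^ (j + 1) • ⊤ := by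
    rw [Submodule.map_smul'', Submodule.map_top, hφ, pow_succ, mul_smul, ← Submodule.smul_sup, h]
    exact hy
  obtain ⟨-, ⟨z, hz, rfl⟩, w, hw, rfl⟩ := Submodule.mem_sup.mp h1
  exact ⟨z, hz, by simpa using hw⟩

/-- A complete local domain with finite residue field and `I` primary to the maximal ideal is finite. -/
theorem finite_of_finite_residue {D : Type v} [CommRing D] [IsNoetherianRing D] [Algebra A D]
    [IsAdicComplete (I.map (algebraMap A D)) D] {m : Ideal D}
    (hm : m ≤ (I.map (algebraMap A D)).radical) [Module.Finite A (D ⧸ m)] : Module.Finite A D := by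
  haveI : IsAdicComplete I D := (IsAdicComplete.map_algebraMap_iff I D).mp ‹_›
  obtain ⟨N, hN⟩ : ∃ N, m ^ N ≤ I.map (algebraMap A D) :=
    ⟨_, (Ideal.pow_right_mono hm _).trans
      (Ideal.exists_radical_pow_le_of_fg _ (IsNoetherian.noetherian _)).choose_spec⟩
  obtain ⟨T1, hT1, hT1m⟩ : ∃ T : Submodule A D, T.FG ∧ T ⊔ m.restrictScalars A = ⊤ := by
    obtain ⟨s, hs⟩ := (Module.Finite.fg_top : (⊤ : Submodule A (D ⧸ m)).FG)
    classical
    choose l hl using Ideal.Quotient.mk_surjective (I := m)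
    refine ⟨Submodule.span A (↑(s.image l) : Set D), Submodule.fg_span (Finset.finite_toSet _),
      eq_top_iff.mpr fun x _ => ?_⟩
    have hx : (Ideal.Quotient.mkₐ A m).toLinearMap x ∈
        Submodule.map (Ideal.Quotient.mkₐ A m).toLinearMap (Submodule.span A (↑(s.image l) : Set D)) := by
      rw [Submodule.map_span, Finset.coe_image, Set.image_image]
      rw [show ((fun a => (Ideal.Quotient.mkₐ A m).toLinearMap (l a)) '' (s : Set (D ⧸ m))) = s by
        simp [hl]]
      exact hs ▸ Submodule.mem_top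
    obtain ⟨y, hy, hyx⟩ := hx
    rw [← add_sub_cancel y x]
    exact Submodule.add_mem_sup hy (Ideal.Quotient.eq.mp (Eq.symm hyx))
  have key : ∀ j, ∃ T : Submodule A D, T.FG ∧ T ⊔ (m ^ j).restrictScalars A = ⊤ := by
    intro j
    induction j with
    | zero => exact ⟨⊥, Submodule.fg_bot, by simp [Ideal.one_eq_top]⟩
    | succ j ih =>
      obtain ⟨T, hT, hTm⟩ := ih
      obtain ⟨s, hs⟩ := (IsNoetherian.noetherian (m ^ j) : (m ^ j).FG)
      refine ⟨T ⊔ T1 * Submodule.span A (s : Set D), Submodule.FG.sup hT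
        (hT1.mul (Submodule.fg_span (Finset.finite_toSet _))), eq_top_iff.mpr (hTm.ge.trans ?_)⟩
      refine sup_le (le_sup_left.trans le_sup_left) fun x hx => ?_
      rw [Submodule.restrictScalars_mem, ← hs] at hx
      suffices h : ∀ d : D, d * x ∈ T ⊔ T1 * Submodule.span A (s : Set D) ⊔
          (m ^ (j + 1)).restrictScalars A by simpa using h 1
      induction hx using Submodule.span_induction with
      | mem y hy =>
        intro d
        have h1 : d ∈ T1 ⊔ m.restrictScalars A := hT1m ▸ trivial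
        obtain ⟨a, ha, b, hb, rfl⟩ := Submodule.mem_sup.mp h1
        rw [add_mul]
        refine add_mem (Submodule.mem_sup_left (Submodule.mem_sup_right
          (Submodule.mul_mem_mul ha (Submodule.subset_span hy)))) (Submodule.mem_sup_right ?_)
        rw [Submodule.restrictScalars_mem, pow_succ']
        exact Ideal.mul_mem_mul hb (hs ▸ Submodule.subset_span hy)
      | zero => intro d; rw [mul_zero]; exact zero_mem _
      | add y z _ _ hy hz => intro d; rw [mul_add]; exact add_mem (hy d) (hz d)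
      | smul e y _ hy => intro d; rw [smul_eq_mul, ← mul_assoc]; exact hy (d * e)
  obtain ⟨T, hT, hTm⟩ := key N
  refine finite_of_sup_eq_top (I := I) hT (eq_top_iff.mpr (hTm.ge.trans (sup_le_sup le_rfl ?_)))
  rw [Ideal.smul_top_eq_map]
  exact hN

omit [IsAdicComplete I A] in
theorem finite_quotient_of_isJacobson [IsJacobsonRing (A ⧸ I)] {B : Type v} [CommRing B] [Algebra A B]
    (m : Ideal B) [m.IsMaximal] (hI : I.map (algebraMap A B) ≤ m) [Algebra.FiniteType A (B ⧸ m)] :
    Module.Finite A (B ⧸ m) := by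
  letI := Ideal.Quotient.field m
  letI : Algebra (A ⧸ I) (B ⧸ m) := (Ideal.Quotient.lift I (algebraMap A (B ⧸ m)) fun a ha =>
    Ideal.Quotient.eq_zero_iff_mem.mpr (hI (Ideal.mem_map_of_mem _ ha))).toAlgebra
  haveI : IsScalarTower A (A ⧸ I) (B ⧸ m) := IsScalarTower.of_algebraMap_eq fun a => rfl
  haveI : Algebra.FiniteType (A ⧸ I) (B ⧸ m) := Algebra.FiniteType.of_restrictScalars_finiteType A _ _
  haveI : Module.Finite (A ⧸ I) (B ⧸ m) := finite_of_finite_type_of_isJacobsonRing _ _
  exact Module.Finite.trans (A ⧸ I) _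

variable [IsNoetherianRing A] {B : Type u} [CommRing B] [Algebra A B] [IsNoetherianRing B]
  [IsAdicComplete (I.map (algebraMap A B)) B] {q : PrimeSpectrum B}

theorem finiteType_quotient_maximal (hft : Algebra.FiniteType A (B ⧸ I.map (algebraMap A B)))
    (m : Ideal B) [m.IsMaximal] : Algebra.FiniteType A (B ⧸ m) ∧ I.map (algebraMap A B) ≤ m := by
  have hle : I.map (algebraMap A B) ≤ m :=
    (IsAdicComplete.le_jacobson_bot _).trans (sInf_le ⟨bot_le, inferInstance⟩)
  exact ⟨hft.of_surjective (Ideal.Quotient.factorₐ A hle) (Ideal.Quotient.factor_surjective hle), hle⟩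

theorem finite_of_residue (hq : IsRig (I.map (algebraMap A B)) q)
    (h : ∀ m : Ideal B, m.IsMaximal → q.asIdeal ≤ m → Module.Finite A (B ⧸ m)) :
    Module.Finite A (B ⧸ q.asIdeal) := by
  obtain ⟨hloc, hmax, -⟩ := hq.local_data
  haveI := hloc
  haveI hc := isAdicComplete_quotient (I.map (algebraMap A B)) q.asIdeal
  have he : I.map (algebraMap A (B ⧸ q.asIdeal)) =
      (I.map (algebraMap A B)).map (Ideal.Quotient.mk q.asIdeal) := by
    rw [IsScalarTower.algebraMap_eq A B (B ⧸ q.asIdeal), ← Ideal.map_map]; rfl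
  haveI : IsAdicComplete (I.map (algebraMap A (B ⧸ q.asIdeal))) (B ⧸ q.asIdeal) := by rw [he]; exact hc
  set m := IsLocalRing.maximalIdeal (B ⧸ q.asIdeal)
  let M : Ideal B := m.comap (Ideal.Quotient.mk q.asIdeal)
  haveI : M.IsMaximal := Ideal.comap_isMaximal_of_surjective _ Ideal.Quotient.mk_surjective
  haveI := h M inferInstance fun z hz => by
    rw [Ideal.mem_comap, Ideal.Quotient.eq_zero_iff_mem.mpr hz]
    exact m.zero_mem
  let f : B ⧸ M →ₐ[A] (B ⧸ q.asIdeal) ⧸ m := Ideal.Quotient.liftₐ M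
    ((Ideal.Quotient.mkₐ A m).comp (Ideal.Quotient.mkₐ A q.asIdeal))
    fun a ha => Ideal.Quotient.eq_zero_iff_mem.mpr ha
  haveI : Module.Finite A ((B ⧸ q.asIdeal) ⧸ m) := Module.Finite.of_surjective f.toLinearMap fun y => by
    obtain ⟨y, rfl⟩ := Ideal.Quotient.mk_surjective y
    obtain ⟨y, rfl⟩ := Ideal.Quotient.mk_surjective y
    exact ⟨Ideal.Quotient.mk M y, rfl⟩
  refine finite_of_finite_residue (I := I) (m := m) ?_
  rw [hmax m inferInstance, he]

theorem finite_residue_of_isRig_comap (hft : Algebra.FiniteType A (B ⧸ I.map (algebraMap A B)))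
    (hp : IsRig I (PrimeSpectrum.comap (algebraMap A B) q))
    (m : Ideal B) [m.IsMaximal] (hqm : q.asIdeal ≤ m) :
    Module.Finite A (B ⧸ m) := by
  obtain ⟨hFT, hle⟩ := finiteType_quotient_maximal hft m
  obtain ⟨-, hmax, -⟩ := hp.local_data
  obtain ⟨M, hM, hnM⟩ := Ideal.exists_le_maximal (m.comap (algebraMap A B))
    (Ideal.IsPrime.ne_top inferInstance)
  have hpM : (PrimeSpectrum.comap (algebraMap A B) q).asIdeal ≤ m.comap (algebraMap A B) :=
    Ideal.comap_mono hqm
  have hMm : M.map (algebraMap A B) ≤ m := by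
    rw [Ideal.map_le_iff_le_comap]
    intro a ha
    have hmax' := hmax (M.map (Ideal.Quotient.mk (PrimeSpectrum.comap (algebraMap A B) q).asIdeal))
      (Ideal.IsMaximal.map_of_surjective_of_ker_le Ideal.Quotient.mk_surjective
        (by rw [Ideal.mk_ker]; exact hpM.trans hnM))
    have h2 := Ideal.mem_map_of_mem (Ideal.Quotient.mk (PrimeSpectrum.comap (algebraMap A B) q).asIdeal) ha
    rw [hmax'] at h2
    obtain ⟨N, hN⟩ := h2
    rw [← map_pow] at hN
    refine Ideal.IsPrime.mem_of_pow_mem inferInstance N ?_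
    obtain ⟨i, hi, hia⟩ := (Ideal.mem_map_iff_of_surjective _ Ideal.Quotient.mk_surjective).mp hN
    rw [← sub_add_cancel (a ^ N) i]
    exact add_mem (hpM (Ideal.Quotient.eq.mp hia.symm)) (hle (Ideal.mem_map_of_mem _ hi))
  haveI : IsJacobsonRing (A ⧸ M) := by
    letI := Ideal.Quotient.field M
    infer_instance
  exact finite_quotient_of_isJacobson (I := M) m hMm

theorem isRig_comap_of_finite (hq : IsRig (I.map (algebraMap A B)) q)
    [Module.Finite A (B ⧸ q.asIdeal)] : IsRig I (PrimeSpectrum.comap (algebraMap A B) q) := by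
  haveI := hq.krullDimLE_one
  set p := (PrimeSpectrum.comap (algebraMap A B) q).asIdeal with hp
  letI : Algebra (A ⧸ p) (B ⧸ q.asIdeal) := (Ideal.quotientMap q.asIdeal (algebraMap A B) le_rfl).toAlgebra
  haveI : IsScalarTower A (A ⧸ p) (B ⧸ q.asIdeal) := IsScalarTower.of_algebraMap_eq fun a => rfl
  haveI : Module.Finite (A ⧸ p) (B ⧸ q.asIdeal) := Module.Finite.of_restrictScalars_finite A _ _
  haveI : FaithfulSMul (A ⧸ p) (B ⧸ q.asIdeal) :=
    (faithfulSMul_iff_algebraMap_injective _ _).mpr Ideal.quotientMap_injective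
  haveI : Ring.KrullDimLE 1 (A ⧸ p) := by
    refine Ring.KrullDimLE.mk₁' fun P hP0 hP => ?_
    obtain ⟨Q, -, hQ, hQP⟩ := Ideal.exists_ideal_over_prime_of_isIntegral (S := B ⧸ q.asIdeal) P ⊥
      (by rw [← RingHom.ker_eq_comap_bot, (RingHom.injective_iff_ker_eq_bot _).mp
        (FaithfulSMul.algebraMap_injective (A ⧸ p) (B ⧸ q.asIdeal))]; exact bot_le)
    haveI := hQ
    have hQ0 : Q ≠ ⊥ := fun e => hP0 (by
      rw [← hQP, e, ← RingHom.ker_eq_comap_bot]
      exact (RingHom.injective_iff_ker_eq_bot _).mp (FaithfulSMul.algebraMap_injective _ _))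
    haveI := hQ.isMaximal_of_ne_bot hQ0
    exact hQP ▸ Ideal.isMaximal_comap_of_isIntegral_of_isMaximal Q
  refine isRig_of_krullDimLE_one fun hle => hq.1 ?_
  rw [Ideal.map_le_iff_le_comap]
  exact hle

end Groth.Agent.Frg27
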