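import Groth.Agent.Frg27.Compl
import Groth.Agent.FlatCrit65.Basic
import Mathlib.RingTheory.Flat.FaithfullyFlat.Basic
import Mathlib.RingTheory.Flat.Localization

/-!
Flatness is detected on truncations, for modules finite over algebras topologically of finite type.
-/

set_option autoImplicit false

universe u

open TensorProduct

namespace Groth.Agent.Frg27

variable {R : Type u} [CommRing R] {I : Ideal R}
variable {A : Type u} [CommRing A] [Algebra R A]
variable {B : Type u} [CommRing B] [Algebra R B]

theorem eq_zero_of_forall_mem_pow (hR : AdicRing.IsBase R I) (hB : AdicRing.TopFiniteType R I B)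
    {N : Type u} [AddCommGroup N] [Module B N] [Module.Finite B N] {x : N}
    (h : ∀ k : ℕ, x ∈ (I.map (algebraMap R B)) ^ k • (⊤ : Submodule B N)) : x = 0 := by
  letI : Module R N := Module.compHom N (algebraMap R B)
  haveI : IsScalarTower R B N := IsScalarTower.of_algebraMap_smul fun _ _ => rfl
  haveI := isHausdorff_of_finite_tft hR hB N
  refine IsHausdorff.haus (I := I) inferInstance x fun k => SModEq.zero.mpr ?_
  have := h k
  rwa [← Submodule.restrictScalars_mem R, restrictScalars_pow_smul,
    Submodule.restrictScalars_top] at this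

/-- With an Artin-Rees bound, the kernel of `M ⊗ J → M` is in every `I ^ k (M ⊗ J)`. -/
theorem mem_pow_smul_of_lexQuot {R : Type u} [CommRing R] {I : Ideal R} {M : Type u} [AddCommGroup M]
    [Module R M] (h : FlatCrit65.LexQuot I M) (J : Ideal R) {c : ℕ}
    (hc : ∀ m : ℕ, I ^ (m + c) • (⊤ : Submodule R R) ⊓ (J : Submodule R R) ≤ I ^ m • J)
    (x : M ⊗[R] J) (hx : J.subtype.lTensor M x = 0) (k : ℕ) :
    x ∈ I ^ k • (⊤ : Submodule R (M ⊗[R] J)) := by
  let K : Submodule R (R ⧸ I ^ (k + c)) := Submodule.map (I ^ (k + c) : Ideal R).mkQ J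
  let g : J →ₗ[R] K := ((I ^ (k + c) : Ideal R).mkQ.comp J.subtype).codRestrict K
    (fun x => Submodule.mem_map_of_mem x.2)
  have hg : Function.Surjective g := by
    rintro ⟨_, x, hx, rfl⟩
    exact ⟨⟨x, hx⟩, rfl⟩
  have h0 : g.lTensor M x = 0 := by
    apply h (k + c) K
    rw [map_zero, ← LinearMap.lTensor_comp_apply]
    show ((I ^ (k + c) : Ideal R).mkQ.comp J.subtype).lTensor M x = 0
    rw [LinearMap.lTensor_comp_apply, hx, map_zero]
  obtain ⟨y, rfl⟩ := (lTensor_exact M g.exact_subtype_ker_map hg x).mp h0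
  have hker : LinearMap.ker g ≤ I ^ k • (⊤ : Submodule R J) := by
    rintro ⟨j, hj⟩ hgj
    have h1 : j ∈ I ^ (k + c) :=
      (Submodule.Quotient.mk_eq_zero _).mp (congrArg Subtype.val (LinearMap.mem_ker.mp hgj))
    have h3 : j ∈ I ^ k • (J : Submodule R R) := hc k ⟨by simpa using h1, hj⟩
    have h4 : (I ^ k • (⊤ : Submodule R J)).map J.subtype = I ^ k • (J : Submodule R R) := by
      rw [Submodule.map_smul'', Submodule.map_top, Submodule.range_subtype]
    rw [← h4] at h3
    obtain ⟨z, hz, hzj⟩ := h3
    obtain rfl : z = ⟨j, hj⟩ := Subtype.ext hzj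
    exact hz
  clear h0 hx
  induction y with
  | zero => simp
  | add a b ha hb =>
    rw [map_add]
    exact Submodule.add_mem _ ha hb
  | tmul m z =>
    have hz := hker z.2
    have : (I ^ k • (⊤ : Submodule R J)).map (TensorProduct.mk R M J m) ≤ I ^ k • ⊤ := by
      rw [Submodule.map_smul'']; exact Submodule.smul_mono le_rfl le_top
    exact this (Submodule.mem_map_of_mem hz)

variable [Algebra A B] [IsScalarTower R A B]
variable (M : Type u) [AddCommGroup M] [Module B M] [Module A M] [IsScalarTower A B M]
  [Module.Finite B M]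

theorem flat_of_forall_flat_trunc (hR : AdicRing.IsBase R I) (hA : AdicRing.TopFiniteType R I A)
    (hB : AdicRing.TopFiniteType R I B)
    (h : ∀ n : ℕ, Module.Flat (AdicRing.trunc A I n) ((AdicRing.trunc A I n) ⊗[A] M)) :
    Module.Flat A M := by
  set J₀ := I.map (algebraMap R A) with hJ₀
  have hlex : FlatCrit65.LexQuot J₀ M := by
    refine FlatCrit65.lexQuot_of_flat fun n => ?_
    cases n with
    | zero =>
      haveI : Subsingleton (A ⧸ J₀ ^ 0) :=
        Ideal.Quotient.subsingleton_iff.mpr (by rw [pow_zero, Ideal.one_eq_top])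
      haveI : Subsingleton ((A ⧸ J₀ ^ 0) ⊗[A] M) :=
        Module.subsingleton (A ⧸ J₀ ^ 0) _
      infer_instance
    | succ n =>
      rw [hJ₀, ← Ideal.map_pow]
      exact h n
  rw [Module.Flat.iff_lTensor_injective]
  intro J hJ
  haveI : Module.Finite A J := Module.Finite.iff_fg.mpr hJ
  haveI := FlatCrit65.finite_tensor B (M := M) (R := A) J
  obtain ⟨c, hc⟩ := artinRees hR hA (J : Submodule A A)
  rw [injective_iff_map_eq_zero]
  intro x hx
  refine eq_zero_of_forall_mem_pow hR hB fun k => ?_
  rw [← Ideal.map_pow, IsScalarTower.algebraMap_eq R A B, ← Ideal.map_map, Ideal.map_pow]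
  exact FlatCrit65.smul_top_restrictScalars_le _ (mem_pow_smul_of_lexQuot hlex J hc x hx k)

omit [Algebra A B] [IsScalarTower R A B] [IsScalarTower A B M] [Module.Finite B M] [Module B M] in
/-- A flat module whose reduction is faithfully flat is faithfully flat. -/
theorem faithfullyFlat_of_trunc_zero (hI : I.FG) (hA : AdicRing.TopFiniteType R I A)
    [Module.Flat A M]
    (h : Module.FaithfullyFlat (AdicRing.trunc A I 0) ((AdicRing.trunc A I 0) ⊗[A] M)) :
    Module.FaithfullyFlat A M := by
  refine ⟨fun m hm htop => ?_⟩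
  have hle : (I ^ (0 + 1)).map (algebraMap R A) ≤ m := by
    rw [pow_one]
    exact (map_ideal_le_jacobson hI hA).trans (sInf_le ⟨bot_le, hm⟩)
  set K := (I ^ (0 + 1)).map (algebraMap R A) with hK
  haveI : (m.map (Ideal.Quotient.mk K)).IsMaximal :=
    Ideal.IsMaximal.map_of_surjective_of_ker_le Ideal.Quotient.mk_surjective (by rwa [Ideal.mk_ker])
  refine h.submodule_ne_top (m := m.map (Ideal.Quotient.mk K)) inferInstance (eq_top_iff.mpr ?_)
  intro z _
  induction z with
  | zero => exact zero_mem _
  | add a b ha hb => exact add_mem (ha trivial) (hb trivial)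
  | tmul a x =>
    obtain ⟨a, rfl⟩ := Ideal.Quotient.mk_surjective a
    have hx : (TensorProduct.mk A (A ⧸ K) M (Ideal.Quotient.mk K a)) x ∈
        m • (⊤ : Submodule A ((A ⧸ K) ⊗[A] M)) := by
      have hxm : x ∈ m • (⊤ : Submodule A M) := htop.symm.le Submodule.mem_top
      have := Submodule.mem_map_of_mem (f := TensorProduct.mk A (A ⧸ K) M (Ideal.Quotient.mk K a)) hxm
      rw [Submodule.map_smul''] at this
      exact Submodule.smul_mono le_rfl le_top this
    exact FlatCrit65.smul_top_restrictScalars_le (S := A ⧸ K) m hx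

/-- Completions of flat algebras of finite type are flat. -/
theorem flat_compl_of_flat (hR : AdicRing.IsBase R I) (hA : AdicRing.TopFiniteType R I A)
    (C : Type u) [CommRing C] [Algebra R C] [Algebra A C] [IsScalarTower R A C]
    [Algebra.FiniteType A C] [Module.Flat A C] : Module.Flat A (Compl I C) :=
  flat_of_forall_flat_trunc (B := Compl I C) (Compl I C) hR hA
    (tft_compl_of_finiteType (base_fg hR) hA) fun n =>
    Module.Flat.of_linearEquiv (truncTensorEquiv (C := C) A (base_fg hR) (n + 1)).symm

end Groth.Agent.Frg27
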