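import Groth.Agent.Frg27.Division
import Groth.Agent.AdicC27.Approx
import Groth.Agent.S2293
import Mathlib.RingTheory.Filtration
import Mathlib.RingTheory.FiniteType
import Mathlib.RingTheory.Polynomial.Basic
import Mathlib.Algebra.Module.FinitePresentation

/-!
Algebras topologically of finite type over a base ring of class (N) or (V): saturated submodules,
Artin-Rees, completeness of finite modules, criterion for topological finite type, coherence.
-/

set_option autoImplicit false
set_option linter.style.haveILetI false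
set_option linter.unusedSectionVars false

namespace Groth.Agent.Frg27

universe u v w

variable {R : Type u} [CommRing R] {I : Ideal R}

/-- The two classes, unpacked. -/
theorem base_cases (hR : AdicRing.IsBase R I) :
    (IsNoetherianRing R ∧ AdicRing.NoPowTorsion I R) ∨
      ∃ (_ : IsDomain R) (_ : ValuationRing R) (_ : Ring.KrullDimLE 1 R) (t : R),
        t ≠ 0 ∧ I = Ideal.span {t} ∧ IsAdicComplete (Ideal.span {t}) R := by
  obtain ⟨hC, h | ⟨hD, hV, hK, t, ht, rfl⟩⟩ := hR
  · exact Or.inl h
  · exact Or.inr ⟨hD, { toPreValuationRing := hV }, hK, t, ht, rfl, hC⟩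

theorem isBase_rank1 [IsDomain R] [ValuationRing R] [Ring.KrullDimLE 1 R] {t : R} (ht : t ≠ 0)
    [IsAdicComplete (Ideal.span {t}) R] : AdicRing.IsBase R (Ideal.span {t}) :=
  ⟨inferInstance, Or.inr ⟨inferInstance, inferInstance, inferInstance, t, ht, rfl⟩⟩

theorem base_fg (hR : AdicRing.IsBase R I) : I.FG := by
  rcases base_cases hR with ⟨hN, -⟩ | ⟨_, _, _, t, -, rfl, -⟩
  · exact IsNoetherian.noetherian I
  · exact Submodule.fg_span_singleton t

theorem isAdicComplete_rPow (hI : I.FG) (n : ℕ) : IsAdicComplete I (AdicRing.RPow R I n) := by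
  have h : IsAdicComplete (I.map (algebraMap R (MvPolynomial (Fin n) R))) (AdicRing.RPow R I n) :=
    AdicCompletion.isAdicComplete (Ideal.FG.map hI _)
  exact (IsAdicComplete.map_algebraMap_iff _ _).mp h

theorem isAdicComplete_rPow_self (hI : I.FG) (n : ℕ) :
    IsAdicComplete (I.map (algebraMap R (AdicRing.RPow R I n))) (AdicRing.RPow R I n) :=
  (IsAdicComplete.map_algebraMap_iff _ _).mpr (isAdicComplete_rPow hI n)

theorem isNoetherianRing_rPow [IsNoetherianRing R] (n : ℕ) :
    IsNoetherianRing (AdicRing.RPow R I n) := by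
  set K : Ideal (MvPolynomial (Fin n) R) := I.map (MvPolynomial.C : R →+* MvPolynomial (Fin n) R)
  have hK : K.FG := IsNoetherian.noetherian K
  haveI := AdicCompletion.isAdicComplete_self K hK
  haveI : IsNoetherianRing (MvPolynomial (Fin n) R ⧸ K) :=
    isNoetherianRing_of_surjective _ _ (Ideal.Quotient.mk K) Ideal.Quotient.mk_surjective
  haveI : IsNoetherianRing (AdicCompletion K (MvPolynomial (Fin n) R) ⧸ K.map (algebraMap _ _)) :=
    isNoetherianRing_of_ringEquiv _
      ((Ideal.quotEquivOfEq (AdicCompletion.ker_evalOneₐ_eq_map K hK).symm).trans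
        (RingHom.quotientKerEquivOfSurjective (AdicCompletion.evalOneₐ_surjective K))).symm
  exact AdicC27.isNoetherianRing_of_isAdicComplete (I := K.map (algebraMap _ _)) (Ideal.FG.map hK _)

variable {A : Type v} [CommRing A] [Algebra R A]

theorem isNoetherianRing_of_tft [IsNoetherianRing R] (hA : AdicRing.TopFiniteType R I A) :
    IsNoetherianRing A := by
  obtain ⟨n, φ, hφ⟩ := hA
  haveI := isNoetherianRing_rPow (I := I) n
  exact isNoetherianRing_of_surjective _ A φ.toRingHom hφ

section Module

variable {M : Type w} [AddCommGroup M] [Module A M] [Module R M] [IsScalarTower R A M]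

/-- A submodule saturated with respect to the ideal of definition. -/
def IsSat (I : Ideal R) (N : Submodule A M) : Prop :=
  ∀ (x : M) (n : ℕ), (∀ a ∈ I ^ n, a • x ∈ N) → x ∈ N

/-- The saturation of a submodule. -/
def sat (I : Ideal R) (N : Submodule A M) : Submodule A M where
  carrier := {x | ∃ j : ℕ, ∀ a ∈ I ^ j, a • x ∈ N}
  zero_mem' := ⟨0, fun a _ => by simp⟩
  add_mem' := by
    rintro x y ⟨i, hi⟩ ⟨j, hj⟩
    refine ⟨i + j, fun a ha => ?_⟩
    rw [smul_add]
    exact N.add_mem (hi a (Ideal.pow_le_pow_right (by omega) ha))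
      (hj a (Ideal.pow_le_pow_right (by omega) ha))
  smul_mem' := by
    rintro c x ⟨j, hj⟩
    refine ⟨j, fun a ha => ?_⟩
    rw [smul_comm]
    exact N.smul_mem c (hj a ha)

theorem le_sat (N : Submodule A M) : N ≤ sat I N := fun x hx =>
  ⟨0, fun a _ => N.smul_of_tower_mem a hx⟩

theorem exists_pow_forall {ι : Type*} (s : Finset ι) (P : ι → ℕ → Prop)
    (hmono : ∀ i a b, a ≤ b → P i a → P i b) (h : ∀ i ∈ s, ∃ j, P i j) :
    ∃ J, ∀ i ∈ s, P i J := by
  choose j hj using h
  refine ⟨s.attach.sup fun i => j i.1 i.2, fun i hi => hmono i _ _ ?_ (hj i hi)⟩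
  exact Finset.le_sup (f := fun i : {x // x ∈ s} => j i.1 i.2) (Finset.mem_attach s ⟨i, hi⟩)

theorem isSat_sat (hI : I.FG) (N : Submodule A M) : IsSat I (sat I N) := by
  intro x n hx
  obtain ⟨s, hs⟩ := (Submodule.FG.pow hI n : (I ^ n).FG)
  obtain ⟨J, hJ⟩ := exists_pow_forall s (fun a J => ∀ b ∈ I ^ J, b • a • x ∈ N)
    (fun a i j hij h b hb => h b (Ideal.pow_le_pow_right hij hb))
    (fun a ha => hx a (hs ▸ Submodule.subset_span ha))
  refine ⟨J + n, fun a ha => ?_⟩
  rw [pow_add] at ha
  induction ha using Submodule.mul_induction_on' with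
  | mem_mul_mem b hb c hc =>
    rw [mul_smul]
    rw [← hs] at hc
    induction hc using Submodule.span_induction with
    | mem c hc => exact hJ c hc b hb
    | zero => simp
    | add u v _ _ hu hv => rw [add_smul, smul_add]; exact N.add_mem hu hv
    | smul r c _ h =>
      rw [smul_assoc, smul_comm]
      exact N.smul_of_tower_mem r h
  | add u _ v _ hu hv => rw [add_smul]; exact N.add_mem hu hv

theorem exists_pow_smul_sat_le {N : Submodule A M} (h : (sat I N).FG) :
    ∃ c, ∀ x ∈ sat I N, ∀ a ∈ I ^ c, a • x ∈ N := by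
  obtain ⟨s, hs⟩ := h
  obtain ⟨c, hc⟩ := exists_pow_forall s (fun x c => ∀ a ∈ I ^ c, a • x ∈ N)
    (fun x i j hij h a ha => h a (Ideal.pow_le_pow_right hij ha))
    (fun x hx => (hs ▸ Submodule.subset_span hx : x ∈ sat I N))
  refine ⟨c, fun x hx a ha => ?_⟩
  rw [← hs] at hx
  induction hx using Submodule.span_induction with
  | mem y hy => exact hc y hy a ha
  | zero => simp
  | add u v _ _ hu hv => rw [smul_add]; exact N.add_mem hu hv
  | smul r y _ h => rw [smul_comm]; exact N.smul_mem r h

end Module

/-- Saturated submodules of a finite free module over restricted power series are finitely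
generated. -/
theorem fg_of_sat_rPow (hR : AdicRing.IsBase R I) {n k : ℕ}
    (N : Submodule (AdicRing.RPow R I n) (Fin k → AdicRing.RPow R I n)) (hN : IsSat I N) : N.FG := by
  rcases base_cases hR with ⟨hNoe, -⟩ | ⟨hD, hV, hK, t, ht, rfl, hC⟩
  · haveI := isNoetherianRing_rPow (I := I) n
    exact IsNoetherian.noetherian N
  · refine fg_of_saturated (t := t) ht N fun x j hx => hN x j fun a ha => ?_
    rw [Ideal.span_singleton_pow] at ha
    obtain ⟨c, rfl⟩ := Ideal.mem_span_singleton'.mp ha
    rw [mul_smul]
    exact N.smul_of_tower_mem c hx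

/-- Saturated submodules of finite modules over algebras topologically of finite type are finitely
generated. -/
theorem fg_of_sat {M : Type w} [AddCommGroup M] [Module A M] [Module R M] [IsScalarTower R A M]
    [Module.Finite A M] (hR : AdicRing.IsBase R I) (hA : AdicRing.TopFiniteType R I A)
    (N : Submodule A M) (hN : IsSat I N) : N.FG := by
  obtain ⟨n, φ, hφ⟩ := hA
  obtain ⟨k, g, hg⟩ := Module.Finite.exists_fin' A M
  let P := AdicRing.RPow R I n
  letI : Algebra P A := φ.toRingHom.toAlgebra
  haveI : IsScalarTower R P A := IsScalarTower.of_algebraMap_eq fun r => (φ.commutes r).symm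
  let ψ : (Fin k → P) →ₗ[P] (Fin k → A) :=
    LinearMap.pi fun i => (Algebra.linearMap P A).comp (LinearMap.proj i)
  let N' : Submodule P (Fin k → P) := ((N.comap g).restrictScalars P).comap ψ
  have hN' : IsSat I N' := fun x j hx => hN (g (ψ x)) j fun a ha => by
    have := hx a ha
    change g (ψ (a • x)) ∈ N at this
    rwa [ψ.map_smul_of_tower a x, g.map_smul_of_tower a] at this
  obtain ⟨s, hs⟩ := fg_of_sat_rPow hR N' hN'
  classical
  refine ⟨s.image (g ∘ ψ), le_antisymm ?_ fun y hy => ?_⟩
  · rw [Submodule.span_le, Finset.coe_image]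
    rintro - ⟨x, hx, rfl⟩
    have : x ∈ N' := hs ▸ Submodule.subset_span hx
    exact this
  · obtain ⟨z, rfl⟩ := hg y
    choose x hx using fun i => hφ (z i)
    have hxz : ψ x = z := funext hx
    have key : ∀ w ∈ Submodule.span P (s : Set (Fin k → P)),
        g (ψ w) ∈ Submodule.span A (↑(s.image (g ∘ ψ)) : Set M) := fun w hw => by
      induction hw using Submodule.span_induction with
      | mem v hv => exact Submodule.subset_span (by rw [Finset.coe_image]; exact ⟨v, hv, rfl⟩)
      | zero => simp
      | add u v _ _ hu hv => rw [map_add, map_add]; exact add_mem hu hv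
      | smul r v _ h =>
        rw [ψ.map_smul, show r • ψ v = φ r • ψ v from rfl, g.map_smul]
        exact Submodule.smul_mem _ _ h
    rw [← hxz]
    refine key x (hs.symm ▸ ?_)
    change g (ψ x) ∈ N
    rwa [hxz]

theorem restrictScalars_pow_smul {M : Type w} [AddCommGroup M] [Module A M] [Module R M]
    [IsScalarTower R A M] (N : Submodule A M) (m : ℕ) :
    ((I.map (algebraMap R A)) ^ m • N).restrictScalars R = I ^ m • N.restrictScalars R := by
  rw [← Ideal.map_pow, Ideal.smul_restrictScalars]

/-- Artin-Rees for finite modules. -/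
theorem artinRees (hR : AdicRing.IsBase R I) (hA : AdicRing.TopFiniteType R I A) {M : Type w}
    [AddCommGroup M] [Module A M] [Module R M] [IsScalarTower R A M] [Module.Finite A M]
    (N : Submodule A M) :
    ∃ c : ℕ, ∀ m : ℕ, (I.map (algebraMap R A)) ^ (m + c) • (⊤ : Submodule A M) ⊓ N ≤
      (I.map (algebraMap R A)) ^ m • N := by
  rcases base_cases hR with ⟨hNoe, -⟩ | ⟨hD, hV, hK, t, ht, rfl, hC⟩
  · haveI := isNoetherianRing_of_tft hA
    obtain ⟨c, hc⟩ := (I.map (algebraMap R A)).exists_pow_inf_eq_pow_smul N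
    refine ⟨c, fun m => ?_⟩
    rw [hc (m + c) (Nat.le_add_left _ _), Nat.add_sub_cancel]
    exact Submodule.smul_mono le_rfl inf_le_right
  · have hfg := fg_of_sat hR hA _ (isSat_sat (base_fg hR) N)
    obtain ⟨c, hc⟩ := exists_pow_smul_sat_le hfg
    refine ⟨c, fun m x hx => ?_⟩
    have h1 : x ∈ ((Ideal.span {t}).map (algebraMap R A)) ^ (m + c) • (⊤ : Submodule A M) := hx.1
    rw [← Submodule.restrictScalars_mem R, restrictScalars_pow_smul] at h1 ⊢
    rw [Submodule.restrictScalars_top, mem_span_pow_smul_top] at h1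
    obtain ⟨y, rfl⟩ := h1
    have hy : y ∈ sat (Ideal.span {t}) N := ⟨m + c, fun a ha => by
      rw [Ideal.span_singleton_pow] at ha
      obtain ⟨e, rfl⟩ := Ideal.mem_span_singleton'.mp ha
      rw [mul_smul]
      exact N.smul_of_tower_mem e hx.2⟩
    rw [pow_add, mul_smul]
    exact Submodule.smul_mem_smul (Ideal.pow_mem_pow (Ideal.mem_span_singleton_self t) m)
      (hc y hy _ (Ideal.pow_mem_pow (Ideal.mem_span_singleton_self t) c))

theorem isPrecomplete_fin_pi {M : Type w} [AddCommGroup M] [Module R M] [IsPrecomplete I M]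
    (n : ℕ) : IsPrecomplete I (Fin n → M) := by
  refine ⟨fun f hf => ?_⟩
  have hc : ∀ j, ∃ l : M, ∀ k, f k j ≡ l [SMOD (I ^ k • ⊤ : Submodule R M)] := fun j =>
    IsPrecomplete.prec (I := I) inferInstance fun {m k} h => SModEq.mono
      (by rw [Submodule.map_smul'']; exact Submodule.smul_mono le_rfl le_top)
      ((hf h).map (LinearMap.proj (φ := fun _ : Fin n => M) j))
  choose l hl using hc
  refine ⟨l, fun k => SModEq.sub_mem.mpr ?_⟩
  rw [← Finset.univ_sum_single (f k - l)]
  refine Submodule.sum_mem _ fun j _ => ?_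
  have h1 : (f k - l) j ∈ (I ^ k • ⊤ : Submodule R M) := SModEq.sub_mem.mp (hl j k)
  have h2 := Submodule.mem_map_of_mem (f := LinearMap.single R (fun _ : Fin n => M) j) h1
  rw [Submodule.map_smul''] at h2
  exact Submodule.smul_mono le_rfl le_top h2

theorem isPrecomplete_of_finite_tft (hI : I.FG) (hA : AdicRing.TopFiniteType R I A) (M : Type w)
    [AddCommGroup M] [Module A M] [Module R M] [IsScalarTower R A M] [Module.Finite A M] :
    IsPrecomplete I M := by
  obtain ⟨n, φ, hφ⟩ := hA
  obtain ⟨k, g, hg⟩ := Module.Finite.exists_fin' A M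
  haveI := isAdicComplete_rPow hI n
  haveI : IsPrecomplete I (Fin k → AdicRing.RPow R I n) := isPrecomplete_fin_pi k
  refine AdicC27.isPrecomplete_of_surjective
    ((g.restrictScalars R).comp (LinearMap.pi fun i => φ.toLinearMap.comp (LinearMap.proj i))) ?_
  intro y
  obtain ⟨z, rfl⟩ := hg y
  choose x hx using fun i => hφ (z i)
  exact ⟨x, congrArg g (funext hx)⟩

theorem map_ideal_le_jacobson (hI : I.FG) (hA : AdicRing.TopFiniteType R I A) :
    I.map (algebraMap R A) ≤ (⊥ : Ideal A).jacobson := by
  obtain ⟨n, φ, hφ⟩ := hA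
  haveI := isAdicComplete_rPow_self hI n
  intro a ha
  rw [← φ.comp_algebraMap, ← Ideal.map_map] at ha
  obtain ⟨a', ha', rfl⟩ := (Ideal.mem_map_iff_of_surjective φ.toRingHom hφ).mp ha
  refine Ideal.mem_jacobson_bot.mpr fun b => ?_
  obtain ⟨b', rfl⟩ := hφ b
  have := (Ideal.mem_jacobson_bot.mp (IsAdicComplete.le_jacobson_bot _ ha') b').map φ
  rwa [map_add, map_mul, map_one] at this

theorem isHausdorff_of_finite_tft (hR : AdicRing.IsBase R I) (hA : AdicRing.TopFiniteType R I A)
    (M : Type w) [AddCommGroup M] [Module A M] [Module R M] [IsScalarTower R A M]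
    [Module.Finite A M] : IsHausdorff I M := by
  refine ⟨fun x hx => ?_⟩
  obtain ⟨c, hc⟩ := artinRees hR hA (Submodule.span A {x})
  have h1 : x ∈ (I.map (algebraMap R A)) ^ (1 + c) • (⊤ : Submodule A M) := by
    rw [← Submodule.restrictScalars_mem R, restrictScalars_pow_smul, Submodule.restrictScalars_top]
    exact SModEq.zero.mp (hx _)
  have h2 := hc 1 ⟨h1, Submodule.mem_span_singleton_self x⟩
  rw [pow_one, Submodule.mem_smul_span_singleton] at h2
  obtain ⟨a, ha, hax⟩ := h2
  have hu : IsUnit (a * (-1) + 1) :=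
    Ideal.mem_jacobson_bot.mp (map_ideal_le_jacobson (base_fg hR) hA ha) (-1)
  have h0 : (a * (-1) + 1) • x = 0 := by
    rw [add_smul, one_smul, mul_neg_one, neg_smul, hax, neg_add_cancel]
  exact hu.smul_eq_zero.mp h0

theorem isAdicComplete_of_finite_tft (hR : AdicRing.IsBase R I) (hA : AdicRing.TopFiniteType R I A)
    (M : Type w) [AddCommGroup M] [Module A M] [Module R M] [IsScalarTower R A M]
    [Module.Finite A M] : IsAdicComplete I M :=
  { toIsHausdorff := isHausdorff_of_finite_tft hR hA M
    toIsPrecomplete := isPrecomplete_of_finite_tft (base_fg hR) hA M }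

theorem isAdicComplete_tft_self (hR : AdicRing.IsBase R I) (hA : AdicRing.TopFiniteType R I A) :
    IsAdicComplete (I.map (algebraMap R A)) A :=
  (IsAdicComplete.map_algebraMap_iff _ _).mpr (isAdicComplete_of_finite_tft hR hA A)

theorem finiteType_quotient (hI : I.FG) (hA : AdicRing.TopFiniteType R I A) :
    Algebra.FiniteType R (A ⧸ I.map (algebraMap R A)) := by
  obtain ⟨n, φ, hφ⟩ := hA
  set K := I.map (MvPolynomial.C : R →+* MvPolynomial (Fin n) R)
  let f : MvPolynomial (Fin n) R →ₐ[R] A ⧸ I.map (algebraMap R A) :=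
    (Ideal.Quotient.mkₐ R _).comp (φ.comp (IsScalarTower.toAlgHom R _ _))
  refine Algebra.FiniteType.of_surjective f fun y => ?_
  obtain ⟨y, rfl⟩ := Ideal.Quotient.mk_surjective y
  obtain ⟨x, rfl⟩ := hφ y
  obtain ⟨p, hp⟩ := Submodule.Quotient.mk_surjective _ (x.val 1)
  refine ⟨p, Ideal.Quotient.eq.mpr ?_⟩
  have hd : algebraMap _ (AdicRing.RPow R I n) p - x ∈ LinearMap.ker (AdicCompletion.eval K _ 1) := by
    rw [LinearMap.mem_ker, map_sub]
    exact sub_eq_zero.mpr hp
  rw [← AdicCompletion.pow_smul_top_eq_ker_eval (Ideal.FG.map hI _), pow_one] at hd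
  have hd' : algebraMap _ (AdicRing.RPow R I n) p - x ∈ I.map (algebraMap R (AdicRing.RPow R I n)) := by
    rw [Ideal.smul_top_eq_map, Submodule.restrictScalars_mem, Ideal.map_map] at hd
    exact hd
  have := Ideal.mem_map_of_mem φ.toRingHom hd'
  rw [Ideal.map_map, map_sub] at this
  rw [show (φ.toRingHom.comp (algebraMap R _)) = algebraMap R A from φ.comp_algebraMap] at this
  exact this

/-- The criterion for being topologically of finite type. -/
theorem tft_of_finiteType_quotient {B : Type u} [CommRing B] [Algebra R B] (hI : I.FG)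
    [IsAdicComplete (I.map (algebraMap R B)) B]
    (hft : Algebra.FiniteType R (B ⧸ I.map (algebraMap R B))) : AdicRing.TopFiniteType R I B := by
  refine S2293.result R I hI B ?_
  refine RingHom.FiniteType.of_comp_finiteType (f := Ideal.Quotient.mk I) ?_
  rw [Ideal.quotientMap_comp_mk]
  exact RingHom.finiteType_algebraMap.mpr hft

theorem noPowTorsion_iff_span {M : Type w} [AddCommGroup M] [Module R M] {t : R} :
    AdicRing.NoPowTorsion (Ideal.span {t}) M ↔ ∀ x : M, t • x = 0 → x = 0 := by
  refine ⟨fun h x hx => h x 1 fun a ha => ?_, fun h x j hx => ?_⟩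
  · rw [pow_one] at ha
    obtain ⟨c, rfl⟩ := Ideal.mem_span_singleton'.mp ha
    rw [mul_smul, hx, smul_zero]
  · have h2 := hx (t ^ j) (Ideal.pow_mem_pow (Ideal.mem_span_singleton_self t) j)
    clear hx
    induction j with
    | zero => simpa using h2
    | succ j ih => exact ih (h _ (by rwa [smul_smul, ← pow_succ']))

/-- The kernel of a map into a module without power torsion is saturated. -/
theorem isSat_ker {M : Type w} [AddCommGroup M] [Module A M] [Module R M] [IsScalarTower R A M]
    {M' : Type*} [AddCommGroup M'] [Module A M'] [Module R M'] [IsScalarTower R A M']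
    (f : M →ₗ[A] M') (h : AdicRing.NoPowTorsion I M') : IsSat I (LinearMap.ker f) :=
  fun x n hx => h (f x) n fun a ha => by
    rw [← f.map_smul_of_tower]; exact hx a ha

theorem noPowTorsion_rPow_rank1 [IsDomain R] {t : R} (ht : t ≠ 0) (n : ℕ) :
    AdicRing.NoPowTorsion (Ideal.span {t}) (AdicRing.RPow R (Ideal.span {t}) n) :=
  noPowTorsion_iff_span.mpr fun x hx =>
    smul_pow_cancel (mem_nonZeroDivisors_of_ne_zero ht) (j := 1) (by rwa [pow_one])

/-- Finitely generated submodules of finite free modules over restricted power series are finitely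
presented. -/
theorem ker_fg_rPow (hR : AdicRing.IsBase R I) {n k l : ℕ}
    (f : (Fin k → AdicRing.RPow R I n) →ₗ[AdicRing.RPow R I n] (Fin l → AdicRing.RPow R I n)) :
    (LinearMap.ker f).FG := by
  rcases base_cases hR with ⟨hNoe, -⟩ | ⟨hD, hV, hK, t, ht, rfl, hC⟩
  · haveI := isNoetherianRing_rPow (I := I) n
    exact IsNoetherian.noetherian _
  · refine fg_of_sat_rPow hR _ (isSat_ker f fun x j hx => funext fun i => ?_)
    exact noPowTorsion_rPow_rank1 ht n (x i) j fun a ha => congrFun (hx a ha) i

/-- Algebras topologically of finite presentation are coherent. -/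
theorem finitePresentation_ideal (hR : AdicRing.IsBase R I) (hA : AdicRing.TopFinitePresentation R I A)
    {J : Ideal A} (hJ : J.FG) : Module.FinitePresentation A J := by
  obtain ⟨n, φ, hφ, hker⟩ := hA
  obtain ⟨r, b, hb⟩ := Submodule.fg_iff_exists_fin_generating_family.mp hJ
  obtain ⟨s, a, ha⟩ := Submodule.fg_iff_exists_fin_generating_family.mp hker
  let P := AdicRing.RPow R I n
  choose b' hb' using fun i => hφ (b i)
  let F : (Fin (r + s) → P) →ₗ[P] (Fin 1 → P) :=
    LinearMap.pi fun _ => Fintype.linearCombination P (Fin.append b' a)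
  obtain ⟨K, hK⟩ := ker_fg_rPow hR F
  let g : (Fin r → A) →ₗ[A] J := (Fintype.linearCombination A b).codRestrict J fun x => by
    rw [← hb, ← Fintype.range_linearCombination]; exact ⟨x, rfl⟩
  have hg : Function.Surjective g := fun y => by
    have : (y : A) ∈ LinearMap.range (Fintype.linearCombination A b) := by
      rw [Fintype.range_linearCombination]; exact hb.symm ▸ y.2
    obtain ⟨x, hx⟩ := this
    exact ⟨x, Subtype.ext hx⟩
  refine Module.finitePresentation_of_surjective g hg ?_
  classical
  let h : (Fin (r + s) → P) → (Fin r → A) := fun w i => φ (w (Fin.castAdd s i))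
  refine ⟨K.image h, le_antisymm ?_ fun v hv => ?_⟩
  · rw [Submodule.span_le, Finset.coe_image]
    rintro - ⟨w, hw, rfl⟩
    have hw' : F w = 0 := LinearMap.mem_ker.mp (hK ▸ Submodule.subset_span hw)
    have h0 : φ (Fintype.linearCombination P (Fin.append b' a) w) = 0 := by
      rw [show Fintype.linearCombination P (Fin.append b' a) w = 0 from congrFun hw' 0, map_zero]
    simp only [SetLike.mem_coe, LinearMap.mem_ker]
    refine Subtype.ext (Eq.trans ?_ h0)
    have ha0 : ∀ i, φ (a i) = 0 := fun i =>
      RingHom.mem_ker.mp (ha ▸ Submodule.subset_span (Set.mem_range_self i) :)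
    simp [g, h, Fintype.linearCombination_apply, Fin.sum_univ_add, map_sum, hb', ha0]
  · have hv' : ∑ i, v i * b i = 0 := by
      simpa [g, Fintype.linearCombination_apply] using congrArg Subtype.val (LinearMap.mem_ker.mp hv)
    choose v' hv'' using fun i => hφ (v i)
    have : (∑ i, v' i * b' i) ∈ RingHom.ker φ.toRingHom := by
      rw [RingHom.mem_ker]
      simpa [map_sum, hv'', hb'] using hv'
    rw [← ha, Submodule.mem_span_range_iff_exists_fun] at this
    obtain ⟨c, hc⟩ := this
    set w : Fin (r + s) → P := Fin.append v' (-c) with hw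
    have hwK : w ∈ Submodule.span P (K : Set (Fin (r + s) → P)) := by
      rw [hK, LinearMap.mem_ker]
      refine funext fun _ => ?_
      simp only [F, LinearMap.pi_apply, Fintype.linearCombination_apply, Fin.sum_univ_add, hw,
        Fin.append_left, Fin.append_right, Pi.zero_apply, Pi.neg_apply, smul_eq_mul, neg_mul,
        Finset.sum_neg_distrib]
      simp only [smul_eq_mul] at hc
      rw [← hc, ← Finset.sum_add_distrib]
      exact Finset.sum_eq_zero fun i _ => (add_mul _ _ _).symm.trans
        (by rw [show c i + -c i = 0 from add_neg_cancel (c i), zero_mul])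
    have key : ∀ z ∈ Submodule.span P (K : Set (Fin (r + s) → P)),
        h z ∈ Submodule.span A (↑(K.image h) : Set (Fin r → A)) := fun z hz => by
      induction hz using Submodule.span_induction with
      | mem z hz => exact Submodule.subset_span (by rw [Finset.coe_image]; exact ⟨z, hz, rfl⟩)
      | zero =>
        rw [show h 0 = 0 from funext fun i => by simp [h]]
        exact zero_mem _
      | add x y _ _ hx hy =>
        rw [show h (x + y) = h x + h y from funext fun i => by simp [h]]
        exact add_mem hx hy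
      | smul c x _ hx =>
        rw [show h (c • x) = φ c • h x from funext fun i => by simp [h]]
        exact Submodule.smul_mem _ _ hx
    rw [show v = h w from funext fun i => by simp [h, hw, hv'']]
    exact key w hwK

end Groth.Agent.Frg27
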