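import Groth.Agent.Frg27.TFT
import Mathlib.RingTheory.FinitePresentation
import Mathlib.RingTheory.Flat.TorsionFree
import Mathlib.RingTheory.AdicCompletion.AsTensorProduct

/-!
Truncations of algebras topologically of finite presentation; flatness of restricted power series.
-/

set_option autoImplicit false
set_option linter.style.haveILetI false
set_option linter.unusedSectionVars false

namespace Groth.Agent.Frg27

universe u

variable {R : Type u} [CommRing R] {I : Ideal R} {A : Type u} [CommRing A] [Algebra R A]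

theorem finitePresentation_quotientMap_iff (hI : I.FG) (j : ℕ) :
    (Ideal.quotientMap ((I ^ j).map (algebraMap R A)) (algebraMap R A)
        Ideal.le_comap_map).FinitePresentation ↔
      Algebra.FinitePresentation R (A ⧸ (I ^ j).map (algebraMap R A)) := by
  rw [← RingHom.finitePresentation_algebraMap]
  have hpi : (Ideal.Quotient.mk (I ^ j)).FinitePresentation :=
    RingHom.FinitePresentation.of_surjective _ Ideal.Quotient.mk_surjective
      (by rw [Ideal.mk_ker]; exact Submodule.FG.pow hI j)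
  constructor
  · intro h
    have := h.comp hpi
    rwa [Ideal.quotientMap_comp_mk] at this
  · intro h
    refine RingHom.FinitePresentation.of_comp_finiteType (Ideal.Quotient.mk (I ^ j)) ?_
      (RingHom.FiniteType.of_surjective _ Ideal.Quotient.mk_surjective)
    rw [Ideal.quotientMap_comp_mk]
    exact h

/-- Every series is a polynomial up to a power of the ideal of definition. -/
theorem exists_poly_add (hI : I.FG) {n : ℕ} (x : AdicRing.RPow R I n) (j : ℕ) :
    ∃ p : MvPolynomial (Fin n) R, x - algebraMap (MvPolynomial (Fin n) R) (AdicRing.RPow R I n) p ∈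
      (I ^ j).map (algebraMap R (AdicRing.RPow R I n)) := by
  set K := I.map (MvPolynomial.C : R →+* MvPolynomial (Fin n) R)
  obtain ⟨p, hp⟩ := Submodule.Quotient.mk_surjective _ (x.val j)
  refine ⟨p, ?_⟩
  have hd : x - algebraMap _ (AdicRing.RPow R I n) p ∈ LinearMap.ker (AdicCompletion.eval K _ j) := by
    rw [LinearMap.mem_ker, map_sub]
    exact sub_eq_zero.mpr hp.symm
  rw [← AdicCompletion.pow_smul_top_eq_ker_eval (Ideal.FG.map hI _), Ideal.smul_top_eq_map,
    Submodule.restrictScalars_mem] at hd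
  rw [← Ideal.map_pow, Ideal.map_map] at hd
  exact hd

/-- A polynomial lies in `I^j R⟨ζ⟩` only if it lies in `I^j R[ζ]`. -/
theorem mem_of_algebraMap_mem (hI : I.FG) {n : ℕ} (p : MvPolynomial (Fin n) R) (j : ℕ)
    (h : algebraMap (MvPolynomial (Fin n) R) (AdicRing.RPow R I n) p ∈
      (I ^ j).map (algebraMap R (AdicRing.RPow R I n))) :
    p ∈ (I ^ j).map (MvPolynomial.C : R →+* MvPolynomial (Fin n) R) := by
  set K := I.map (MvPolynomial.C : R →+* MvPolynomial (Fin n) R) with hK
  have h1 : algebraMap _ (AdicRing.RPow R I n) p ∈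
      (K ^ j • ⊤ : Submodule (MvPolynomial (Fin n) R) (AdicRing.RPow R I n)) := by
    rw [Ideal.smul_top_eq_map, Submodule.restrictScalars_mem, hK, ← Ideal.map_pow, Ideal.map_map]
    exact h
  have h2 : (Submodule.Quotient.mk p : MvPolynomial (Fin n) R ⧸ (K ^ j • ⊤ : Ideal _)) = 0 :=
    LinearMap.mem_ker.mp (AdicCompletion.pow_smul_top_le_ker_eval K j h1)
  rw [Submodule.Quotient.mk_eq_zero, smul_eq_mul, Ideal.mul_top, hK, ← Ideal.map_pow] at h2
  exact h2

/-- The map from polynomials onto a truncation. -/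
noncomputable def truncMap {n : ℕ} (φ : AdicRing.RPow R I n →ₐ[R] A) (j : ℕ) :
    MvPolynomial (Fin n) R →ₐ[R] A ⧸ (I ^ j).map (algebraMap R A) :=
  (Ideal.Quotient.mkₐ R _).comp (φ.comp (IsScalarTower.toAlgHom R _ _))

theorem map_algebraMap_eq {n : ℕ} (φ : AdicRing.RPow R I n →ₐ[R] A) (j : ℕ) :
    ((I ^ j).map (algebraMap R (AdicRing.RPow R I n))).map φ.toRingHom = (I ^ j).map (algebraMap R A) := by
  rw [Ideal.map_map]
  exact congrArg (fun f => Ideal.map f (I ^ j)) φ.comp_algebraMap

theorem truncMap_surjective (hI : I.FG) {n : ℕ} {φ : AdicRing.RPow R I n →ₐ[R] A}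
    (hφ : Function.Surjective φ) (j : ℕ) : Function.Surjective (truncMap φ j) := by
  intro y
  obtain ⟨y, rfl⟩ := Ideal.Quotient.mk_surjective y
  obtain ⟨x, rfl⟩ := hφ y
  obtain ⟨p, hp⟩ := exists_poly_add hI x j
  have h2 := Ideal.mem_map_of_mem φ.toRingHom hp
  rw [map_algebraMap_eq, map_sub] at h2
  exact ⟨p, (Ideal.Quotient.eq.mpr h2).symm⟩

theorem exists_poly_of_mem_map (hI : I.FG) {n : ℕ} (j : ℕ) {K : Ideal (MvPolynomial (Fin n) R)}
    {a : AdicRing.RPow R I n}
    (ha : a ∈ K.map (algebraMap (MvPolynomial (Fin n) R) (AdicRing.RPow R I n))) :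
    ∃ a' ∈ K, a - algebraMap (MvPolynomial (Fin n) R) (AdicRing.RPow R I n) a' ∈
      (I ^ j).map (algebraMap R (AdicRing.RPow R I n)) := by
  change a ∈ Submodule.span (AdicRing.RPow R I n) _ at ha
  induction ha using Submodule.span_induction with
  | mem x hx => obtain ⟨a', ha', rfl⟩ := hx; exact ⟨a', ha', by simp⟩
  | zero => exact ⟨0, zero_mem _, by simp⟩
  | add x y _ _ hx hy =>
    obtain ⟨x', hx', hxx⟩ := hx
    obtain ⟨y', hy', hyy⟩ := hy
    exact ⟨x' + y', add_mem hx' hy', by rw [map_add, add_sub_add_comm]; exact add_mem hxx hyy⟩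
  | smul r x _ hx =>
    obtain ⟨x', hx', hxx⟩ := hx
    obtain ⟨q, hq⟩ := exists_poly_add hI r j
    refine ⟨q * x', Ideal.mul_mem_left _ _ hx', ?_⟩
    rw [smul_eq_mul, map_mul, show ∀ (u v y z : AdicRing.RPow R I n), u * v - y * z = u * (v - z) + (u - y) * z from fun u v y z => by ring]
    exact add_mem (Ideal.mul_mem_left _ _ hxx) (Ideal.mul_mem_right _ _ hq)

set_option maxHeartbeats 400000 in
theorem topFinitePresentation_iff (hR : AdicRing.IsBase R I)
    [IsAdicComplete (I.map (algebraMap R A)) A] :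
    AdicRing.TopFinitePresentation R I A ↔
      ∀ j : ℕ, Algebra.FinitePresentation R (A ⧸ (I ^ (j + 1)).map (algebraMap R A)) := by
  have hI := base_fg hR
  constructor
  · rintro ⟨n, φ, hφ, s, hs⟩ j
    refine Algebra.FinitePresentation.of_surjective (f := truncMap φ (j + 1))
      (truncMap_surjective hI hφ _) ?_
    choose p hp using fun x : AdicRing.RPow R I n => exists_poly_add hI x (j + 1)
    classical
    have hker : RingHom.ker (truncMap φ (j + 1)).toRingHom =
        Ideal.span (↑(s.image p) : Set (MvPolynomial (Fin n) R)) ⊔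
          (I ^ (j + 1)).map (MvPolynomial.C : R →+* MvPolynomial (Fin n) R) := by
      refine le_antisymm (fun q hq => ?_) (sup_le ?_ ?_)
      · have hq' : φ (algebraMap _ _ q) ∈ (I ^ (j + 1)).map (algebraMap R A) :=
          Ideal.Quotient.eq_zero_iff_mem.mp hq
        rw [← map_algebraMap_eq φ] at hq'
        obtain ⟨y, hy, hyq⟩ := (Ideal.mem_map_iff_of_surjective φ.toRingHom hφ).mp hq'
        have hmem : algebraMap _ (AdicRing.RPow R I n) q - y ∈ Ideal.span (s : Set (AdicRing.RPow R I n)) := by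
          rw [show Ideal.span (s : Set (AdicRing.RPow R I n)) = RingHom.ker φ.toRingHom from hs,
            RingHom.mem_ker, map_sub, sub_eq_zero]
          exact hyq.symm
        have hdec : algebraMap _ (AdicRing.RPow R I n) q ∈
            (Ideal.span (↑(s.image p) : Set (MvPolynomial (Fin n) R))).map
              (algebraMap _ (AdicRing.RPow R I n)) ⊔ (I ^ (j + 1)).map (algebraMap R _) := by
          refine (?_ : Ideal.span (s : Set (AdicRing.RPow R I n)) ⊔ (I ^ (j + 1)).map (algebraMap R _) ≤ _)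
            (Submodule.mem_sup.mpr ⟨_, hmem, y, hy, sub_add_cancel _ _⟩)
          refine sup_le (Ideal.span_le.mpr fun x hx => ?_) le_sup_right
          rw [← sub_add_cancel x (algebraMap _ (AdicRing.RPow R I n) (p x))]
          exact add_mem (Ideal.mem_sup_right (hp x)) (Ideal.mem_sup_left
            (Ideal.mem_map_of_mem _ (Ideal.subset_span (by rw [Finset.coe_image]; exact ⟨x, hx, rfl⟩))))
        obtain ⟨a, ha, b, hb, hab⟩ := Submodule.mem_sup.mp hdec
        obtain ⟨a', ha', haa'⟩ := exists_poly_of_mem_map hI (j + 1) ha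
        refine Submodule.mem_sup.mpr ⟨a', ha', q - a', mem_of_algebraMap_mem hI _ _ ?_, by abel⟩
        rw [map_sub, ← hab, add_sub_right_comm]
        exact add_mem haa' hb
      · refine Ideal.span_le.mpr ?_
        rw [Finset.coe_image]
        rintro - ⟨x, hx, rfl⟩
        refine Ideal.Quotient.eq_zero_iff_mem.mpr ?_
        have h0 : φ x = 0 := RingHom.mem_ker.mp (hs.le (Submodule.subset_span hx))
        have h2 := Ideal.mem_map_of_mem φ.toRingHom (hp x)
        rw [map_algebraMap_eq, map_sub] at h2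
        change φ x - _ ∈ _ at h2
        rw [h0, zero_sub, neg_mem_iff] at h2
        exact h2
      · refine Ideal.map_le_iff_le_comap.mpr fun r hr => Ideal.Quotient.eq_zero_iff_mem.mpr ?_
        have : φ (algebraMap (MvPolynomial (Fin n) R) (AdicRing.RPow R I n) (MvPolynomial.C r)) = algebraMap R A r := by
          rw [← φ.commutes r, IsScalarTower.algebraMap_apply R (MvPolynomial (Fin n) R) (AdicRing.RPow R I n)]
          rfl
        exact this ▸ Ideal.mem_map_of_mem _ hr
    rw [hker]
    exact Submodule.FG.sup ⟨_, rfl⟩ (Ideal.FG.map (Submodule.FG.pow hI _) _)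
  · intro h
    have hft : Algebra.FiniteType R (A ⧸ I.map (algebraMap R A)) := by
      haveI := (h 0)
      refine Algebra.FiniteType.of_surjective
        (Ideal.quotientEquivAlgOfEq R (by rw [pow_one] : (I ^ (0 + 1)).map (algebraMap R A) =
          I.map (algebraMap R A))).toAlgHom (AlgEquiv.surjective _)
    obtain ⟨n, φ, hφ⟩ := tft_of_finiteType_quotient hI hft
    refine ⟨n, φ, hφ, ?_⟩
    set P := AdicRing.RPow R I n
    set 𝔞 := RingHom.ker φ.toRingHom
    have hP : AdicRing.TopFiniteType R I P := ⟨n, AlgHom.id R _, Function.surjective_id⟩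
    have hsat := fg_of_sat hR hP (sat I (𝔞 : Submodule P P)) (isSat_sat hI _)
    obtain ⟨c₀, hc₀⟩ := exists_pow_smul_sat_le hsat
    obtain ⟨c, hc⟩ := artinRees hR hP (𝔞 : Submodule P P)
    haveI := h (c₀ + c)
    obtain ⟨G, hG⟩ := Algebra.FinitePresentation.ker_fG_of_surjective (truncMap φ (c₀ + c + 1))
      (truncMap_surjective hI hφ _)
    choose g hg hgy using fun q : G =>
      show ∃ a ∈ 𝔞, algebraMap _ P q.1 - a ∈ (I ^ (c₀ + c + 1)).map (algebraMap R P) by
        have hq : φ (algebraMap _ P q.1) ∈ (I ^ (c₀ + c + 1)).map (algebraMap R A) :=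
          Ideal.Quotient.eq_zero_iff_mem.mp (hG ▸ Submodule.subset_span q.2 :
            q.1 ∈ RingHom.ker (truncMap φ (c₀ + c + 1)).toRingHom)
        rw [← map_algebraMap_eq φ] at hq
        obtain ⟨y, hy, hyq⟩ := (Ideal.mem_map_iff_of_surjective φ.toRingHom hφ).mp hq
        refine ⟨algebraMap _ P q.1 - y, ?_, by rwa [sub_sub_cancel]⟩
        rw [RingHom.mem_ker, map_sub, sub_eq_zero]
        exact hyq.symm
    set S : Ideal P := (I.map (algebraMap R P)) ^ c₀ • sat I (𝔞 : Submodule P P)
    have hS : S.FG := Submodule.FG.smul (Submodule.FG.pow (Ideal.FG.map hI (algebraMap R P) : (I.map (algebraMap R P)).FG) _) hsat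
    have hSle : S ≤ 𝔞 := by
      rw [← Submodule.restrictScalars_le R, restrictScalars_pow_smul, Submodule.smul_le]
      exact fun a ha x hx => hc₀ x hx a ha
    suffices 𝔞 = Ideal.span (Set.range g) ⊔ S by
      rw [this]; exact Submodule.FG.sup (Submodule.fg_span (Set.finite_range g)) hS
    refine le_antisymm (fun x hx => ?_) (sup_le (Ideal.span_le.mpr ?_) hSle)
    · obtain ⟨p, hp⟩ := exists_poly_add hI x (c₀ + c + 1)
      have hpk : p ∈ RingHom.ker (truncMap φ (c₀ + c + 1)).toRingHom := by
        refine Ideal.Quotient.eq_zero_iff_mem.mpr ?_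
        have h2 := Ideal.mem_map_of_mem φ.toRingHom hp
        rw [map_algebraMap_eq, map_sub] at h2
        change φ x - _ ∈ _ at h2
        rw [show φ x = 0 from hx, zero_sub, neg_mem_iff] at h2
        exact h2
      have h3 : (RingHom.ker (truncMap φ (c₀ + c + 1)).toRingHom).map (algebraMap _ P) ≤
          Ideal.span (Set.range g) ⊔ (I ^ (c₀ + c + 1)).map (algebraMap R P) := by
        rw [← hG, ← Ideal.submodule_span_eq, Ideal.map_span, Ideal.span_le]
        rintro - ⟨q, hq, rfl⟩
        rw [← add_sub_cancel (g ⟨q, hq⟩) (algebraMap _ P q)]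
        exact Submodule.add_mem_sup (Ideal.subset_span ⟨⟨q, hq⟩, rfl⟩) (hgy ⟨q, hq⟩)
      have h4 : x ∈ Ideal.span (Set.range g) ⊔ (I ^ (c₀ + c + 1)).map (algebraMap R P) := by
        rw [← sub_add_cancel x (algebraMap _ P p)]
        exact add_mem (Ideal.mem_sup_right hp) (h3 (Ideal.mem_map_of_mem _ hpk))
      obtain ⟨a, ha, y, hy, rfl⟩ := Submodule.mem_sup.mp h4
      refine Submodule.add_mem_sup ha ?_
      have hya : y ∈ 𝔞 := by
        refine (Submodule.add_mem_iff_right _ ?_).mp hx
        exact (Ideal.span_le.mpr (Set.range_subset_iff.mpr hg)) ha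
      have hy' : y ∈ (I.map (algebraMap R P)) ^ (c₀ + c) • (⊤ : Submodule P P) := by
        rw [smul_eq_mul, Ideal.mul_top, ← Ideal.map_pow]
        exact Ideal.map_mono (Ideal.pow_le_pow_right (Nat.le_succ _)) hy
      exact Submodule.smul_mono le_rfl (le_sat _) (hc c₀ ⟨hy', hya⟩)
    · rintro - ⟨q, rfl⟩
      exact hg q

theorem flat_rPow (hR : AdicRing.IsBase R I) (n : ℕ) : Module.Flat R (AdicRing.RPow R I n) := by
  rcases base_cases hR with ⟨hNoe, -⟩ | ⟨hD, hV, hK, t, ht, rfl, hC⟩
  · exact Module.Flat.trans R (MvPolynomial (Fin n) R) _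
  · rw [Module.Flat.flat_iff_torsion_eq_bot_of_isBezout, eq_bot_iff]
    rintro x ⟨⟨a, ha⟩, hax⟩
    obtain ⟨N, e, he⟩ := exists_dvd_pow_of_ne_zero ht (mem_nonZeroDivisors_iff_ne_zero.mp ha)
      (mem_maximalIdeal ht)
    refine (Submodule.mem_bot _).mpr (smul_pow_cancel (mem_nonZeroDivisors_of_ne_zero ht) (j := N) ?_)
    rw [he, mul_comm, mul_smul, show a • x = 0 from hax, smul_zero]

end Groth.Agent.Frg27
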