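import Mathlib.RingTheory.AdicCompletion.AsTensorProduct

/-!
Completion of finite modules under a weak Artin-Rees property.
-/

set_option autoImplicit false

universe u

open TensorProduct

namespace Groth.Agent.Frg27

variable {B : Type u} [CommRing B] (J : Ideal B)

/-- Artin-Rees with a finitely generated substitute for the submodule. -/
def WeakAR : Prop :=
  ∀ (M : Type u) [AddCommGroup M] [Module B M] [Module.Finite B M] (N : Submodule B M),
    ∃ (c : ℕ) (G : Submodule B M), G.FG ∧ G ≤ N ∧ ∀ m : ℕ,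
      J ^ (m + c) • (⊤ : Submodule B M) ⊓ N ≤ J ^ m • G

variable {J}

theorem ofTensorProduct_bijective_of_weakAR (h : WeakAR J) (M : Type u) [AddCommGroup M]
    [Module B M] [Module.Finite B M] : Function.Bijective (AdicCompletion.ofTensorProduct J M) := by
  refine ⟨(injective_iff_map_eq_zero _).mpr fun x hx => ?_,
    AdicCompletion.ofTensorProduct_surjective_of_finite J M⟩
  obtain ⟨k, g, hg⟩ := Module.Finite.exists_fin' B M
  obtain ⟨y, rfl⟩ := LinearMap.lTensor_surjective (AdicCompletion J B) hg x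
  have nat : ∀ {N N' : Type u} [AddCommGroup N] [Module B N] [AddCommGroup N'] [Module B N']
      (f : N →ₗ[B] N') (z : AdicCompletion J B ⊗[B] N),
      AdicCompletion.ofTensorProduct J N' (f.lTensor _ z) =
        AdicCompletion.map J f (AdicCompletion.ofTensorProduct J N z) := fun f z =>
    (LinearMap.congr_fun (AdicCompletion.ofTensorProduct_naturality J f) z).symm
  rw [nat] at hx
  obtain ⟨a, ha⟩ := AdicCompletion.mk_surjective J (Fin k → B) (AdicCompletion.ofTensorProduct J _ y)
  rw [← ha, AdicCompletion.map_mk] at hx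
  have hga : ∀ n, g (a n) ∈ J ^ n • (⊤ : Submodule B M) := fun n =>
    (Submodule.Quotient.mk_eq_zero _).mp (congrFun (congrArg Subtype.val hx) n)
  have hlift : ∀ n, ∃ e : (Fin k → B), e ∈ J ^ n • (⊤ : Submodule B (Fin k → B)) ∧ g e = g (a n) :=
    fun n => by
      have : g (a n) ∈ (J ^ n • (⊤ : Submodule B (Fin k → B))).map g := by
        rw [Submodule.map_smul'', Submodule.map_top, LinearMap.range_eq_top.mpr hg]
        exact hga n
      obtain ⟨e, he, hge⟩ := this
      exact ⟨e, he, hge⟩
  choose e he hge using hlift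
  obtain ⟨c, G, hG, hGle, hAR⟩ := h (Fin k → B) (LinearMap.ker g)
  let b : ℕ → (Fin k → B) := fun n => a n - e n
  have hb : ∀ n, g (b n) = 0 := fun n => by simp [b, hge n]
  have hbab : ∀ n, b n - a n ∈ J ^ n • (⊤ : Submodule B (Fin k → B)) := fun n => by
    simpa [b] using neg_mem (he n)
  have hdiff : ∀ {m n}, m ≤ n → b n - b m ∈ J ^ m • (⊤ : Submodule B (Fin k → B)) := by
    intro m n hmn
    have h1 := SModEq.sub_mem.mp (a.2 hmn)
    have h2 := (Submodule.smul_mono_left (Ideal.pow_le_pow_right hmn)) (hbab n)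
    have h3 := sub_mem (sub_mem h2 h1) (hbab m)
    convert h3 using 1
    abel
  have hu : ∀ n, b (n + c) - b c ∈ G := fun n => by
    have := hAR 0 ⟨by rw [zero_add]; exact hdiff (Nat.le_add_left c n),
      show g (b (n + c) - b c) = 0 by rw [map_sub, hb, hb, sub_zero]⟩
    rwa [pow_zero, Ideal.one_eq_top, Submodule.top_smul] at this
  let u : AdicCompletion.AdicCauchySequence J G :=
    AdicCompletion.AdicCauchySequence.mk J G (fun n => ⟨b (n + c) - b c, hu n⟩) fun n => by
      refine SModEq.sub_mem.mpr ((Submodule.mem_smul_top_iff _ _ _).mpr ?_)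
      have := hAR n ⟨hdiff (Nat.add_le_add_right (Nat.le_succ n) c),
        show g (b (n + 1 + c) - b (n + c)) = 0 by rw [map_sub, hb, hb, sub_zero]⟩
      have h2 := neg_mem this
      rw [neg_sub] at h2
      simpa using h2
  haveI : Module.Finite B G := Module.Finite.iff_fg.mpr hG
  obtain ⟨z, hz⟩ := AdicCompletion.ofTensorProduct_surjective_of_finite J G (AdicCompletion.mk J G u)
  have hy : y = G.subtype.lTensor _ z + (1 : AdicCompletion J B) ⊗ₜ[B] b c := by
    refine (AdicCompletion.ofTensorProduct_bijective_of_pi_of_fintype J (Fin k)).1 ?_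
    rw [map_add, nat, hz, AdicCompletion.ofTensorProduct_tmul, one_smul, ← ha, AdicCompletion.map_mk]
    refine AdicCompletion.ext fun n => ?_
    change Submodule.Quotient.mk (a n) =
      (Submodule.Quotient.mk ((b (n + c) - b c) + b c) : (Fin k → B) ⧸ (J ^ n • ⊤ : Submodule B _))
    refine (Submodule.Quotient.eq _).mpr ?_
    have h1 := neg_mem (add_mem (hdiff (Nat.le_add_right n c)) (hbab n))
    convert h1 using 1
    abel
  rw [hy, map_add, ← LinearMap.lTensor_comp_apply, LinearMap.lTensor_tmul, hb, TensorProduct.tmul_zero,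
    add_zero, show g.comp G.subtype = 0 from LinearMap.ext fun w => hGle w.2, LinearMap.lTensor_zero,
    LinearMap.zero_apply]

theorem flat_adicCompletion_of_weakAR (h : WeakAR J) : Module.Flat B (AdicCompletion J B) := by
  refine Module.Flat.iff_lTensor_injective.mpr fun 𝔞 h𝔞 => ?_
  haveI : Module.Finite B 𝔞 := Module.Finite.iff_fg.mpr h𝔞
  refine (injective_iff_map_eq_zero _).mpr fun x hx => ?_
  refine (ofTensorProduct_bijective_of_weakAR h 𝔞).1 ?_
  rw [map_zero]
  obtain ⟨a, ha⟩ := AdicCompletion.mk_surjective J 𝔞 (AdicCompletion.ofTensorProduct J _ x)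
  have h1 : AdicCompletion.map J 𝔞.subtype (AdicCompletion.ofTensorProduct J 𝔞 x) = 0 :=
    (LinearMap.congr_fun (AdicCompletion.ofTensorProduct_naturality J 𝔞.subtype) x).trans
      ((congrArg (AdicCompletion.ofTensorProduct J B) hx).trans (map_zero _))
  rw [← ha, AdicCompletion.map_mk] at h1
  rw [← ha]
  obtain ⟨c, G, hG, hGle, hAR⟩ := h B 𝔞
  refine AdicCompletion.ext fun n => ?_
  have hn : (a (n + c) : B) ∈ J ^ (n + c) • (⊤ : Submodule B B) :=
    (Submodule.Quotient.mk_eq_zero _).mp (congrFun (congrArg Subtype.val h1) (n + c))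
  have hmem : a (n + c) ∈ J ^ n • (⊤ : Submodule B 𝔞) := (Submodule.mem_smul_top_iff _ _ _).mpr
    (Submodule.smul_mono le_rfl hGle (hAR n ⟨hn, (a (n + c)).2⟩))
  change (Submodule.Quotient.mk (a n) : 𝔞 ⧸ (J ^ n • ⊤ : Submodule B 𝔞)) = 0
  rw [← AdicCompletion.AdicCauchySequence.mk_eq_mk (Nat.le_add_right n c)]
  exact (Submodule.Quotient.mk_eq_zero _).mpr hmem

end Groth.Agent.Frg27
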