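import Groth.Agent.Frg27.PolyTFT
import Mathlib.RingTheory.MvPolynomial.Basic

/-!
Saturation and Artin-Rees for finite modules over algebras of finite type over algebras
topologically of finite type.
-/

set_option autoImplicit false

universe u w

namespace Groth.Agent.Frg27

variable {R : Type u} [CommRing R] {I : Ideal R}

/-- Finite generation of saturated submodules passes along surjections of algebras. -/
theorem fg_of_sat_of_surjective {T B : Type u} [CommRing T] [Algebra R T] [CommRing B] [Algebra R B]
    (π : T →ₐ[R] B) (hπ : Function.Surjective π)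
    (hT : ∀ (k : ℕ) (N : Submodule T (Fin k → T)), IsSat I N → N.FG)
    {M : Type w} [AddCommGroup M] [Module B M] [Module R M] [IsScalarTower R B M] [Module.Finite B M]
    (N : Submodule B M) (hN : IsSat I N) : N.FG := by
  obtain ⟨k, g, hg⟩ := Module.Finite.exists_fin' B M
  letI : Algebra T B := π.toRingHom.toAlgebra
  haveI : IsScalarTower R T B := IsScalarTower.of_algebraMap_eq fun r => (π.commutes r).symm
  let ψ : (Fin k → T) →ₗ[T] (Fin k → B) :=
    LinearMap.pi fun i => (Algebra.linearMap T B).comp (LinearMap.proj i)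
  let N' : Submodule T (Fin k → T) := ((N.comap g).restrictScalars T).comap ψ
  have hN' : IsSat I N' := fun x j hx => hN (g (ψ x)) j fun a ha => by
    have := hx a ha
    change g (ψ (a • x)) ∈ N at this
    rwa [ψ.map_smul_of_tower a x, g.map_smul_of_tower a] at this
  obtain ⟨s, hs⟩ := hT k N' hN'
  classical
  refine ⟨s.image (g ∘ ψ), le_antisymm ?_ fun y hy => ?_⟩
  · rw [Submodule.span_le, Finset.coe_image]
    rintro - ⟨x, hx, rfl⟩
    have : x ∈ N' := hs ▸ Submodule.subset_span hx
    exact this
  · obtain ⟨z, rfl⟩ := hg y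
    choose x hx using fun i => hπ (z i)
    have hxz : ψ x = z := funext hx
    have key : ∀ w ∈ Submodule.span T (s : Set (Fin k → T)),
        g (ψ w) ∈ Submodule.span B (↑(s.image (g ∘ ψ)) : Set M) := fun w hw => by
      induction hw using Submodule.span_induction with
      | mem v hv => exact Submodule.subset_span (by rw [Finset.coe_image]; exact ⟨v, hv, rfl⟩)
      | zero => simp
      | add u v _ _ hu hv => rw [map_add, map_add]; exact add_mem hu hv
      | smul r v _ h =>
        rw [ψ.map_smul, show r • ψ v = π r • ψ v from rfl, g.map_smul]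
        exact Submodule.smul_mem _ _ h
    rw [← hxz]
    refine key x (hs.symm ▸ ?_)
    change g (ψ x) ∈ N
    rwa [hxz]

variable {A : Type u} [CommRing A] [Algebra R A]
variable {B : Type u} [CommRing B] [Algebra R B] [Algebra A B] [IsScalarTower R A B]
  [Algebra.FiniteType A B]

theorem fg_of_sat_finiteType [IsDomain R] [ValuationRing R] [Ring.KrullDimLE 1 R] {t : R}
    (ht : t ≠ 0) [IsAdicComplete (Ideal.span {t}) R]
    (hA : AdicRing.TopFiniteType R (Ideal.span {t}) A)
    {M : Type w} [AddCommGroup M] [Module B M] [Module R M] [IsScalarTower R B M] [Module.Finite B M]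
    (N : Submodule B M) (hN : IsSat (Ideal.span {t}) N) : N.FG := by
  obtain ⟨n, φ, hφ⟩ := hA
  obtain ⟨l, ψ, hψ⟩ := Algebra.FiniteType.iff_quotient_mvPolynomial''.mp
    (inferInstance : Algebra.FiniteType A B)
  refine fg_of_sat_of_surjective
    ((ψ.restrictScalars R).comp (MvPolynomial.mapAlgHom φ)) ?_
    (fun k N hN => fg_of_sat_poly ht N hN) N hN
  exact hψ.comp (MvPolynomial.map_surjective _ hφ)

theorem isNoetherianRing_of_finiteType [IsNoetherianRing R] (hA : AdicRing.TopFiniteType R I A) :
    IsNoetherianRing B := by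
  haveI := isNoetherianRing_of_tft hA
  exact Algebra.FiniteType.isNoetherianRing A B

/-- A finitely generated substitute `G ⊆ N` controlling `N ∩ I^(m+c) M`. -/
theorem exists_fg_artinRees (hR : AdicRing.IsBase R I) (hA : AdicRing.TopFiniteType R I A)
    {M : Type w} [AddCommGroup M] [Module B M] [Module.Finite B M] (N : Submodule B M) :
    ∃ (c : ℕ) (G : Submodule B M), G.FG ∧ G ≤ N ∧ ∀ m : ℕ,
      (I.map (algebraMap R B)) ^ (m + c) • (⊤ : Submodule B M) ⊓ N ≤
        (I.map (algebraMap R B)) ^ m • G := by
  rcases base_cases hR with ⟨hNoe, -⟩ | ⟨hD, hV, hK, t, ht, rfl, hC⟩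
  · haveI := isNoetherianRing_of_finiteType (B := B) hA
    obtain ⟨c, hc⟩ := (I.map (algebraMap R B)).exists_pow_inf_eq_pow_smul N
    refine ⟨c, N, IsNoetherian.noetherian N, le_rfl, fun m => ?_⟩
    rw [hc (m + c) (Nat.le_add_left _ _), Nat.add_sub_cancel]
    exact Submodule.smul_mono le_rfl inf_le_right
  · letI : Module R M := Module.compHom M (algebraMap R B)
    haveI : IsScalarTower R B M := IsScalarTower.of_algebraMap_smul fun _ _ => rfl
    have hfg := fg_of_sat_finiteType (B := B) ht hA _ (isSat_sat (base_fg hR) N)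
    obtain ⟨c, hc⟩ := exists_pow_smul_sat_le hfg
    refine ⟨c, ((Ideal.span {t}).map (algebraMap R B)) ^ c • sat (Ideal.span {t}) N,
      Submodule.FG.smul (Submodule.FG.pow (Ideal.FG.map (base_fg hR) (algebraMap R B) :
        ((Ideal.span {t}).map (algebraMap R B)).FG) _) hfg, ?_, fun m x hx => ?_⟩
    · rw [← Submodule.restrictScalars_le R, restrictScalars_pow_smul, Submodule.smul_le]
      exact fun a ha x hx => hc x hx a ha
    · have h1 : x ∈ ((Ideal.span {t}).map (algebraMap R B)) ^ (m + c) • (⊤ : Submodule B M) := hx.1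
      rw [← Submodule.restrictScalars_mem R, restrictScalars_pow_smul,
        Submodule.restrictScalars_top, mem_span_pow_smul_top] at h1
      obtain ⟨y, rfl⟩ := h1
      have hy : y ∈ sat (Ideal.span {t}) N := ⟨m + c, fun a ha => by
        rw [Ideal.span_singleton_pow] at ha
        obtain ⟨e, rfl⟩ := Ideal.mem_span_singleton'.mp ha
        rw [mul_smul]
        exact N.smul_of_tower_mem e hx.2⟩
      rw [← mul_smul ((Ideal.map _ _) ^ m) _ _, ← pow_add, ← Submodule.restrictScalars_mem R,
        restrictScalars_pow_smul]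
      exact Submodule.smul_mem_smul (Ideal.pow_mem_pow (Ideal.mem_span_singleton_self t) _) hy

end Groth.Agent.Frg27
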