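import Groth.Agent.Frg27.LocQuot
import Groth.Agent.Frg27.FTSat
import Groth.Agent.Frg27.FTCompl

/-!
Chart algebras of a blowing-up and their completions.
-/

set_option autoImplicit false

universe u

open TensorProduct

namespace Groth.Agent.Frg27

variable {A : Type u} [CommRing A] {ι : Type} (f : ι → A) (i : ι)

/-- The coordinate `f_j / f_i` on the chart. -/
noncomputable def chartVar (j : {j : ι // j ≠ i}) : AdicRing.chartAlg f i :=
  Ideal.Quotient.mk _ (MvPolynomial.X j)

theorem mul_chartVar (j : {j : ι // j ≠ i}) :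
    algebraMap A (AdicRing.chartAlg f i) (f i) * chartVar f i j =
      algebraMap A (AdicRing.chartAlg f i) (f j.1) := by
  have h : Ideal.Quotient.mk (Ideal.span (Set.range fun j : {j : ι // j ≠ i} =>
      MvPolynomial.C (f i) * MvPolynomial.X j - MvPolynomial.C (f j.1)))
        (MvPolynomial.C (f i) * MvPolynomial.X j) =
      Ideal.Quotient.mk _ (MvPolynomial.C (f j.1)) :=
    Ideal.Quotient.eq.mpr (Ideal.subset_span ⟨j, rfl⟩)
  rw [map_mul] at h
  exact h

theorem chart_induction {Q : AdicRing.chartAlg f i → Prop} (hC : ∀ a, Q (algebraMap A _ a))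
    (hadd : ∀ x y, Q x → Q y → Q (x + y)) (hX : ∀ x j, Q x → Q (x * chartVar f i j))
    (y : AdicRing.chartAlg f i) : Q y := by
  obtain ⟨p, rfl⟩ := Ideal.Quotient.mk_surjective y
  induction p using MvPolynomial.induction_on with
  | C a => exact hC a
  | add p q hp hq => rw [map_add]; exact hadd _ _ hp hq
  | mul_X p j hp => rw [map_mul]; exact hX _ j hp

theorem map_span_le_span_singleton [DecidableEq ι] :
    (Ideal.span (Set.range f)).map (algebraMap A (AdicRing.chartAlg f i)) ≤
      Ideal.span {algebraMap A (AdicRing.chartAlg f i) (f i)} := by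
  rw [Ideal.map_span, Ideal.span_le]
  rintro - ⟨-, ⟨j, rfl⟩, rfl⟩
  by_cases hj : j = i
  · subst hj; exact Ideal.mem_span_singleton_self _
  · exact Ideal.mem_span_singleton'.mpr ⟨chartVar f i ⟨j, hj⟩, by rw [mul_comm, mul_chartVar]⟩

/-- The comparison of the chart algebra with the localization. -/
noncomputable def chartToLoc : AdicRing.chartAlg f i →ₐ[A] Localization.Away (f i) :=
  Ideal.Quotient.liftₐ _ (MvPolynomial.aeval fun j : {j : ι // j ≠ i} =>
      algebraMap A (Localization.Away (f i)) (f j.1) * IsLocalization.Away.invSelf (f i)) (by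
    intro p hp
    refine (Ideal.span_le.mpr ?_ : Ideal.span _ ≤ RingHom.ker _) hp
    rintro - ⟨j, rfl⟩
    rw [SetLike.mem_coe, RingHom.mem_ker, map_sub, map_mul, MvPolynomial.aeval_C, MvPolynomial.aeval_C,
      MvPolynomial.aeval_X, mul_left_comm, IsLocalization.Away.mul_invSelf, mul_one, sub_self])

theorem exists_pow_mul_eq_algebraMap (y : AdicRing.chartAlg f i) :
    ∃ (N : ℕ) (a : A), algebraMap A _ (f i) ^ N * y = algebraMap A _ a := by
  induction y using chart_induction with
  | hC a => exact ⟨0, a, by rw [pow_zero, one_mul]⟩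
  | hadd x y hx hy =>
    obtain ⟨N, a, ha⟩ := hx
    obtain ⟨M, b, hb⟩ := hy
    refine ⟨N + M, f i ^ M * a + f i ^ N * b, ?_⟩
    simp only [map_add, map_mul, map_pow, ← ha, ← hb]
    ring
  | hX x j hx =>
    obtain ⟨N, a, ha⟩ := hx
    refine ⟨N + 1, a * f j.1, ?_⟩
    rw [map_mul, ← ha, ← mul_chartVar f i j]
    ring

theorem exists_pow_mul_eq_zero {y : AdicRing.chartAlg f i} (hy : chartToLoc f i y = 0) :
    ∃ N : ℕ, algebraMap A _ (f i) ^ N * y = 0 := by
  obtain ⟨N, a, ha⟩ := exists_pow_mul_eq_algebraMap f i y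
  have h := congrArg (chartToLoc f i) ha
  rw [map_mul, hy, mul_zero, AlgHom.commutes] at h
  obtain ⟨⟨-, M, rfl⟩, hM⟩ := (IsLocalization.map_eq_zero_iff (Submonoid.powers (f i)) _ a).mp h.symm
  refine ⟨M + N, ?_⟩
  rw [pow_add, mul_assoc, ha, ← map_pow, ← map_mul, hM, map_zero]

end Groth.Agent.Frg27
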