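import Groth.Prelude.Def_W4bk4boschfrg79
import Mathlib.RingTheory.AdicCompletion.Completeness
import Mathlib.RingTheory.AdicCompletion.LocalRing
import Mathlib.RingTheory.Valuation.ValuationRing
import Mathlib.RingTheory.Ideal.Basic
import Mathlib.RingTheory.MvPolynomial.Basic

/-!
Restricted power series over a ring with a principal ideal of definition: approximation by
polynomials, torsion, and the elementary facts about complete valuation rings of rank one.
-/

set_option autoImplicit false
set_option linter.style.haveILetI false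
set_option linter.unusedSectionVars false

namespace Groth.Agent.Frg27

universe u v

section General

variable {R : Type u} [CommRing R]

theorem mem_span_pow_smul_top {M : Type v} [AddCommGroup M] [Module R M] {t : R} {j : ℕ} {x : M} :
    x ∈ (Ideal.span {t} ^ j • ⊤ : Submodule R M) ↔ ∃ y, x = t ^ j • y := by
  rw [Ideal.span_singleton_pow, Submodule.ideal_span_singleton_smul]
  simp [Submodule.mem_smul_pointwise_iff_exists, eq_comm]

end General

section RPow

variable {R : Type u} [CommRing R] (t : R) (n : ℕ)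

/-- Restricted power series over `R` for the ideal `(t)`. -/
abbrev TPow : Type u := AdicRing.RPow R (Ideal.span {t}) n

/-- The map from polynomials to restricted power series. -/
noncomputable def toPow : MvPolynomial (Fin n) R →ₐ[R] TPow t n :=
  IsScalarTower.toAlgHom R (MvPolynomial (Fin n) R) (TPow t n)

theorem map_span_C_pow (j : ℕ) :
    ((Ideal.span {t}).map (MvPolynomial.C : R →+* MvPolynomial (Fin n) R)) ^ j =
      Ideal.span {MvPolynomial.C (t ^ j)} := by
  rw [Ideal.map_span, Set.image_singleton, Ideal.span_singleton_pow, map_pow]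

theorem fg_map_C : ((Ideal.span {t}).map (MvPolynomial.C : R →+* MvPolynomial (Fin n) R)).FG :=
  Ideal.FG.map (Submodule.fg_span_singleton t) _

instance isAdicComplete_tPow : IsAdicComplete (Ideal.span {t}) (TPow t n) := by
  have h : IsAdicComplete ((Ideal.span {t}).map (algebraMap R (MvPolynomial (Fin n) R))) (TPow t n) :=
    AdicCompletion.isAdicComplete (fg_map_C t n)
  exact (IsAdicComplete.map_algebraMap_iff _ _).mp h

variable {t n}

theorem exists_eq_smul_iff_val {x : TPow t n} {j : ℕ} :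
    (∃ y, x = t ^ j • y) ↔ x.val j = 0 := by
  have h := AdicCompletion.pow_smul_top_eq_ker_eval
    (I := (Ideal.span {t}).map (MvPolynomial.C : R →+* MvPolynomial (Fin n) R))
    (M := MvPolynomial (Fin n) R) (n := j) (fg_map_C t n)
  change _ ↔ AdicCompletion.eval _ _ j x = 0
  rw [← LinearMap.mem_ker, ← h, map_span_C_pow, Submodule.ideal_span_singleton_smul]
  simp only [Submodule.mem_smul_pointwise_iff_exists, Submodule.mem_top, true_and]
  refine ⟨fun ⟨y, hy⟩ => ⟨y, ?_⟩, fun ⟨y, hy⟩ => ⟨y, ?_⟩⟩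
  · rw [hy, ← algebraMap_smul (MvPolynomial (Fin n) R) (t ^ j) y, MvPolynomial.algebraMap_eq]
  · rw [← hy, ← algebraMap_smul (MvPolynomial (Fin n) R) (t ^ j) y, MvPolynomial.algebraMap_eq]

theorem val_toPow (p : MvPolynomial (Fin n) R) (j : ℕ) :
    (toPow t n p).val j = Submodule.Quotient.mk p := rfl

/-- Polynomials are dense. -/
theorem exists_poly (x : TPow t n) (j : ℕ) : ∃ p y, x = toPow t n p + t ^ j • y := by
  obtain ⟨p, hp⟩ := Submodule.Quotient.mk_surjective _ (x.val j)
  obtain ⟨y, hy⟩ := (exists_eq_smul_iff_val (x := x - toPow t n p) (j := j)).mpr (by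
    rw [AdicCompletion.val_sub_apply, val_toPow, hp, sub_self])
  exact ⟨p, y, by rw [← hy]; abel⟩

/-- A polynomial divisible by `t^j` as a series has coefficients divisible by `t^j`. -/
theorem dvd_coeff_of_toPow_eq_smul {p : MvPolynomial (Fin n) R} {j : ℕ} {y : TPow t n}
    (h : toPow t n p = t ^ j • y) (ν : Fin n →₀ ℕ) : t ^ j ∣ MvPolynomial.coeff ν p := by
  have h0 : (Submodule.Quotient.mk p : _ ⧸ _) = 0 :=
    (val_toPow p j).symm.trans (exists_eq_smul_iff_val.mp ⟨y, h⟩)
  rw [Submodule.Quotient.mk_eq_zero, smul_eq_mul, Ideal.mul_top, map_span_C_pow,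
    Ideal.mem_span_singleton] at h0
  exact (MvPolynomial.C_dvd_iff_dvd_coeff _ _).mp h0 ν

theorem smul_pow_cancel (ht : t ∈ nonZeroDivisors R) {j : ℕ} {x : TPow t n} (h : t ^ j • x = 0) :
    x = 0 := by
  refine IsHausdorff.haus (I := Ideal.span {t}) inferInstance x fun i => ?_
  rw [SModEq.zero, mem_span_pow_smul_top]
  obtain ⟨p, y, rfl⟩ := exists_poly x i
  have h2 : toPow t n (t ^ j • p) = t ^ (j + i) • (-y) := by
    rw [map_smul, pow_add, mul_smul, eq_comm, ← sub_eq_zero]
    have : t ^ j • toPow t n p + t ^ j • t ^ i • y = 0 := by rw [← smul_add]; exact h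
    rw [← neg_eq_zero, smul_neg, smul_neg, neg_sub, sub_neg_eq_add]
    exact this
  have hdvd : ∀ ν, t ^ i ∣ MvPolynomial.coeff ν p := fun ν => by
    obtain ⟨c, hc⟩ := dvd_coeff_of_toPow_eq_smul h2 ν
    rw [MvPolynomial.coeff_smul, smul_eq_mul, pow_add, mul_assoc] at hc
    exact ⟨c, (mul_cancel_left_mem_nonZeroDivisors (pow_mem ht j)).mp hc⟩
  obtain ⟨q, hq⟩ := (MvPolynomial.C_dvd_iff_dvd_coeff _ _).mpr hdvd
  refine ⟨toPow t n q + y, ?_⟩
  rw [hq, smul_add, ← MvPolynomial.smul_eq_C_mul, map_smul]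

end RPow

section Rank1

variable {R : Type u} [CommRing R] [IsDomain R] [ValuationRing R] [Ring.KrullDimLE 1 R]
variable {t : R} (ht : t ≠ 0) [IsAdicComplete (Ideal.span {t}) R]

include ht

theorem mem_maximalIdeal : t ∈ IsLocalRing.maximalIdeal R := by
  intro hu
  refine ht (IsHausdorff.haus (I := Ideal.span {t}) inferInstance t fun i => ?_)
  rw [SModEq.zero, Ideal.span_singleton_eq_top.mpr hu, Ideal.top_pow]
  simp

omit [IsAdicComplete (Ideal.span {t}) R] in
theorem eq_maximalIdeal_of_mem {a : R} (ha : a ≠ 0) {p : Ideal R} [p.IsPrime] (hap : a ∈ p) :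
    p = IsLocalRing.maximalIdeal R := by
  refine IsLocalRing.eq_maximalIdeal ?_
  refine Ring.krullDimLE_one_iff_of_noZeroDivisors.mp inferInstance p (fun h => ?_) inferInstance
  exact ha ((Submodule.mem_bot R).mp (h ▸ hap))

omit [IsAdicComplete (Ideal.span {t}) R] in
theorem exists_dvd_pow_of_ne_zero {a : R} (ha : a ≠ 0) (htm : t ∈ IsLocalRing.maximalIdeal R) :
    ∃ N : ℕ, a ∣ t ^ N := by
  have : t ∈ (Ideal.span {a}).radical := by
    rw [Ideal.radical_eq_sInf]
    refine Ideal.mem_sInf.mpr fun p ⟨hp, hpp⟩ => ?_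
    rw [eq_maximalIdeal_of_mem ht ha (hp (Ideal.mem_span_singleton_self a))]
    exact htm
  obtain ⟨N, hN⟩ := this
  exact ⟨N, Ideal.mem_span_singleton.mp hN⟩

omit [IsAdicComplete (Ideal.span {t}) R] in
theorem exists_dvd_pow_of_mem {a : R} (ha : a ∈ IsLocalRing.maximalIdeal R) :
    ∃ N : ℕ, t ∣ a ^ N := by
  have : a ∈ (Ideal.span {t}).radical := by
    rw [Ideal.radical_eq_sInf]
    refine Ideal.mem_sInf.mpr fun p ⟨hp, hpp⟩ => ?_
    rwa [eq_maximalIdeal_of_mem ht ht (hp (Ideal.mem_span_singleton_self t))]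
  obtain ⟨N, hN⟩ := this
  exact ⟨N, Ideal.mem_span_singleton.mp hN⟩

end Rank1

end Groth.Agent.Frg27
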