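import Groth.Agent.FlatCrit65.Basic
import Mathlib.RingTheory.Flat.Stability
import Mathlib.RingTheory.RingHom.Flat
import Mathlib.RingTheory.Localization.AtPrime.Basic
import Mathlib.LinearAlgebra.FreeModule.Basic
import Mathlib.LinearAlgebra.Basis.VectorSpace

/-!
A local criterion of flatness relative to an auxiliary base.
-/

set_option autoImplicit false

universe u

open TensorProduct

namespace Groth.Agent.Frg27

variable {R R' : Type u} [CommRing R] [CommRing R'] [Algebra R R']

/-- If `M` is flat over `R` then `pR' ⊗ M → M` is injective. -/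
theorem injective_map_lTensor (p : Ideal R) {M : Type u} [AddCommGroup M] [Module R' M] [Module R M]
    [IsScalarTower R R' M] [Module.Flat R M] :
    Function.Injective ((p.map (algebraMap R R')).subtype.lTensor M) := by
  let σ : M ⊗[R] p →ₗ[R] M ⊗[R'] (p.map (algebraMap R R') : Ideal R') :=
    TensorProduct.lift (LinearMap.mk₂ R
      (fun (m : M) (x : p) => m ⊗ₜ[R'] (⟨algebraMap R R' x, Ideal.mem_map_of_mem _ x.2⟩ :
        (p.map (algebraMap R R') : Ideal R')))
      (fun m m' x => add_tmul _ _ _)
      (fun c m x => by rw [← algebraMap_smul R' c m, ← smul_tmul', algebraMap_smul])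
      (fun m x y => by rw [← tmul_add]; congr 1; exact Subtype.ext (map_add (algebraMap R R') _ _))
      (fun c m x => by
        rw [← tmul_smul]; congr 1
        refine Subtype.ext ?_
        change algebraMap R R' (c * x.1) = c • algebraMap R R' x.1
        rw [map_mul, Algebra.smul_def]))
  have hσ : ∀ m (x : p), σ (m ⊗ₜ x) = m ⊗ₜ[R'] (⟨algebraMap R R' x, Ideal.mem_map_of_mem _ x.2⟩ :
      (p.map (algebraMap R R') : Ideal R')) := fun _ _ => rfl
  have hsurj : Function.Surjective σ := by
    intro z
    induction z with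
    | zero => exact ⟨0, map_zero σ⟩
    | add a b ha hb =>
      obtain ⟨x, rfl⟩ := ha
      obtain ⟨y, rfl⟩ := hb
      exact ⟨x + y, map_add σ _ _⟩
    | tmul m y =>
      obtain ⟨y, hy⟩ := y
      suffices H : ∀ m, ∃ w, σ w = m ⊗ₜ[R'] (⟨y, hy⟩ : (p.map (algebraMap R R') : Ideal R')) from H m
      induction hy using Submodule.span_induction with
      | mem y hy =>
        obtain ⟨x, hx, rfl⟩ := hy
        exact fun m => ⟨m ⊗ₜ ⟨x, hx⟩, hσ _ _⟩
      | zero => exact fun m => ⟨0, by rw [map_zero]; exact (tmul_zero _ m).symm⟩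
      | add a b ha hb iha ihb =>
        intro m
        obtain ⟨v, hv⟩ := iha m
        obtain ⟨w, hw⟩ := ihb m
        exact ⟨v + w, by rw [map_add, hv, hw, ← tmul_add]; rfl⟩
      | smul c a ha iha =>
        intro m
        obtain ⟨w, hw⟩ := iha (c • m)
        exact ⟨w, by rw [hw, smul_tmul]; rfl⟩
  refine (injective_iff_map_eq_zero _).mpr fun z hz => ?_
  obtain ⟨w, rfl⟩ := hsurj z
  have key : ∀ w, TensorProduct.rid R' M ((p.map (algebraMap R R')).subtype.lTensor M (σ w)) =
      TensorProduct.rid R M (p.subtype.lTensor M w) := by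
    intro w
    induction w with
    | zero => simp
    | add a b ha hb => simp only [map_add, ha, hb]
    | tmul m x =>
      rw [hσ, LinearMap.lTensor_tmul, LinearMap.lTensor_tmul, TensorProduct.rid_tmul,
        TensorProduct.rid_tmul]
      exact algebraMap_smul R' (x : R) m
  have h0 : p.subtype.lTensor M w = 0 := (TensorProduct.rid R M).injective (by
    rw [← key, hz, map_zero, map_zero])
  rw [(injective_iff_map_eq_zero _).mp
    (Module.Flat.lTensor_preserves_injective_linearMap (M := M) _ p.injective_subtype) w h0, map_zero]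

/-- Relative local criterion of flatness. -/
theorem flat_of_flat_base [IsNoetherianRing R'] (p : Ideal R) (S : Type u) [CommRing S]
    [IsNoetherianRing S] [Algebra R' S] [Algebra R S] [IsScalarTower R R' S] [Module.Flat R S]
    (hjac : p.map (algebraMap R S) ≤ (⊥ : Ideal S).jacobson)
    (h2 : Module.Flat (R' ⧸ p.map (algebraMap R R'))
      ((R' ⧸ p.map (algebraMap R R')) ⊗[R'] S)) : Module.Flat R' S := by
  refine FlatCrit65.flat_of_lexQuot (S := S) (I := p.map (algebraMap R R')) ?_
    (FlatCrit65.torTriv_of_injective (injective_map_lTensor p) h2).lexQuot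
  rwa [Ideal.map_map, ← IsScalarTower.algebraMap_eq]

/-- The case where `p R'` is a maximal ideal. -/
theorem flat_of_flat_base_of_isMaximal [IsNoetherianRing R'] (p : Ideal R) (S : Type u) [CommRing S]
    [IsNoetherianRing S] [Algebra R' S] [Algebra R S] [IsScalarTower R R' S] [Module.Flat R S]
    (hjac : p.map (algebraMap R S) ≤ (⊥ : Ideal S).jacobson)
    (hmax : (p.map (algebraMap R R')).IsMaximal) : Module.Flat R' S := by
  refine flat_of_flat_base p S hjac ?_
  letI := Ideal.Quotient.field (p.map (algebraMap R R'))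
  infer_instance

/-- The case where `R → R'/pR'` is surjective. -/
theorem flat_of_flat_base_of_surjective [IsNoetherianRing R'] (p : Ideal R) (S : Type u) [CommRing S]
    [IsNoetherianRing S] [Algebra R' S] [Algebra R S] [IsScalarTower R R' S] [Module.Flat R S]
    (hjac : p.map (algebraMap R S) ≤ (⊥ : Ideal S).jacobson)
    (hsurj : Function.Surjective (algebraMap R (R' ⧸ p.map (algebraMap R R')))) : Module.Flat R' S := by
  refine flat_of_flat_base p S hjac ?_
  set Q := R' ⧸ p.map (algebraMap R R')
  let μ : Q ⊗[R] S →ₗ[Q] Q ⊗[R'] S :=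
    AlgebraTensorModule.lift
      { toFun := fun a => ((TensorProduct.mk R' Q S) a).restrictScalars R
        map_add' := fun a b => by ext x; simp [add_tmul]
        map_smul' := fun a b => by ext x; simp [TensorProduct.smul_tmul'] }
  have hμ : ∀ (a : Q) (x : S), μ (a ⊗ₜ x) = a ⊗ₜ[R'] x := fun _ _ => rfl
  have hone : ∀ z : Q ⊗[R] S, ∃ x, z = (1 : Q) ⊗ₜ[R] x := by
    intro z
    induction z with
    | zero => exact ⟨0, (tmul_zero _ _).symm⟩
    | add a b ha hb =>
      obtain ⟨x, rfl⟩ := ha
      obtain ⟨y, rfl⟩ := hb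
      exact ⟨x + y, (tmul_add _ _ _).symm⟩
    | tmul a x =>
      obtain ⟨c, rfl⟩ := hsurj a
      exact ⟨c • x, by rw [← smul_tmul, Algebra.smul_def, mul_one]⟩
  have hbij : Function.Bijective μ := by
    refine ⟨(injective_iff_map_eq_zero μ).mpr fun z hz => ?_, fun z => ?_⟩
    · obtain ⟨x, rfl⟩ := hone z
      rw [hμ] at hz
      have hx : x ∈ p.map (algebraMap R R') • (⊤ : Submodule R' S) := by
        have h := congrArg (TensorProduct.quotTensorEquivQuotSMul S (p.map (algebraMap R R'))) hz
        rw [TensorProduct.quotTensorEquivQuotSMul_mk_one_tmul, map_zero, Submodule.Quotient.mk_eq_zero] at h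
        exact h
      have hx' : x ∈ p • (⊤ : Submodule R S) := by
        rw [← Submodule.restrictScalars_mem R, Ideal.smul_restrictScalars, Submodule.restrictScalars_top] at hx
        exact hx
      clear hz hx
      refine Submodule.smul_induction_on hx' (fun c hc y _ => ?_) (fun a b ha hb => ?_)
      · rw [← smul_tmul, Algebra.smul_def, mul_one, IsScalarTower.algebraMap_apply R R' Q,
          show algebraMap R' Q (algebraMap R R' c) = 0 from
            Ideal.Quotient.eq_zero_iff_mem.mpr (Ideal.mem_map_of_mem _ hc), zero_tmul]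
      · rw [tmul_add, ha, hb, add_zero]
    · induction z with
      | zero => exact ⟨0, map_zero μ⟩
      | add a b ha hb =>
        obtain ⟨x, rfl⟩ := ha
        obtain ⟨y, rfl⟩ := hb
        exact ⟨x + y, map_add μ _ _⟩
      | tmul a x => exact ⟨a ⊗ₜ x, hμ a x⟩
  exact Module.Flat.of_linearEquiv (LinearEquiv.ofBijective μ hbij).symm

end Groth.Agent.Frg27
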