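import Groth.Agent.Frg27.Compl
import Groth.Agent.Frg27.RigFinite
import Groth.Agent.Frg27.FlatLocal
import Mathlib.RingTheory.RingHom.FinitePresentation
import Mathlib.RingTheory.Flat.Localization

/-!
Completed principal localizations of complete Noetherian rings.
-/

set_option autoImplicit false

universe u

namespace Groth.Agent.Frg27

variable {R : Type u} [CommRing R] [IsNoetherianRing R]

/-- The completed localization `R_{g}`. -/
abbrev CL (J : Ideal R) (g : R) : Type u := Compl J (Localization.Away g)

variable (J : Ideal R) (g : R)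

theorem cl_complete : IsAdicComplete (J.map (algebraMap R (CL J g))) (CL J g) :=
  isAdicComplete_compl (IsNoetherian.noetherian J)

theorem cl_noetherian : IsNoetherianRing (CL J g) := by
  haveI : IsNoetherianRing (Localization.Away g) := IsLocalization.isNoetherianRing (Submonoid.powers g) _ inferInstance
  exact CAlg1.isNoetherianRing_adicCompletion _ (IsNoetherian.noetherian _)

theorem cl_flat : Module.Flat R (CL J g) := by
  haveI : IsNoetherianRing (Localization.Away g) := IsLocalization.isNoetherianRing (Submonoid.powers g) _ inferInstance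
  haveI : Module.Flat R (Localization.Away g) := IsLocalization.flat _ (Submonoid.powers g)
  haveI : Module.Flat (Localization.Away g) (CL J g) := inferInstance
  exact Module.Flat.trans R (Localization.Away g) _

theorem cl_ft : Algebra.FiniteType R (CL J g ⧸ J.map (algebraMap R (CL J g))) := by
  haveI : Algebra.FiniteType R (Localization.Away g) :=
    IsLocalization.finiteType_of_monoid_fg (Submonoid.powers g) _
  haveI : Algebra.FiniteType R (Localization.Away g ⧸ (J ^ 1).map (algebraMap R (Localization.Away g))) :=
    Algebra.FiniteType.of_surjective (Ideal.Quotient.mkₐ R _) Ideal.Quotient.mk_surjective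
  have h : Algebra.FiniteType R (CL J g ⧸ (J ^ 1).map (algebraMap R (CL J g))) :=
    Algebra.FiniteType.of_surjective (truncEquiv R (IsNoetherian.noetherian J) 1).toAlgHom
      (truncEquiv R (IsNoetherian.noetherian J) 1).surjective
  exact h.of_surjective (Ideal.quotientEquivAlgOfEq R (by rw [pow_one])).toAlgHom (AlgEquiv.surjective _)

omit [IsNoetherianRing R] in
theorem isUnit_cl : IsUnit (algebraMap R (CL J g) g) := by
  rw [IsScalarTower.algebraMap_apply R (Localization.Away g) (CL J g)]
  exact (IsLocalization.map_units (Localization.Away g) (⟨g, Submonoid.mem_powers g⟩ : Submonoid.powers g)).map _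

variable {T : Type u} [CommRing T] [Algebra R T]

/-- The universal property of the completed localization. -/
noncomputable def clLift [IsAdicComplete (J.map (algebraMap R T)) T] (h : IsUnit (algebraMap R T g)) :
    CL J g →ₐ[R] T :=
  complLift (I := J) (IsLocalization.liftAlgHom (M := Submonoid.powers g) (f := Algebra.ofId R T)
    (by rintro ⟨-, k, rfl⟩; rw [map_pow]; exact h.pow k))

variable {J g}

theorem cl_algHom_ext [IsAdicComplete (J.map (algebraMap R T)) T] (φ ψ : CL J g →ₐ[R] T) : φ = ψ := by
  refine compl_hom_ext (IsNoetherian.noetherian J) fun c => ?_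
  haveI : Subsingleton (Localization.Away g →ₐ[R] T) :=
    IsLocalization.algHom_subsingleton (Submonoid.powers g)
  exact AlgHom.congr_fun (Subsingleton.elim (φ.comp (IsScalarTower.toAlgHom R _ (CL J g)))
    (ψ.comp (IsScalarTower.toAlgHom R _ (CL J g)))) c

omit [IsNoetherianRing R] in
/-- A complete algebra is complete for the ideal seen from an intermediate algebra. -/
theorem complete_of_map {S : Type u} [CommRing S] [Algebra R S] [Algebra S T] [IsScalarTower R S T]
    [IsAdicComplete ((J.map (algebraMap R S)).map (algebraMap S T)) T] :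
    IsAdicComplete (J.map (algebraMap R T)) T := by
  rw [IsScalarTower.algebraMap_eq R S T, ← Ideal.map_map]
  infer_instance

theorem cl_complete_base {S : Type u} [CommRing S] [IsNoetherianRing S] [Algebra R S] (g : S) :
    IsAdicComplete (J.map (algebraMap R (CL (J.map (algebraMap R S)) g))) (CL (J.map (algebraMap R S)) g) := by
  haveI := cl_complete (J.map (algebraMap R S)) g
  exact complete_of_map (S := S)

theorem cl_ft_base {S : Type u} [CommRing S] [IsNoetherianRing S] [Algebra R S]
    [IsAdicComplete (J.map (algebraMap R S)) S]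
    (hft : Algebra.FiniteType R (S ⧸ J.map (algebraMap R S))) (g : S) :
    Algebra.FiniteType R (CL (J.map (algebraMap R S)) g ⧸
      J.map (algebraMap R (CL (J.map (algebraMap R S)) g))) := by
  have h := cl_ft (J.map (algebraMap R S)) g
  set P := J.map (algebraMap R S) with hP
  set K := P.map (algebraMap S (CL P g)) with hK
  letI : Algebra (S ⧸ P) (CL P g ⧸ K) := (Ideal.quotientMap K (algebraMap S _) Ideal.le_comap_map).toAlgebra
  haveI : IsScalarTower S (S ⧸ P) (CL P g ⧸ K) := IsScalarTower.of_algebraMap_eq fun r => rfl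
  haveI : IsScalarTower R (S ⧸ P) (CL P g ⧸ K) := IsScalarTower.of_algebraMap_eq fun r => by
    change _ = Ideal.Quotient.mk K (algebraMap S _ (algebraMap R S r))
    rw [← IsScalarTower.algebraMap_apply]
    rfl
  haveI : Algebra.FiniteType (S ⧸ P) (CL P g ⧸ K) := Algebra.FiniteType.of_restrictScalars_finiteType S _ _
  have hfin : Algebra.FiniteType R (CL P g ⧸ K) := Algebra.FiniteType.trans (S := S ⧸ P) hft inferInstance
  exact hfin.of_surjective (Ideal.quotientEquivAlgOfEq R
    (hK.trans ((Ideal.map_map _ _).trans (congrArg (fun φ => Ideal.map φ J)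
      (IsScalarTower.algebraMap_eq R S (CL P g)).symm)))).toAlgHom (AlgEquiv.surjective _)

/-- A rig-closed prime is carried along a surjection onto its coordinate ring. -/
theorem isRig_ker {E E' : Type u} [CommRing E] [CommRing E'] [Algebra R E] [Algebra R E']
    [IsNoetherianRing E] [IsNoetherianRing E']
    [IsAdicComplete (J.map (algebraMap R E)) E] [IsAdicComplete (J.map (algebraMap R E')) E']
    {q : PrimeSpectrum E} (hq : IsRig (J.map (algebraMap R E)) q)
    {π : E' →ₐ[R] E ⧸ q.asIdeal} (hπ : Function.Surjective π) :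
    ∃ q' : PrimeSpectrum E', q'.asIdeal = RingHom.ker π.toRingHom ∧
      IsRig (J.map (algebraMap R E')) q' := by
  haveI := RingHom.ker_isPrime π.toRingHom
  refine ⟨⟨RingHom.ker π.toRingHom, inferInstance⟩, rfl, ?_⟩
  haveI := hq.krullDimLE_one
  haveI : Ring.KrullDimLE 1 (E' ⧸ RingHom.ker π.toRingHom) := by
    rw [Ring.krullDimLE_iff, ringKrullDim_eq_of_ringEquiv (RingHom.quotientKerEquivOfSurjective (f := π.toRingHom) hπ)]
    exact Ring.krullDimLE_iff.mp inferInstance
  refine isRig_of_krullDimLE_one (q := ⟨RingHom.ker π.toRingHom, inferInstance⟩) fun hle => hq.1 ?_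
  rw [Ideal.map_le_iff_le_comap]
  intro r hr
  have h : π (algebraMap R E' r) = 0 := hle (Ideal.mem_map_of_mem _ hr)
  rw [π.commutes] at h
  exact Ideal.mem_comap.mpr (Ideal.Quotient.eq_zero_iff_mem.mp h)

theorem complete_quotient {E : Type u} [CommRing E] [Algebra R E] [IsNoetherianRing E]
    [IsAdicComplete (J.map (algebraMap R E)) E] (q : Ideal E) :
    IsAdicComplete (J.map (algebraMap R (E ⧸ q))) (E ⧸ q) := by
  have := isAdicComplete_quotient (J.map (algebraMap R E)) q
  rw [Ideal.map_map] at this
  exact this

/-- Elements with finite residue fields after inversion. -/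
theorem exists_away_finite {A : Type u} [CommRing A] {K : Type u} [Field K] [Algebra A K]
    [Algebra.FiniteType A K] :
    ∃ f : A, algebraMap A K f ≠ 0 ∧ ∀ (A' : Type u) [CommRing A'] [Algebra A A'] [Algebra A' K]
      [IsScalarTower A A' K], IsUnit (algebraMap A A' f) → Module.Finite A' K := by
  classical
  set p := RingHom.ker (algebraMap A K)
  haveI : p.IsPrime := RingHom.ker_isPrime _
  letI : Algebra (A ⧸ p) K := (RingHom.kerLift (algebraMap A K)).toAlgebra
  haveI : FaithfulSMul (A ⧸ p) K :=
    (faithfulSMul_iff_algebraMap_injective _ _).mpr (RingHom.kerLift_injective _)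
  haveI : IsScalarTower A (A ⧸ p) K := IsScalarTower.of_algebraMap_eq fun a => rfl
  haveI : Algebra.FiniteType (A ⧸ p) K := Algebra.FiniteType.of_restrictScalars_finiteType A _ _
  let F := FractionRing (A ⧸ p)
  letI : Algebra F K := (IsFractionRing.lift (RingHom.kerLift_injective (algebraMap A K))).toAlgebra
  haveI : IsScalarTower (A ⧸ p) F K := IsScalarTower.of_algebraMap_eq fun a =>
    (IsFractionRing.lift_algebraMap (RingHom.kerLift_injective (algebraMap A K)) a).symm
  haveI : Algebra.FiniteType F K := Algebra.FiniteType.of_restrictScalars_finiteType (A ⧸ p) _ _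
  haveI : Module.Finite F K := finite_of_finite_type_of_isJacobsonRing F K
  have halg : ∀ x : K, IsAlgebraic (A ⧸ p) x := fun x =>
    (IsFractionRing.isAlgebraic_iff (A ⧸ p) F K).mpr (Algebra.IsAlgebraic.isAlgebraic x)
  have hx : ∀ x : K, ∃ P : Polynomial A, Polynomial.aeval x P = 0 ∧
      algebraMap A K P.leadingCoeff ≠ 0 := by
    intro x
    obtain ⟨q, hq0, hq⟩ := halg x
    obtain ⟨P, hP, hdeg⟩ := Polynomial.mem_lifts_and_degree_eq
      ((Polynomial.lifts_iff_coeff_lifts q).mpr fun i => Ideal.Quotient.mk_surjective (q.coeff i) :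
        q ∈ Polynomial.lifts (Ideal.Quotient.mk p))
    refine ⟨P, ?_, fun h => hq0 ?_⟩
    · rw [← Polynomial.aeval_map_algebraMap (A ⧸ p), Ideal.Quotient.algebraMap_eq, hP, hq]
    · have h1 : q.coeff P.natDegree = 0 := by
        rw [← hP, Polynomial.coeff_map]
        exact Ideal.Quotient.eq_zero_iff_mem.mpr h
      rw [Polynomial.natDegree_eq_of_degree_eq hdeg, Polynomial.coeff_natDegree,
        Polynomial.leadingCoeff_eq_zero] at h1
      exact h1
  choose P hP hlead using hx
  obtain ⟨s, hs⟩ := (‹Algebra.FiniteType A K›).out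
  refine ⟨∏ x ∈ s, (P x).leadingCoeff, by
    rw [map_prod, Finset.prod_ne_zero_iff]; exact fun x _ => hlead x, ?_⟩
  intro A' _ _ _ _ hu
  rw [map_prod, IsUnit.prod_iff] at hu
  haveI : Algebra.FiniteType A' K := Algebra.FiniteType.of_restrictScalars_finiteType A _ _
  have hint : ∀ x ∈ s, IsIntegral A' x := by
    intro x hx
    obtain ⟨v, hv⟩ := hu x hx
    refine ⟨Polynomial.C (↑v⁻¹ : A') * (P x).map (algebraMap A A'), ?_, ?_⟩
    · refine Polynomial.monic_C_mul_of_mul_leadingCoeff_eq_one ?_
      rw [Polynomial.leadingCoeff_map_of_leadingCoeff_ne_zero, ← hv, Units.inv_mul]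
      intro h0
      exact hlead x (by rw [IsScalarTower.algebraMap_apply A A' K, h0, map_zero])
    · rw [← Polynomial.aeval_def, map_mul, Polynomial.aeval_map_algebraMap, hP, mul_zero]
  refine (Module.finite_def (R := A') (M := K)).mpr ?_
  have htop : Algebra.adjoin A' (s : Set K) = ⊤ := by
    have h1 : Algebra.adjoin A (s : Set K) ≤ (Algebra.adjoin A' (s : Set K)).restrictScalars A :=
      Algebra.adjoin_le Algebra.subset_adjoin
    rw [hs] at h1
    exact top_unique fun x _ => h1 (Algebra.mem_top : x ∈ ⊤)
  rw [← Algebra.top_toSubmodule, ← htop]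
  exact fg_adjoin_of_finite s.finite_toSet hint

end Groth.Agent.Frg27
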