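import Groth.Agent.Frg27.Compl

/-!
Algebra maps bijective on all truncations induce isomorphisms of completions.
-/

set_option autoImplicit false

universe u

namespace Groth.Agent.Frg27

variable {A : Type u} [CommRing A] {I : Ideal A}

theorem bijective_of_truncations {M N : Type u} [CommRing M] [CommRing N] [Algebra A M] [Algebra A N]
    [IsAdicComplete (I.map (algebraMap A M)) M] [IsAdicComplete (I.map (algebraMap A N)) N]
    (α : M →ₐ[A] N)
    (hsurj : ∀ (j : ℕ) (z : N), ∃ b, α b - z ∈ (I ^ j).map (algebraMap A N))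
    (hinj : ∀ (j : ℕ) (b : M), α b ∈ (I ^ j).map (algebraMap A N) → b ∈ (I ^ j).map (algebraMap A M)) :
    Function.Bijective α := by
  refine ⟨(injective_iff_map_eq_zero α).mpr fun b hb => IsHausdorff.haus
    (I := I.map (algebraMap A M)) inferInstance b fun j => ?_, fun z => ?_⟩
  · rw [SModEq.zero, smul_eq_mul, Ideal.mul_top, ← Ideal.map_pow]
    exact hinj j b (hb ▸ zero_mem _)
  · choose b hb using fun j => hsurj j z
    obtain ⟨L, hL⟩ := IsPrecomplete.prec (I := I.map (algebraMap A M)) (M := M) inferInstance (f := b)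
      fun {k l} hkl => by
        rw [SModEq.sub_mem, smul_eq_mul, Ideal.mul_top, ← Ideal.map_pow]
        refine hinj k _ ?_
        rw [map_sub, ← sub_sub_sub_cancel_right (α (b k)) (α (b l)) z]
        exact sub_mem (hb k) (Ideal.map_mono (Ideal.pow_le_pow_right hkl) (hb l))
    refine ⟨L, sub_eq_zero.mp (IsHausdorff.haus (I := I.map (algebraMap A N)) (M := N) inferInstance _ fun j => ?_)⟩
    rw [SModEq.zero, smul_eq_mul, Ideal.mul_top, ← Ideal.map_pow]
    have h := SModEq.sub_mem.mp (hL j)
    rw [smul_eq_mul, Ideal.mul_top, ← Ideal.map_pow] at h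
    have h' := Ideal.mem_map_of_mem α.toRingHom h
    rw [Ideal.map_map] at h'
    have h'' : α (b j - L) ∈ (I ^ j).map (algebraMap A N) :=
      (congrArg (fun φ => Ideal.map φ (I ^ j)) α.comp_algebraMap).le h'
    rw [map_sub] at h''
    have h2 := sub_mem (hb j) h''
    rwa [sub_sub_sub_cancel_left] at h2

/-- An algebra map bijective on truncations gives an isomorphism of completions. -/
theorem nonempty_compl_algEquiv (hI : I.FG) {B Z : Type u} [CommRing B] [CommRing Z] [Algebra A B] [Algebra A Z]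
    (g : B →ₐ[A] Z)
    (hsurj : ∀ (j : ℕ) (z : Z), ∃ b, g b - z ∈ (I ^ j).map (algebraMap A Z))
    (hinj : ∀ (j : ℕ) (b : B), g b ∈ (I ^ j).map (algebraMap A Z) → b ∈ (I ^ j).map (algebraMap A B)) :
    Nonempty (Compl I B ≃ₐ[A] Compl I Z) := by
  haveI := isAdicComplete_compl (C := B) hI
  haveI := isAdicComplete_compl (C := Z) hI
  let α : Compl I B →ₐ[A] Compl I Z := complLift (I := I) ((IsScalarTower.toAlgHom A Z (Compl I Z)).comp g)
  have hα : ∀ b, α (algebraMap B _ b) = algebraMap Z _ (g b) := fun b => complLift_algebraMap (I := I) _ b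
  have hmap : ∀ (X Y : Type u) [CommRing X] [CommRing Y] [Algebra A X] [Algebra A Y] (φ : X →ₐ[A] Y)
      (j : ℕ) (x : X), x ∈ (I ^ j).map (algebraMap A X) → φ x ∈ (I ^ j).map (algebraMap A Y) := by
    intro X Y _ _ _ _ φ j x hx
    have h := Ideal.mem_map_of_mem φ.toRingHom hx
    rw [Ideal.map_map] at h
    exact (congrArg (fun ψ => Ideal.map ψ (I ^ j)) φ.comp_algebraMap).le h
  refine ⟨AlgEquiv.ofBijective α (bijective_of_truncations (I := I) α (fun j z => ?_) fun j x hx => ?_)⟩
  · obtain ⟨c, hc⟩ := exists_sub_mem_compl hI z j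
    obtain ⟨b, hb⟩ := hsurj j c
    refine ⟨algebraMap B _ b, ?_⟩
    rw [hα, ← sub_sub_sub_cancel_right _ z (algebraMap Z (Compl I Z) c), ← map_sub]
    exact sub_mem (hmap _ _ (IsScalarTower.toAlgHom A Z (Compl I Z)) j _ hb) hc
  · obtain ⟨c, hc⟩ := exists_sub_mem_compl hI x j
    have h := hmap _ _ α j _ hc
    rw [map_sub, hα] at h
    have hgc := sub_mem hx h
    rw [sub_sub_cancel] at hgc
    have hcB := hmap _ _ (IsScalarTower.toAlgHom A B (Compl I B)) j _
      (hinj j c (mem_of_algebraMap_mem_compl _ j hgc))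
    rw [← sub_add_cancel x (algebraMap B (Compl I B) c)]
    exact add_mem hc hcB

end Groth.Agent.Frg27
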