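import Groth.Agent.Frg27.BaseChange
import Mathlib.RingTheory.Nakayama

/-!
Rig-closed points of a completion against points of the algebra itself.
-/

set_option autoImplicit false

universe u

namespace Groth.Agent.Frg27

variable {A : Type u} [CommRing A] [IsNoetherianRing A] {I : Ideal A} [IsAdicComplete I A]
variable {P : Type u} [CommRing P] [Algebra A P] [IsNoetherianRing P]

theorem surjective_quotient_compl (K : Ideal (Compl I P)) [Module.Finite A
    (P ⧸ K.comap (algebraMap P (Compl I P)))] :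
    Function.Surjective ((Ideal.Quotient.mk K).comp (algebraMap P (Compl I P))) := by
  haveI : IsNoetherianRing (P ⧸ I.map (algebraMap A P)) := inferInstance
  haveI : IsNoetherianRing (Compl I P) := CAlg1.isNoetherianRing_adicCompletion _ (IsNoetherian.noetherian _)
  haveI := isAdicComplete_compl (C := P) (IsNoetherian.noetherian I)
  haveI : IsAdicComplete (I.map (algebraMap A (Compl I P ⧸ K))) (Compl I P ⧸ K) := complete_quotient K
  haveI : IsAdicComplete I (Compl I P ⧸ K) := (IsAdicComplete.map_algebraMap_iff I _).mp ‹_›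
  let g : P ⧸ K.comap (algebraMap P (Compl I P)) →ₐ[A] Compl I P ⧸ K :=
    Ideal.quotientMapₐ K (IsScalarTower.toAlgHom A P (Compl I P)) le_rfl
  have hfg : (LinearMap.range g.toLinearMap).FG := by
    rw [LinearMap.range_eq_map]; exact Module.Finite.fg_top.map _
  have htop : LinearMap.range g.toLinearMap ⊔ I • (⊤ : Submodule A (Compl I P ⧸ K)) = ⊤ := by
    refine eq_top_iff.mpr fun y _ => ?_
    obtain ⟨x, rfl⟩ := Ideal.Quotient.mk_surjective y
    obtain ⟨c, hc⟩ := exists_sub_mem_compl (IsNoetherian.noetherian I) x 1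
    rw [pow_one] at hc
    rw [← add_sub_cancel (algebraMap P _ c) x, map_add]
    refine Submodule.add_mem_sup ⟨Ideal.Quotient.mk _ c, rfl⟩ ?_
    rw [Ideal.smul_top_eq_map, Submodule.restrictScalars_mem,
      IsScalarTower.algebraMap_eq A (Compl I P) (Compl I P ⧸ K), ← Ideal.map_map]
    exact Ideal.mem_map_of_mem _ hc
  haveI : Module.Finite A (Compl I P ⧸ K) := finite_of_sup_eq_top hfg htop
  intro y
  have hle : (⊤ : Submodule A (Compl I P ⧸ K)) ≤ LinearMap.range g.toLinearMap :=
    Submodule.le_of_le_smul_of_le_jacobson_bot Module.Finite.fg_top (IsAdicComplete.le_jacobson_bot I) htop.ge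
  obtain ⟨x, hx⟩ := hle (Submodule.mem_top : y ∈ ⊤)
  obtain ⟨x, rfl⟩ := Ideal.Quotient.mk_surjective x
  exact ⟨x, hx⟩

theorem comap_map_compl (Q : Ideal P) [Module.Finite A (P ⧸ Q)] :
    (Q.map (algebraMap P (Compl I P))).comap (algebraMap P (Compl I P)) = Q := by
  refine le_antisymm (fun x hx => ?_) Ideal.le_comap_map
  have hH : IsHausdorff I (P ⧸ Q) := (AdicC27.isAdicComplete_of_finite (I := I) _).toIsHausdorff
  refine Ideal.Quotient.eq_zero_iff_mem.mp (hH.haus _ fun j => ?_)
  rw [SModEq.zero, Ideal.smul_top_eq_map, Submodule.restrictScalars_mem,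
    IsScalarTower.algebraMap_eq A P (P ⧸ Q), ← Ideal.map_map]
  have hsum : ∀ z ∈ Q.map (algebraMap P (Compl I P)),
      ∃ w ∈ Q, z - algebraMap P _ w ∈ (I ^ j).map (algebraMap A (Compl I P)) := by
    intro z hz
    induction hz using Submodule.span_induction with
    | mem y hy =>
      obtain ⟨w, hw, rfl⟩ := hy
      exact ⟨w, hw, by rw [sub_self]; exact zero_mem _⟩
    | zero => exact ⟨0, zero_mem _, by rw [map_zero, sub_self]; exact zero_mem _⟩
    | add a b _ _ ha hb =>
      obtain ⟨v, hv, hav⟩ := ha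
      obtain ⟨w, hw, hbw⟩ := hb
      exact ⟨v + w, add_mem hv hw, by rw [map_add, add_sub_add_comm]; exact add_mem hav hbw⟩
    | smul e a _ ha =>
      obtain ⟨v, hv, hav⟩ := ha
      obtain ⟨c, hc⟩ := exists_sub_mem_compl (IsNoetherian.noetherian I) e j
      refine ⟨c * v, Ideal.mul_mem_left _ _ hv, ?_⟩
      rw [smul_eq_mul, map_mul, show e * a - algebraMap P _ c * algebraMap P (Compl I P) v =
        e * (a - algebraMap P _ v) + (e - algebraMap P _ c) * algebraMap P _ v by ring]
      exact add_mem (Ideal.mul_mem_left _ _ hav) (Ideal.mul_mem_right _ _ hc)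
  obtain ⟨w, hw, hxw⟩ := hsum _ hx
  rw [← map_sub] at hxw
  have h := Ideal.mem_map_of_mem (Ideal.Quotient.mk Q) (mem_of_algebraMap_mem_compl _ j hxw)
  rwa [map_sub, Ideal.Quotient.eq_zero_iff_mem.mpr hw, sub_zero] at h

theorem finite_quotient_pow (Q : Ideal P) [Module.Finite A (P ⧸ Q)] (m : ℕ) (hm : m ≠ 0) :
    Module.Finite A (P ⧸ Q ^ m) := by
  have hle : Q ^ m ≤ Q := Ideal.pow_le_self hm
  haveI : Module.Finite A ((P ⧸ Q ^ m) ⧸ Q.map (Ideal.Quotient.mk (Q ^ m))) :=
    Module.Finite.equiv (DoubleQuot.quotQuotEquivQuotOfLEₐ A hle).toLinearEquiv.symm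
  refine finite_of_finite_nilradical (m := Q.map (Ideal.Quotient.mk (Q ^ m))) fun x hx => ⟨m, ?_⟩
  have h := Ideal.pow_mem_pow hx m
  rw [← Ideal.map_pow, Ideal.map_quotient_self] at h
  exact h

end Groth.Agent.Frg27
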