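import Groth.Agent.Frg27.Base
import Groth.Agent.AdicC27.Approx
import Mathlib.Data.Finsupp.MonomialOrder
import Mathlib.Data.Finsupp.PWO
import Mathlib.Order.WellQuasiOrder
import Mathlib.RingTheory.PrincipalIdealDomain

/-!
Saturated submodules of `R⟨ζ⟩^k` over a complete valuation ring of rank one are finitely generated:
division by lifts of elements with prescribed leading monomials modulo the maximal ideal.
-/

set_option autoImplicit false
set_option linter.style.haveILetI false
set_option linter.unusedSectionVars false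

namespace Groth.Agent.Frg27

universe u

variable {R : Type u} [CommRing R] (t : R) {n k : ℕ}

/-- Monomials of a free module. -/
abbrev Mon (n k : ℕ) : Type := (Fin n →₀ ℕ) × Fin k

/-- The sort key of a monomial. -/
noncomputable def key (μ : Mon n k) : (MonomialOrder.lex (σ := Fin n)).syn ×ₗ Fin k :=
  toLex (MonomialOrder.lex.toSyn μ.1, μ.2)

theorem key_injective : Function.Injective (key (n := n) (k := k)) := fun μ ν h => by
  have h' := congrArg ofLex h
  simp only [key, ofLex_toLex, Prod.mk.injEq, EmbeddingLike.apply_eq_iff_eq] at h'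
  exact Prod.ext h'.1 h'.2

theorem key_shift_lt {β : Fin n →₀ ℕ} {μ ν : Mon n k} (h : key μ < key ν) :
    key (β + μ.1, μ.2) < key (β + ν.1, ν.2) := by
  simp only [key, Prod.Lex.toLex_lt_toLex, map_add] at h ⊢
  rcases h with h | ⟨h, h'⟩
  · exact Or.inl (add_lt_add_right h _)
  · exact Or.inr ⟨by rw [h], h'⟩

/-- Vectors of polynomials. -/
abbrev PolyVec (R : Type u) [CommRing R] (n k : ℕ) : Type u := Fin k → MvPolynomial (Fin n) R

/-- The coefficient at a monomial. -/
noncomputable def co (μ : Mon n k) : PolyVec R n k →ₗ[R] R :=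
  (MvPolynomial.lcoeff R μ.1).comp (LinearMap.proj μ.2)

@[simp] theorem co_apply (μ : Mon n k) (p : PolyVec R n k) :
    co μ p = MvPolynomial.coeff μ.1 (p μ.2) := rfl

/-- Polynomial vectors as vectors of series. -/
noncomputable def toVec : PolyVec R n k →ₗ[R] (Fin k → TPow t n) :=
  LinearMap.pi fun i => (toPow t n).toLinearMap.comp (LinearMap.proj i)

@[simp] theorem toVec_apply (p : PolyVec R n k) (i : Fin k) : toVec t p i = toPow t n (p i) := rfl

theorem exists_vec (x : Fin k → TPow t n) (j : ℕ) :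
    ∃ (p : PolyVec R n k) (y : Fin k → TPow t n), x = toVec t p + t ^ j • y := by
  choose p y h using fun i => exists_poly (x i) j
  exact ⟨p, y, funext h⟩

theorem dvd_co_of_toVec_eq_smul {p : PolyVec R n k} {j : ℕ} {y : Fin k → TPow t n}
    (h : toVec t p = t ^ j • y) (μ : Mon n k) : t ^ j ∣ co μ p :=
  dvd_coeff_of_toPow_eq_smul (congrFun h μ.2) μ.1

variable [IsDomain R] [ValuationRing R]

/-- Leading monomials of a submodule modulo the maximal ideal. -/
def leadSet (N : Submodule (TPow t n) (Fin k → TPow t n)) : Set (Mon n k) :=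
  {μ | ∃ f ∈ N, ∃ (p : PolyVec R n k) (y : Fin k → TPow t n), f = toVec t p + t • y ∧ co μ p = 1 ∧
    ∀ ν, key μ < key ν → co ν p ∈ IsLocalRing.maximalIdeal R}

/-- Polynomial vectors supported outside the leading monomials. -/
noncomputable def standard (N : Submodule (TPow t n) (Fin k → TPow t n)) : Submodule R (PolyVec R n k) :=
  ⨅ μ ∈ leadSet t N, LinearMap.ker (co μ)

theorem co_monomial_smul (β : Fin n →₀ ℕ) (c : R) (p : PolyVec R n k) (μ : Mon n k) :
    co μ (MvPolynomial.monomial β c • p) = if β ≤ μ.1 then c * co (μ.1 - β, μ.2) p else 0 := by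
  simp [MvPolynomial.coeff_monomial_mul']

theorem toVec_smul (q : MvPolynomial (Fin n) R) (p : PolyVec R n k) :
    toVec t (q • p) = toPow t n q • toVec t p := by
  ext i
  simp

theorem leadSet_shift {N : Submodule (TPow t n) (Fin k → TPow t n)} {μ : Mon n k}
    (hμ : μ ∈ leadSet t N) (β : Fin n →₀ ℕ) : (β + μ.1, μ.2) ∈ leadSet t N := by
  obtain ⟨f, hf, p, y, hfy, h1, h2⟩ := hμ
  refine ⟨toPow t n (MvPolynomial.monomial β (1 : R)) • f, N.smul_mem _ hf,
    MvPolynomial.monomial β (1 : R) • p, toPow t n (MvPolynomial.monomial β (1 : R)) • y, ?_, ?_, ?_⟩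
  · rw [hfy, smul_add, toVec_smul, smul_comm]
  · rw [co_monomial_smul, if_pos le_self_add, add_tsub_cancel_left, one_mul]
    exact h1
  · intro ν hν
    rw [co_monomial_smul]
    split_ifs with hβ
    · rw [one_mul]
      refine h2 _ ?_
      by_contra hle
      rcases eq_or_lt_of_le (not_lt.mp hle) with he | hlt
      · refine hν.ne' ?_
        have he' := key_injective he
        rw [← congrArg Prod.fst he', ← congrArg Prod.snd he', add_tsub_cancel_of_le hβ]
      · have := key_shift_lt (β := β) hlt
        simp only [add_tsub_cancel_of_le hβ] at this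
        exact lt_asymm hν this
    · exact zero_mem _

/-- Finitely many leading monomials dominate all others. -/
theorem exists_finite_leadSet (N : Submodule (TPow t n) (Fin k → TPow t n)) :
    ∃ G : Set (Mon n k), G.Finite ∧ G ⊆ leadSet t N ∧
      ∀ μ ∈ leadSet t N, ∃ ν ∈ G, ν.2 = μ.2 ∧ ν.1 ≤ μ.1 := by
  let S : Fin k → Set (Fin n →₀ ℕ) := fun i => {α | Minimal (fun α => (α, i) ∈ leadSet t N) α}
  have hS : ∀ i, (S i).Finite := fun i =>
    WellQuasiOrderedLE.finite_of_isAntichain (setOf_minimal_antichain _)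
  refine ⟨⋃ i, (fun α => (α, i)) '' S i, Set.finite_iUnion fun i => (hS i).image _, ?_, ?_⟩
  · rintro μ hμ
    obtain ⟨i, α, hα, rfl⟩ := Set.mem_iUnion.mp hμ
    exact hα.1
  · rintro ⟨α, i⟩ hμ
    obtain ⟨α', hle, hα'⟩ :=
      exists_minimal_le_of_wellFoundedLT (fun α => (α, i) ∈ leadSet t N) α hμ
    exact ⟨(α', i), Set.mem_iUnion.mpr ⟨i, α', hα', rfl⟩, rfl, hle⟩

variable {t}

/-- Bezout: a finite set in a valuation ring has a common divisor in the span. -/
theorem exists_span_eq {ι : Type*} [Finite ι] (a : ι → R) :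
    ∃ s, Ideal.span (Set.range a) = Ideal.span {s} :=
  (IsBezout.isPrincipal_of_FG _ (Submodule.fg_span (Set.finite_range a))).principal

variable [Ring.KrullDimLE 1 R] [IsAdicComplete (Ideal.span {t}) R]

theorem fg_of_saturated (ht : t ≠ 0) (N : Submodule (TPow t n) (Fin k → TPow t n))
    (hN : ∀ (x : Fin k → TPow t n) (j : ℕ), t ^ j • x ∈ N → x ∈ N) : N.FG := by
  classical
  have htm := mem_maximalIdeal ht
  obtain ⟨G, hGfin, hGL, hGdom⟩ := exists_finite_leadSet t N
  haveI : Fintype G := hGfin.fintype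
  choose f hfN p y hfy hlt hgt using fun g : G => hGL g.2
  -- a common bound for the coefficients above the leading monomials
  obtain ⟨s, hsm, hst, hs⟩ : ∃ s ∈ IsLocalRing.maximalIdeal R, s ∣ t ∧
      ∀ (g : G) (ν : Mon n k), key g.1 < key ν → s ∣ co ν (p g) := by
    let T : Type := Σ g : G, {ν : Mon n k // key g.1 < key ν ∧ ν.1 ∈ (p g ν.2).support}
    haveI : ∀ g : G, Finite {ν : Mon n k // key g.1 < key ν ∧ ν.1 ∈ (p g ν.2).support} := fun g => by
      refine Finite.of_injective
        (β := Σ i : Fin k, {α // α ∈ (p g i).support}) (fun ν => ⟨ν.1.2, ν.1.1, ν.2.2⟩) ?_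
      rintro ⟨⟨α, i⟩, _⟩ ⟨⟨α', i'⟩, _⟩ h
      simp only [Sigma.mk.injEq] at h
      obtain ⟨rfl, h⟩ := h
      simp_all
    obtain ⟨s, hs⟩ := exists_span_eq (R := R) (ι := Option T)
      (fun o => o.elim t fun x => co x.2.1 (p x.1))
    have hmem : ∀ o : Option T, s ∣ o.elim t fun x => co x.2.1 (p x.1) := fun o =>
      Ideal.mem_span_singleton.mp (hs ▸ Ideal.subset_span ⟨o, rfl⟩)
    refine ⟨s, ?_, hmem none, fun g ν hν => ?_⟩
    · have hle : Ideal.span {s} ≤ IsLocalRing.maximalIdeal R := by
        rw [← hs, Ideal.span_le]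
        rintro - ⟨o, rfl⟩
        cases o with
        | none => exact htm
        | some x => exact hgt _ _ x.2.2.1
      exact hle (Ideal.mem_span_singleton_self s)
    · by_cases hsup : ν.1 ∈ (p g ν.2).support
      · exact hmem (some ⟨g, ν, hν, hsup⟩)
      · rw [co_apply, MvPolynomial.notMem_support_iff.mp hsup]
        exact dvd_zero _
  obtain ⟨u, hu⟩ := hst
  -- the submodule reached by one step of division
  set φ : (G → TPow t n) →ₗ[TPow t n] (Fin k → TPow t n) := Fintype.linearCombination (TPow t n) f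
  set G₀ : Submodule R (Fin k → TPow t n) := (LinearMap.range φ).restrictScalars R with hG₀
  set V : Submodule R (Fin k → TPow t n) := G₀ ⊔ (standard t N).map (toVec t) with hV
  set sF : Submodule R (Fin k → TPow t n) := LinearMap.range (LinearMap.lsmul R _ s) with hsF
  have hmemsF : ∀ w : Fin k → TPow t n, s • w ∈ sF := fun w => ⟨w, rfl⟩
  have hfG : ∀ (q : TPow t n) (g : G), q • f g ∈ V := fun q g =>
    Submodule.mem_sup_left (Submodule.smul_mem (LinearMap.range φ) q ⟨Pi.single g 1, by simp [φ]⟩)
  -- every monomial reduces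
  have key_step : ∀ (μ : Mon n k) (c : R),
      toVec t (Pi.single μ.2 (MvPolynomial.monomial μ.1 c)) ∈ V ⊔ sF := by
    intro μ
    induction hμ0 : key μ using WellFoundedLT.induction generalizing μ with
    | _ κ ih =>
    subst hμ0
    intro c
    by_cases hμ : μ ∈ leadSet t N
    · obtain ⟨g₀, hg, hgi, hgle⟩ := hGdom μ hμ
      set g : G := ⟨g₀, hg⟩
      set β := μ.1 - g₀.1
      have hμeq : μ = (β + g₀.1, g₀.2) := Prod.ext (by rw [tsub_add_cancel_of_le hgle]) hgi.symm
      set m : MvPolynomial (Fin n) R := MvPolynomial.monomial β c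
      set q : PolyVec R n k := m • p g with hq
      have hqμ : co μ q = c := by
        rw [hq, hμeq, co_monomial_smul, if_pos le_self_add, add_tsub_cancel_left]
        exact (congrArg (c * ·) (hlt g)).trans (mul_one c)
      have hsum : q = ∑ i, ∑ α ∈ (q i).support,
          Pi.single i (MvPolynomial.monomial α (co (α, i) q)) := by
        conv_lhs => rw [← Finset.univ_sum_single q]
        refine Finset.sum_congr rfl fun i _ => ?_
        conv_lhs => rw [MvPolynomial.as_sum (q i)]
        exact map_sum (LinearMap.single R (fun _ : Fin k => MvPolynomial (Fin n) R) i) _ _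
      have hrest : toVec t q - toVec t (Pi.single μ.2 (MvPolynomial.monomial μ.1 c)) ∈ V ⊔ sF := by
        have hq0 : q - Pi.single μ.2 (MvPolynomial.monomial μ.1 c) =
            ∑ i, ∑ α ∈ (q i).support,
              (if (α, i) = μ then 0 else Pi.single i (MvPolynomial.monomial α (co (α, i) q))) := by
          rw [sub_eq_iff_eq_add']
          funext j
          refine MvPolynomial.ext _ _ fun α' => ?_
          simp only [Pi.add_apply, Finset.sum_apply, MvPolynomial.coeff_add, MvPolynomial.coeff_sum]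
          rw [Finset.sum_eq_single j (fun i _ hij => Finset.sum_eq_zero fun α _ => by
            split_ifs <;> simp [Pi.single_eq_of_ne (Ne.symm hij)]) (by simp)]
          rw [Finset.sum_eq_single α' (fun α _ hα => by
              split_ifs <;> simp [MvPolynomial.coeff_monomial, hα])
            (fun hα => by
              rw [MvPolynomial.notMem_support_iff] at hα
              split_ifs <;> simp [hα])]
          by_cases he : (α', j) = μ
          · subst he
            simpa using hqμ
          · rw [if_neg he, Pi.single_eq_same, MvPolynomial.coeff_monomial, if_pos rfl]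
            rcases eq_or_ne j μ.2 with rfl | hj
            · rw [Pi.single_eq_same, MvPolynomial.coeff_monomial,
                if_neg (fun h => he (Prod.ext h.symm rfl)), zero_add]
              rfl
            · rw [Pi.single_eq_of_ne hj]
              simp
        rw [← map_sub, hq0, map_sum]
        refine Submodule.sum_mem _ fun i _ => ?_
        rw [map_sum]
        refine Submodule.sum_mem _ fun α _ => ?_
        split_ifs with he
        · simp
        rcases lt_trichotomy (key (α, i)) (key μ) with hlt' | heq | hgt'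
        · exact ih _ hlt' (α, i) rfl _
        · exact absurd (key_injective heq) he
        · obtain ⟨d, hd⟩ : s ∣ co (α, i) q := by
            rw [hq, co_monomial_smul]
            split_ifs with hβ
            · refine Dvd.dvd.mul_left (hs g _ ?_) _
              by_contra hle
              rcases eq_or_lt_of_le (not_lt.mp hle) with he2 | hlt2
              · have he3 := key_injective he2
                refine he (Prod.ext ?_ ?_)
                · rw [hμeq]
                  exact (add_tsub_cancel_of_le hβ).symm.trans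
                    (congrArg (fun z : Mon n k => β + z.1) he3)
                · rw [hμeq]
                  exact (congrArg Prod.snd he3 :)
              · have := key_shift_lt (β := β) hlt2
                rw [show (β + (g : Mon n k).1, (g : Mon n k).2) = μ from hμeq.symm] at this
                simp only [add_tsub_cancel_of_le hβ] at this
                exact lt_asymm hgt' this
            · exact dvd_zero _
          have : Pi.single i (MvPolynomial.monomial α (co (α, i) q)) =
              s • (Pi.single i (MvPolynomial.monomial α d) : PolyVec R n k) := by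
            rw [hd, ← Pi.single_smul, MvPolynomial.smul_monomial, smul_eq_mul]
          rw [this, map_smul]
          exact Submodule.mem_sup_right (hmemsF _)
      have hq' : toVec t q ∈ V ⊔ sF := by
        have : toVec t q = toPow t n m • f g - s • (u • (toPow t n m • y g)) := by
          rw [hq, toVec_smul, hfy g, smul_add, ← mul_smul s u, ← hu, smul_comm t (toPow t n m)]
          abel
        rw [this]
        exact sub_mem (Submodule.mem_sup_left (hfG _ _)) (Submodule.mem_sup_right (hmemsF _))
      simpa using sub_mem hq' hrest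
    · refine Submodule.mem_sup_left (Submodule.mem_sup_right (Submodule.mem_map_of_mem ?_))
      simp only [standard, Submodule.mem_iInf, LinearMap.mem_ker]
      intro ν hν
      rcases eq_or_ne ν.2 μ.2 with h2 | h2
      · rw [co_apply, h2, Pi.single_eq_same, MvPolynomial.coeff_monomial, if_neg]
        intro h1
        exact hμ (by rwa [show μ = ν from Prod.ext h1 h2.symm])
      · rw [co_apply, Pi.single_eq_of_ne h2]
        simp
  have step1 : ∀ x, x ∈ V ⊔ sF := by
    intro x
    obtain ⟨q, z, rfl⟩ := exists_vec t x 1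
    refine add_mem ?_ (Submodule.mem_sup_right ⟨u • z, ?_⟩)
    · rw [← Finset.univ_sum_single q, map_sum]
      refine Submodule.sum_mem _ fun i _ => ?_
      rw [MvPolynomial.as_sum (q i),
        show Pi.single i (∑ v ∈ (q i).support, MvPolynomial.monomial v ((q i).coeff v)) =
          ∑ v ∈ (q i).support, (Pi.single i (MvPolynomial.monomial v ((q i).coeff v)) : PolyVec R n k)
          from map_sum (LinearMap.single R (fun _ : Fin k => MvPolynomial (Fin n) R) i) _ _, map_sum]
      exact Submodule.sum_mem _ fun α _ => key_step (α, i) _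
    · rw [LinearMap.lsmul_apply, smul_smul, ← hu, pow_one]
  have stepj : ∀ j x, ∃ v ∈ V, ∃ w : Fin k → TPow t n, x = v + s ^ j • w := by
    intro j
    induction j with
    | zero => exact fun x => ⟨0, zero_mem _, x, by simp⟩
    | succ j ih =>
      intro x
      obtain ⟨v, hv, w, rfl⟩ := ih x
      obtain ⟨v', hv', -, ⟨w', rfl⟩, rfl⟩ := Submodule.mem_sup.mp (step1 w)
      refine ⟨v + s ^ j • v', add_mem hv (Submodule.smul_mem _ _ hv'), w', ?_⟩
      rw [LinearMap.lsmul_apply, smul_add, smul_smul, ← pow_succ, add_assoc]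
  -- modulo t
  have stept : ∀ x, ∃ (a : G → TPow t n) (σ : PolyVec R n k) (w : Fin k → TPow t n),
      σ ∈ standard t N ∧ x = φ a + toVec t σ + t • w := by
    intro x
    obtain ⟨M, e, he⟩ := exists_dvd_pow_of_mem ht hsm
    obtain ⟨v, hv, w, rfl⟩ := stepj M x
    obtain ⟨-, ⟨a, rfl⟩, -, ⟨σ, hσ, rfl⟩, rfl⟩ := Submodule.mem_sup.mp hv
    exact ⟨a, σ, e • w, hσ, by rw [smul_smul, ← he]⟩
  choose da dσ dw hdσ hdx using stept
  have hfspan : LinearMap.range φ ≤ N := by
    rw [Fintype.range_linearCombination, Submodule.span_le]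
    rintro - ⟨g, rfl⟩
    exact hfN g
  refine (?_ : N = LinearMap.range φ) ▸ Submodule.fg_def.mpr ⟨Set.range f, Set.finite_range f,
    (Fintype.range_linearCombination _ _).symm⟩
  refine le_antisymm (fun x hx => ?_) hfspan
  -- iterate
  let st : (j : ℕ) → {q : (G → TPow t n) × PolyVec R n k × (Fin k → TPow t n) //
      q.2.1 ∈ standard t N ∧ x = φ q.1 + toVec t q.2.1 + t ^ j • q.2.2} := fun j => Nat.rec
    (motive := fun j => {q : (G → TPow t n) × PolyVec R n k × (Fin k → TPow t n) //
      q.2.1 ∈ standard t N ∧ x = φ q.1 + toVec t q.2.1 + t ^ j • q.2.2})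
    ⟨(0, 0, x), zero_mem _, by simp⟩
    (fun j q => ⟨(q.1.1 + t ^ j • da q.1.2.2, q.1.2.1 + t ^ j • dσ q.1.2.2, dw q.1.2.2),
      add_mem q.2.1 (Submodule.smul_mem _ _ (hdσ _)), by
      conv_lhs => rw [q.2.2, hdx q.1.2.2]
      simp only [map_add, map_smul, LinearMap.map_smul_of_tower, smul_add, smul_smul, ← pow_succ]
      abel⟩) j
  have hcauchy : ∀ j, (st (j + 1)).1.1 - (st j).1.1 ∈
      (Ideal.span {t} ^ j • ⊤ : Submodule R (G → TPow t n)) := fun j =>
    mem_span_pow_smul_top.mpr ⟨da (st j).1.2.2, by simp [st]⟩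
  haveI : IsPrecomplete (Ideal.span {t}) (G → TPow t n) := by
    refine ⟨fun F hF => ?_⟩
    have hc : ∀ g, ∃ l : TPow t n, ∀ j, F j g ≡ l [SMOD (Ideal.span {t} ^ j • ⊤ : Submodule R (TPow t n))] :=
      fun g => IsPrecomplete.prec inferInstance fun {a b} hab => by
        rw [SModEq.sub_mem, mem_span_pow_smul_top]
        obtain ⟨z, hz⟩ := mem_span_pow_smul_top.mp (SModEq.sub_mem.mp (hF hab))
        exact ⟨z g, congrFun hz g⟩
    choose l hl using hc
    choose z hz using fun j g => mem_span_pow_smul_top.mp (SModEq.sub_mem.mp (hl g j))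
    exact ⟨l, fun j => SModEq.sub_mem.mpr (mem_span_pow_smul_top.mpr ⟨z j, funext (hz j)⟩)⟩
  obtain ⟨a, ha⟩ := IsPrecomplete.prec (I := Ideal.span {t}) inferInstance
    (fun {i j} h => AdicC27.smodEq_of_succ (fun j => (st j).1.1) hcauchy h)
  set r := x - φ a with hr
  have hrN : r ∈ N := sub_mem hx (hfspan ⟨a, rfl⟩)
  have hrj : ∀ j, ∃ σ ∈ standard t N, ∃ w, r = toVec t σ + t ^ j • w := by
    intro j
    obtain ⟨z, hz⟩ := mem_span_pow_smul_top.mp (SModEq.sub_mem.mp (ha j))
    refine ⟨(st j).1.2.1, (st j).2.1, (st j).1.2.2 + φ z, ?_⟩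
    have hφ : φ ((st j).1.1) - φ a = t ^ j • φ z := by
      rw [← map_sub, hz, LinearMap.map_smul_of_tower]
    rw [hr]
    conv_lhs => rw [(st j).2.2]
    rw [smul_add, ← hφ]
    abel
  suffices r = 0 by
    rw [hr, sub_eq_zero] at this
    exact this ▸ ⟨a, rfl⟩
  by_contra hr0
  obtain ⟨j, σ, hσ, w, hrw, hndvd⟩ : ∃ j, ∃ σ ∈ standard t N, ∃ w, r = toVec t σ + t ^ j • w ∧
      ∃ μ, ¬ t ^ j ∣ co μ σ := by
    by_contra hall
    push Not at hall
    refine hr0 (funext fun i => IsHausdorff.haus (I := Ideal.span {t}) inferInstance _ fun j => ?_)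
    obtain ⟨σ, hσ, w, hw⟩ := hrj j
    choose d hd using hall j σ hσ w hw
    rw [SModEq.zero, mem_span_pow_smul_top]
    obtain ⟨q, hq⟩ := (MvPolynomial.C_dvd_iff_dvd_coeff (t ^ j) (σ i)).mpr fun α => ⟨d (α, i), hd (α, i)⟩
    refine ⟨toPow t n q + w i, ?_⟩
    rw [hw, smul_add]
    simp only [Pi.add_apply, toVec_apply, Pi.smul_apply]
    rw [hq, ← MvPolynomial.smul_eq_C_mul, map_smul]
  obtain ⟨μ₀, hμ₀⟩ := hndvd
  let T : Type := Σ i : Fin k, {α // α ∈ (σ i).support}
  obtain ⟨a₀, ha₀⟩ := exists_span_eq (fun x : T => co (x.2.1, x.1) σ)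
  have hdvd : ∀ μ, a₀ ∣ co μ σ := fun μ => by
    by_cases hμ : μ.1 ∈ (σ μ.2).support
    · exact Ideal.mem_span_singleton.mp (ha₀ ▸ Ideal.subset_span ⟨⟨μ.2, μ.1, hμ⟩, rfl⟩)
    · rw [co_apply, MvPolynomial.notMem_support_iff.mp hμ]
      exact dvd_zero _
  have hnot : ¬ t ^ j ∣ a₀ := fun h => hμ₀ (h.trans (hdvd μ₀))
  obtain ⟨b, hb⟩ := (ValuationRing.dvd_total a₀ (t ^ j)).resolve_right hnot
  have ha0 : a₀ ≠ 0 := fun h => hnot (h ▸ dvd_zero _)
  have hbm : b ∈ IsLocalRing.maximalIdeal R := fun hbu => hnot (hb ▸ (associated_mul_unit_right a₀ b hbu).symm.dvd)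
  choose σ' hσ' using fun i => (MvPolynomial.C_dvd_iff_dvd_coeff a₀ (σ i)).mpr fun α => hdvd (α, i)
  have hσeq : σ = a₀ • (σ' : PolyVec R n k) := funext fun i => by
    rw [Pi.smul_apply, MvPolynomial.smul_eq_C_mul, hσ' i]
  set r1 := toVec t σ' + b • w with hr1
  have hrr1 : r = a₀ • r1 := by
    rw [hr1, smul_add, smul_smul, ← hb, ← map_smul, ← hσeq, hrw]
  have hr1N : r1 ∈ N := by
    obtain ⟨M, c, hc⟩ := exists_dvd_pow_of_ne_zero ht ha0 htm
    refine hN r1 M ?_
    rw [hc, mul_comm, mul_smul, ← hrr1]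
    exact N.smul_of_tower_mem c hrN
  obtain ⟨q, z, hwq⟩ := exists_vec t w 1
  set π := σ' + b • q with hπ
  have hr1π : r1 = toVec t π + t • (b • z) := by
    rw [hr1, hπ, hwq, map_add, map_smul, smul_add, pow_one, smul_comm b t, add_assoc]
  have hσ'std : σ' ∈ standard t N := by
    simp only [standard, Submodule.mem_iInf, LinearMap.mem_ker] at hσ ⊢
    intro ν hν
    have := hσ ν hν
    rw [hσeq, map_smul, smul_eq_mul] at this
    exact (mul_eq_zero.mp this).resolve_left ha0
  have hco : ∀ μ, co μ σ = a₀ * co μ σ' := fun μ => by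
    conv_lhs => rw [hσeq]
    rw [map_smul, smul_eq_mul]
  have hex : ∃ μ, IsUnit (co μ π) := by
    by_contra hall
    push Not at hall
    apply hnot
    have hle : Ideal.span {a₀} ≤ Ideal.span {a₀} * IsLocalRing.maximalIdeal R := by
      conv_lhs => rw [← ha₀]
      rw [Ideal.span_le]
      rintro - ⟨x, rfl⟩
      change co (x.2.1, x.1) σ ∈ _
      rw [hco]
      refine Ideal.mul_mem_mul (Ideal.mem_span_singleton_self _) ?_
      have h2 : co (x.2.1, x.1) σ' = co (x.2.1, x.1) π - b * co (x.2.1, x.1) q := by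
        rw [hπ, map_add, map_smul, smul_eq_mul, add_sub_cancel_right]
      rw [h2]
      exact sub_mem (hall _) (Ideal.mul_mem_right _ _ hbm)
    obtain ⟨c, hc, hc'⟩ := Ideal.mem_span_singleton_mul.mp (hle (Ideal.mem_span_singleton_self _))
    exact absurd (mul_left_cancel₀ ha0 (hc'.trans (mul_one a₀).symm) ▸ hc)
      (fun h1 => h1 isUnit_one)
  -- the largest monomial with unit coefficient
  let U : Finset (Mon n k) := (Finset.univ.biUnion fun i => (π i).support.image fun α => (α, i)).filter
    fun μ => IsUnit (co μ π)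
  have hUmem : ∀ μ, IsUnit (co μ π) → μ ∈ U := fun μ hμ => by
    simp only [U, Finset.mem_filter, Finset.mem_biUnion, Finset.mem_univ, true_and, Finset.mem_image]
    refine ⟨⟨μ.2, μ.1, MvPolynomial.mem_support_iff.mpr ?_, rfl⟩, hμ⟩
    exact hμ.ne_zero
  obtain ⟨μ, hμU, hmax⟩ := U.exists_max_image key (hex.imp fun μ hμ => hUmem μ hμ)
  have hμu : IsUnit (co μ π) := (Finset.mem_filter.mp hμU).2
  obtain ⟨v, hv⟩ := hμu
  have hμL : μ ∈ leadSet t N := by
    refine ⟨(↑v⁻¹ : R) • r1, N.smul_of_tower_mem _ hr1N, (↑v⁻¹ : R) • π, (↑v⁻¹ : R) • b • z, ?_, ?_, ?_⟩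
    · rw [hr1π, smul_add, map_smul, smul_comm (↑v⁻¹ : R) t]
    · rw [map_smul, smul_eq_mul, ← hv, Units.inv_mul]
    · intro ν hν
      rw [map_smul, smul_eq_mul]
      refine Ideal.mul_mem_left _ _ ?_
      by_contra hcon
      exact not_le.mpr hν (hmax ν (hUmem ν (not_not.mp hcon)))
  have h0 : co μ σ' = 0 := by
    simp only [standard, Submodule.mem_iInf, LinearMap.mem_ker] at hσ'std
    exact hσ'std μ hμL
  have : co μ π ∈ IsLocalRing.maximalIdeal R := by
    rw [hπ, map_add, h0, zero_add, map_smul, smul_eq_mul]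
    exact Ideal.mul_mem_right _ _ hbm
  exact this (hv ▸ v.isUnit)

end Groth.Agent.Frg27
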