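import Groth.Agent.Frg27.Compl
import Groth.Agent.Frg27.Trunc
import Mathlib.RingTheory.RingHom.FinitePresentation
import Mathlib.RingTheory.Flat.FaithfullyFlat.Algebra

/-!
Truncations of complete localizations.
-/

set_option autoImplicit false

universe u

open TensorProduct

namespace Groth.Agent.Frg27

variable {R : Type u} [CommRing R] {I : Ideal R}
variable {A : Type u} [CommRing A] [Algebra R A]

omit [Algebra R A] in
theorem ringHom_ext_away {B : Type u} [CommRing B] (f : A) {g g' : Localization.Away f →+* B}
    (h : ∀ a, g (algebraMap A _ a) = g' (algebraMap A _ a)) : g = g' :=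
  IsLocalization.ringHom_ext (Submonoid.powers f) (RingHom.ext h)

omit [Algebra R A] in
/-- Localizing a quotient. -/
noncomputable def awayQuotEquiv (J : Ideal A) (f : A) :
    Localization.Away (Ideal.Quotient.mk J f) ≃ₐ[A]
      Localization.Away f ⧸ J.map (algebraMap A (Localization.Away f)) := by
  let C := Localization.Away f
  let K : Ideal C := J.map (algebraMap A C)
  let q : A ⧸ J →ₐ[A] C ⧸ K := Ideal.Quotient.liftₐ J (Algebra.ofId A (C ⧸ K)) fun a ha =>
    Ideal.Quotient.eq_zero_iff_mem.mpr (Ideal.mem_map_of_mem _ ha)
  let back : C →ₐ[A] Localization.Away (Ideal.Quotient.mk J f) :=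
    IsLocalization.liftAlgHom (M := Submonoid.powers f)
      (f := Algebra.ofId A (Localization.Away (Ideal.Quotient.mk J f))) (by
        rintro ⟨-, k, rfl⟩
        exact IsLocalization.map_units (Localization.Away (Ideal.Quotient.mk J f))
          (⟨Ideal.Quotient.mk J (f ^ k), k, (map_pow _ f k).symm⟩ :
            Submonoid.powers (Ideal.Quotient.mk J f)))
  refine AlgEquiv.ofAlgHom
    (IsLocalization.liftAlgHom (M := Submonoid.powers (Ideal.Quotient.mk J f)) (f := q) (by
      rintro ⟨-, k, rfl⟩
      change IsUnit (q (Ideal.Quotient.mk J f ^ k))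
      rw [map_pow]
      refine IsUnit.pow k ?_
      exact (IsLocalization.map_units C (⟨f, Submonoid.mem_powers f⟩ : Submonoid.powers f)).map
        (Ideal.Quotient.mk K)))
    (Ideal.Quotient.liftₐ K back fun c hc => ?_) ?_ ?_
  · have hle : K ≤ RingHom.ker back.toRingHom := by
      rw [Ideal.map_le_iff_le_comap]
      intro a ha
      change back (algebraMap A C a) = 0
      rw [back.commutes, IsScalarTower.algebraMap_apply A (A ⧸ J) (Localization.Away (Ideal.Quotient.mk J f)),
        Ideal.Quotient.algebraMap_eq, Ideal.Quotient.eq_zero_iff_mem.mpr ha, map_zero]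
    exact hle hc
  · refine Ideal.Quotient.algHom_ext A ?_
    refine AlgHom.coe_ringHom_injective (ringHom_ext_away f fun a => ?_)
    simp
  · refine AlgHom.coe_ringHom_injective (ringHom_ext_away _ fun a => ?_)
    obtain ⟨a, rfl⟩ := Ideal.Quotient.mk_surjective a
    have e : algebraMap (A ⧸ J) (Localization.Away (Ideal.Quotient.mk J f)) (Ideal.Quotient.mk J a) =
        algebraMap A (Localization.Away (Ideal.Quotient.mk J f)) a :=
      (IsScalarTower.algebraMap_apply A (A ⧸ J) _ a).symm
    rw [e]
    simp only [RingHom.coe_coe, AlgHom.commutes]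

variable (I) in
/-- The truncations of a complete localization are the localizations of the truncations. -/
noncomputable def cLocTruncEquiv (hI : I.FG) (f : A) (j : ℕ) :
    Localization.Away (Ideal.Quotient.mk ((I ^ j).map (algebraMap R A)) f) ≃ₐ[R]
      AdicRing.CLoc I f ⧸ (I ^ j).map (algebraMap R (AdicRing.CLoc I f)) :=
  ((awayQuotEquiv ((I ^ j).map (algebraMap R A)) f).restrictScalars R).trans
    ((Ideal.quotientEquivAlgOfEq R (by
      rw [Ideal.map_map, ← IsScalarTower.algebraMap_eq] :
        ((I ^ j).map (algebraMap R A)).map (algebraMap A (Localization.Away f)) =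
          (I ^ j).map (algebraMap R (Localization.Away f)))).trans (truncEquiv R hI j))

omit [Algebra R A] in
theorem span_mk_eq_top {r : ℕ} {f : Fin r → A} (hf : Ideal.span (Set.range f) = ⊤) (J : Ideal A) :
    Ideal.span (Set.range fun i => Ideal.Quotient.mk J (f i)) = ⊤ := by
  rw [show (Set.range fun i => Ideal.Quotient.mk J (f i)) = Ideal.Quotient.mk J '' Set.range f from
      Set.range_comp (Ideal.Quotient.mk J) f, ← Ideal.map_span, hf, Ideal.map_top]

/-- Torsion-freeness passes to flat modules. -/
theorem noPowTorsion_of_flat (hI : I.FG) (hA : AdicRing.NoPowTorsion I A)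
    (M : Type u) [AddCommGroup M] [Module A M] [Module R M] [IsScalarTower R A M] [Module.Flat A M] :
    AdicRing.NoPowTorsion I M := by
  intro x n hx
  obtain ⟨s, hs⟩ := (Submodule.FG.pow hI n : (I ^ n : Ideal R).FG)
  classical
  let φ : A →ₗ[A] (s → A) := LinearMap.pi fun a => LinearMap.lsmul A A (algebraMap R A a.1)
  have hφ : Function.Injective φ := by
    refine (injective_iff_map_eq_zero φ).mpr fun y hy => hA y n fun a ha => ?_
    rw [← hs] at ha
    induction ha using Submodule.span_induction with
    | mem a ha =>
      rw [Algebra.smul_def]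
      exact congrFun hy ⟨a, ha⟩
    | zero => simp
    | add a b _ _ h1 h2 => rw [add_smul, h1, h2, add_zero]
    | smul a b _ h1 => rw [smul_assoc, h1, smul_zero]
  have h2 := (TensorProduct.piScalarRight A A M s).injective.comp
    (Module.Flat.lTensor_preserves_injective_linearMap (M := M) φ hφ)
  have h3 : x ⊗ₜ[A] (1 : A) = 0 := h2 (by
    funext a
    have ha : (a.1 : R) • x = 0 := hx a.1 (hs ▸ Submodule.subset_span a.2)
    simp only [Function.comp_apply, map_zero, Pi.zero_apply, LinearMap.lTensor_tmul,
      LinearEquiv.coe_coe, TensorProduct.piScalarRight_apply, TensorProduct.piScalarRightHom_tmul]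
    change (algebraMap R A a.1 * 1) • x = 0
    rw [mul_one, algebraMap_smul, ha])
  simpa using congrArg (TensorProduct.rid A M) h3

end Groth.Agent.Frg27
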