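import Groth.Agent.Frg27.TFT
import Mathlib.RingTheory.MvPolynomial.Homogeneous
import Mathlib.RingTheory.Polynomial.Basic
import Mathlib.RingTheory.Nakayama
import Mathlib.Data.Finsupp.Interval

/-!
Saturated submodules of finite modules over algebras of finite type over algebras topologically of
finite type are finitely generated.
-/

set_option autoImplicit false

universe u w

namespace Groth.Agent.Frg27

open MvPolynomial

variable {R : Type u} [CommRing R]

/-- In a valuation ring a finite combination is a multiple of a single element. -/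
theorem exists_eq_smul_of_mem_smul_top [IsDomain R] [ValuationRing R] {J : Ideal R} {M : Type w}
    [AddCommGroup M] [Module R M] {x : M} (hx : x ∈ J • (⊤ : Submodule R M)) :
    ∃ a ∈ J, ∃ z : M, x = a • z := by
  refine Submodule.smul_induction_on hx (fun a ha z _ => ⟨a, ha, z, rfl⟩) ?_
  rintro x y ⟨a, ha, z, rfl⟩ ⟨a', ha', z', rfl⟩
  rcases ValuationRing.dvd_total a a' with ⟨e, rfl⟩ | ⟨e, rfl⟩
  · exact ⟨a, ha, z + e • z', by rw [smul_add, mul_smul]⟩
  · exact ⟨a', ha', e • z + z', by rw [smul_add, mul_smul]⟩

section Hom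

variable {P : Type u} [CommRing P] {σ : Type} [Finite σ]

theorem finite_setOf_degree_eq (d : ℕ) : {s : σ →₀ ℕ | s.degree = d}.Finite := by
  classical
  haveI := Fintype.ofFinite σ
  exact   (Set.finite_Iic (Finsupp.equivFunOnFinite.symm fun _ => d)).subset fun s hs i =>
    (Finsupp.le_degree i s).trans (le_of_eq hs)

variable (P σ) in
/-- Families of homogeneous polynomials of degree `d`. -/
noncomputable def homFam (k d : ℕ) : Submodule P (Fin k → MvPolynomial σ P) :=
  Submodule.pi Set.univ fun _ => homogeneousSubmodule σ P d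

omit [Finite σ] in
theorem mem_homFam {k d : ℕ} {h : Fin k → MvPolynomial σ P} :
    h ∈ homFam P σ k d ↔ ∀ j, h j ∈ homogeneousSubmodule σ P d :=
  ⟨fun H j => H j trivial, fun H j _ => H j⟩

omit [Finite σ] in
theorem single_monomial_mem {k d : ℕ} (j : Fin k) {s : σ →₀ ℕ} (hs : s.degree = d) (c : P) :
    Pi.single j (monomial s c) ∈ homFam P σ k d := mem_homFam.mpr fun i => by
  by_cases h : i = j
  · subst h
    rw [Pi.single_eq_same]
    exact isHomogeneous_monomial c hs
  · rw [Pi.single_eq_of_ne h]
    exact zero_mem _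

omit [Finite σ] in
theorem eq_sum_single {k : ℕ} (h : Fin k → MvPolynomial σ P) :
    h = ∑ j, ∑ s ∈ (h j).support, coeff s (h j) • Pi.single j (monomial s 1) := by
  classical
  conv_lhs => rw [← Finset.univ_sum_single h]
  refine Finset.sum_congr rfl fun j _ => ?_
  conv_lhs => rw [(h j).as_sum]
  rw [← LinearMap.single_apply (R := P), map_sum]
  refine Finset.sum_congr rfl fun s _ => ?_
  rw [LinearMap.single_apply, ← Pi.single_smul, smul_monomial, smul_eq_mul, mul_one]

instance finite_homFam (k d : ℕ) : Module.Finite P (homFam P σ k d) := by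
  classical
  refine Module.Finite.iff_fg.mpr ⟨(Finset.univ ×ˢ (finite_setOf_degree_eq (σ := σ) d).toFinset).image
    fun p : Fin k × (σ →₀ ℕ) => Pi.single p.1 (monomial p.2 1), le_antisymm ?_ fun h hh => ?_⟩
  · rw [Submodule.span_le]
    intro x hx
    obtain ⟨⟨j, s⟩, hjs, rfl⟩ := Finset.mem_image.mp hx
    exact single_monomial_mem j ((finite_setOf_degree_eq (σ := σ) d).mem_toFinset.mp (Finset.mem_product.mp hjs).2) 1
  · rw [eq_sum_single h]
    refine Submodule.sum_mem _ fun j _ => Submodule.sum_mem _ fun s hs => ?_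
    refine Submodule.smul_mem _ _ (Submodule.subset_span ?_)
    refine Finset.mem_image.mpr ⟨(j, s), Finset.mem_product.mpr ⟨Finset.mem_univ _,
      (finite_setOf_degree_eq (σ := σ) d).mem_toFinset.mpr ?_⟩, rfl⟩
    by_contra hne
    exact mem_support_iff.mp hs ((mem_homFam.mp hh j).coeff_eq_zero hne)

omit [Finite σ] in
/-- The component in degree `d` of a product with a homogeneous family. -/
theorem component_smul_mem_span {k d e : ℕ} (c : MvPolynomial σ P) {g : Fin k → MvPolynomial σ P}
    (hg : g ∈ homFam P σ k e) :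
    (fun j => homogeneousComponent d ((c • g) j)) ∈
      Submodule.span (MvPolynomial σ P) ({g} : Set (Fin k → MvPolynomial σ P)) := by
  refine Submodule.mem_span_singleton.mpr
    ⟨∑ i ∈ Finset.range (c.totalDegree + 1), if d = i + e then homogeneousComponent i c else 0, ?_⟩
  funext j
  rw [Pi.smul_apply, Pi.smul_apply, smul_eq_mul, smul_eq_mul, Finset.sum_mul]
  conv_rhs => rw [← sum_homogeneousComponent c, Finset.sum_mul, map_sum]
  refine Finset.sum_congr rfl fun i _ => ?_
  rw [homogeneousComponent_of_mem ((homogeneousComponent_isHomogeneous i c).mul (mem_homFam.mp hg j))]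
  split <;> simp

end Hom

section Dehom

variable {P : Type u} [CommRing P] {l : ℕ}

variable (P l) in
/-- Dehomogenisation. -/
noncomputable def dehom : MvPolynomial (Option (Fin l)) P →ₐ[P] MvPolynomial (Fin l) P :=
  aeval fun o => Option.elim o 1 X

theorem exists_homogenisation {k : ℕ} (x : Fin k → MvPolynomial (Fin l) P) :
    ∃ (d : ℕ) (h : Fin k → MvPolynomial (Option (Fin l)) P),
      h ∈ homFam P (Option (Fin l)) k d ∧ ∀ j, dehom P l (h j) = x j := by
  refine ⟨Finset.univ.sup fun j => (x j).totalDegree, fun j =>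
    ∑ i ∈ Finset.range ((x j).totalDegree + 1), rename some (homogeneousComponent i (x j)) *
      X none ^ ((Finset.univ.sup fun j => (x j).totalDegree) - i), mem_homFam.mpr fun j => ?_, fun j => ?_⟩
  · refine Submodule.sum_mem _ fun i hi => ?_
    have hi' : i ≤ Finset.univ.sup fun j => (x j).totalDegree :=
      (Nat.lt_succ_iff.mp (Finset.mem_range.mp hi)).trans
        (Finset.le_sup (f := fun j => (x j).totalDegree) (Finset.mem_univ j))
    refine (mem_homogeneousSubmodule _ _).mpr ?_
    have := ((homogeneousComponent_isHomogeneous i (x j)).rename_isHomogeneous (f := some)).mul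
      ((isHomogeneous_X P (none : Option (Fin l))).pow ((Finset.univ.sup fun j => (x j).totalDegree) - i))
    rwa [one_mul, Nat.add_sub_cancel' hi'] at this
  · rw [map_sum]
    conv_rhs => rw [← sum_homogeneousComponent (x j)]
    refine Finset.sum_congr rfl fun i _ => ?_
    rw [map_mul, map_pow, dehom, aeval_X, aeval_rename]
    rw [show ((fun o : Option (Fin l) => Option.elim o 1 X) ∘ some : Fin l → MvPolynomial (Fin l) P) = X from rfl,
      aeval_X_left_apply]
    simp

end Dehom

variable {I : Ideal R}

/-- Saturated submodules of finite free modules over polynomial rings over restricted power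
series. -/
theorem fg_of_sat_poly [IsDomain R] [ValuationRing R] [Ring.KrullDimLE 1 R] {t : R} (ht : t ≠ 0)
    [IsAdicComplete (Ideal.span {t}) R] {n l k : ℕ}
    (N : Submodule (MvPolynomial (Fin l) (AdicRing.RPow R (Ideal.span {t}) n))
      (Fin k → MvPolynomial (Fin l) (AdicRing.RPow R (Ideal.span {t}) n)))
    (hN : IsSat (Ideal.span {t}) N) : N.FG := by
  classical
  set P := AdicRing.RPow R (Ideal.span {t}) n
  have hR := isBase_rank1 (R := R) ht
  have hI := base_fg hR
  have hP : AdicRing.TopFiniteType R (Ideal.span {t}) P := ⟨n, AlgHom.id R _, Function.surjective_id⟩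
  let σ := Option (Fin l)
  set 𝔭 : Ideal P := (IsLocalRing.maximalIdeal R).map (algebraMap R P) with h𝔭
  have h𝔭jac : 𝔭 ≤ (⊥ : Ideal P).jacobson := by
    rw [h𝔭, Ideal.map_le_iff_le_comap]
    intro a ha
    obtain ⟨N', hN'⟩ := exists_dvd_pow_of_mem (t := t) ht ha
    have hrad : ∀ {J : Ideal P}, J.IsMaximal → algebraMap R P t ∈ J → algebraMap R P a ∈ J :=
      fun {J} hJ h => hJ.isPrime.mem_of_pow_mem N'
        (by rw [← map_pow]; exact Ideal.mem_of_dvd _ ((algebraMap R P).map_dvd hN') h)
    refine (Submodule.mem_sInf).mpr fun J hJ => hrad hJ.2 ?_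
    exact (map_ideal_le_jacobson hI hP).trans (sInf_le hJ)
      (Ideal.mem_map_of_mem _ (Ideal.mem_span_singleton_self t))
  haveI hκ : IsNoetherianRing (P ⧸ 𝔭) := by
    letI := Ideal.Quotient.field (IsLocalRing.maximalIdeal R)
    haveI : Algebra.FiniteType R (P ⧸ 𝔭) := by
      haveI := finiteType_quotient hI hP
      have hle : (Ideal.span {t}).map (algebraMap R P) ≤ 𝔭 := Ideal.map_mono
        ((Ideal.span_singleton_le_iff_mem _).mpr (mem_maximalIdeal ht))
      exact Algebra.FiniteType.of_surjective (Ideal.Quotient.factorₐ R hle)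
        (Ideal.Quotient.factor_surjective hle)
    haveI : IsScalarTower R (R ⧸ IsLocalRing.maximalIdeal R) (P ⧸ 𝔭) :=
      IsScalarTower.of_algebraMap_eq fun r => rfl
    haveI : Algebra.FiniteType (R ⧸ IsLocalRing.maximalIdeal R) (P ⧸ 𝔭) :=
      Algebra.FiniteType.of_restrictScalars_finiteType R _ _
    exact Algebra.FiniteType.isNoetherianRing (R ⧸ IsLocalRing.maximalIdeal R) _
  -- the saturated graded submodule upstairs
  let N' : Submodule (MvPolynomial σ P) (Fin k → MvPolynomial σ P) :=
    { carrier := {h | (fun j => dehom P l (h j)) ∈ N}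
      add_mem' := fun {a b} ha hb => by
        change (fun j => dehom P l (a j + b j)) ∈ N
        simp only [map_add]
        exact add_mem ha hb
      zero_mem' := by
        change (fun j => dehom P l 0) ∈ N
        simp only [map_zero]
        exact zero_mem N
      smul_mem' := fun c a ha => by
        change (fun j => dehom P l (c * a j)) ∈ N
        simp only [map_mul]
        exact N.smul_mem (dehom P l c) ha }
  have hN' : ∀ (a : R), a ≠ 0 → ∀ z, a • z ∈ N' → z ∈ N' := by
    intro a ha z hz
    obtain ⟨m, e, he⟩ := exists_dvd_pow_of_ne_zero (t := t) ht ha (mem_maximalIdeal ht)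
    refine hN (fun j => dehom P l (z j)) m fun b hb => ?_
    rw [Ideal.span_singleton_pow] at hb
    obtain ⟨b', rfl⟩ := Ideal.mem_span_singleton'.mp hb
    rw [he, mul_comm a e, ← mul_assoc, mul_smul]
    refine N.smul_of_tower_mem _ ?_
    have h2 : (fun j => dehom P l ((a • z) j)) ∈ N := hz
    convert h2 using 1
    funext j
    exact ((dehom P l).toLinearMap.map_smul_of_tower a (z j)).symm
  -- the reduction
  let ρ : MvPolynomial σ P →+* MvPolynomial σ (P ⧸ 𝔭) := MvPolynomial.map (Ideal.Quotient.mk 𝔭)
  let red : (Fin k → MvPolynomial σ P) → (Fin k → MvPolynomial σ (P ⧸ 𝔭)) := fun h j => ρ (h j)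
  let X₀ : Set (Fin k → MvPolynomial σ P) := {h | h ∈ N' ∧ ∃ d, h ∈ homFam P σ k d}
  obtain ⟨G', hG', hspan⟩ := Submodule.fg_span_iff_fg_span_finset_subset (red '' X₀) |>.mp
    (IsNoetherian.noetherian (Submodule.span (MvPolynomial σ (P ⧸ 𝔭)) (red '' X₀)))
  choose g hgX hgr using fun q : G' => hG' q.2
  choose dg hdg using fun q : G' => (hgX q).2
  set U : Submodule (MvPolynomial σ P) (Fin k → MvPolynomial σ P) :=
    Submodule.span _ (Set.range g) with hU
  have hUN : U ≤ N' := Submodule.span_le.mpr (Set.range_subset_iff.mpr fun q => (hgX q).1)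
  have hstep : ∀ d, ∀ x ∈ homFam P σ k d, x ∈ N' → x ∈ U := by
    intro d
    let Hd := homFam P σ k d
    let Nd : Submodule P Hd := (N'.restrictScalars P).comap Hd.subtype
    let Ud : Submodule P Hd := (U.restrictScalars P).comap Hd.subtype
    have hNd : IsSat (Ideal.span {t}) Nd := fun x j hx => by
      refine hN' (t ^ j) (pow_ne_zero j ht) x.1 ?_
      exact hx (t ^ j) (Ideal.pow_mem_pow (Ideal.mem_span_singleton_self t) j)
    have hfg : Nd.FG := fg_of_sat hR hP Nd hNd
    suffices hle : Nd ≤ Ud from fun x hx hxN => hle (show (⟨x, hx⟩ : Hd) ∈ Nd from hxN)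
    refine Submodule.le_of_le_smul_of_le_jacobson_bot hfg h𝔭jac ?_
    intro x hx
    have hxspan : red x.1 ∈ Submodule.span (MvPolynomial σ (P ⧸ 𝔭)) (red '' Set.range g) := by
      have : red x.1 ∈ Submodule.span (MvPolynomial σ (P ⧸ 𝔭)) (red '' X₀) :=
        Submodule.subset_span ⟨x.1, ⟨hx, d, x.2⟩, rfl⟩
      rw [hspan] at this
      refine Submodule.span_mono (fun q hq => ?_) this
      exact ⟨g ⟨q, hq⟩, ⟨⟨q, hq⟩, rfl⟩, hgr ⟨q, hq⟩⟩
    rw [← Set.range_comp, Submodule.mem_span_range_iff_exists_fun] at hxspan
    obtain ⟨cb, hcb⟩ := hxspan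
    choose c hc using fun q : G' => MvPolynomial.map_surjective (Ideal.Quotient.mk 𝔭)
      Ideal.Quotient.mk_surjective (cb q)
    let u : Fin k → MvPolynomial σ P := fun j => homogeneousComponent d ((∑ q, c q • g q) j)
    have hu : u ∈ U := by
      have : u = ∑ q, fun j => homogeneousComponent d ((c q • g q) j) := by
        funext j
        simp only [u, Finset.sum_apply, map_sum]
      rw [this]
      exact Submodule.sum_mem _ fun q _ => Submodule.span_mono (Set.singleton_subset_iff.mpr (show g q ∈ Set.range g from ⟨q, rfl⟩))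
        (component_smul_mem_span (c q) (hdg q))
    have hud : u ∈ Hd := mem_homFam.mpr fun j => homogeneousComponent_mem _ _
    have he : ∀ j s, coeff s (x.1 j - u j) ∈ 𝔭 := by
      intro j s
      rw [← Ideal.Quotient.eq_zero_iff_mem, coeff_sub, map_sub]
      have h1 : ρ (x.1 j) = ρ ((∑ q, c q • g q) j) := by
        have h2 := congrFun hcb j
        simp only [Finset.sum_apply, Pi.smul_apply, smul_eq_mul, Function.comp_apply] at h2
        rw [Finset.sum_apply, map_sum]
        change red x.1 j = _
        rw [← h2]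
        refine Finset.sum_congr rfl fun q _ => ?_
        rw [Pi.smul_apply, smul_eq_mul, map_mul]
        rw [show ρ (c q) = cb q from hc q]
      have h2 : coeff s (ρ (x.1 j)) = coeff s (ρ (u j)) := by
        simp only [ρ, u, coeff_map, coeff_homogeneousComponent]
        split
        · simpa only [ρ, coeff_map] using congrArg (coeff s) h1
        · rename_i hne
          rw [((mem_homFam.mp x.2 j).coeff_eq_zero hne), map_zero]
      rw [coeff_map, coeff_map] at h2
      simp [h2]
    have hdiff : x - ⟨u, hud⟩ ∈ 𝔭 • (⊤ : Submodule P Hd) := by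
      have : x - ⟨u, hud⟩ = ∑ j, ∑ s ∈ (x.1 j - u j).support, coeff s (x.1 j - u j) •
          (if h : s.degree = d then (⟨Pi.single j (monomial s 1), single_monomial_mem j h 1⟩ : Hd) else 0) := by
        apply Subtype.ext
        rw [Submodule.coe_sum, Submodule.coe_sub]
        conv_lhs => rw [eq_sum_single (x.1 - u)]
        refine Finset.sum_congr rfl fun j _ => ?_
        rw [Submodule.coe_sum]
        refine Finset.sum_congr (by rw [Pi.sub_apply]) fun s hs => ?_
        rw [Submodule.coe_smul, Pi.sub_apply]
        rw [dif_pos]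
        by_contra hne
        exact mem_support_iff.mp hs
          (((mem_homFam.mp (sub_mem x.2 hud)) j).coeff_eq_zero hne)
      rw [this]
      exact Submodule.sum_mem _ fun j _ => Submodule.sum_mem _ fun s _ =>
        Submodule.smul_mem_smul (he j s) trivial
    rw [← Submodule.restrictScalars_mem R, h𝔭, Ideal.smul_restrictScalars,
      Submodule.restrictScalars_top] at hdiff
    obtain ⟨a, ha, z, hz⟩ := exists_eq_smul_of_mem_smul_top hdiff
    rw [show x = (⟨u, hud⟩ : Hd) + a • z by rw [← hz, add_sub_cancel]]
    refine add_mem (Submodule.mem_sup_left (show u ∈ U from hu)) (Submodule.mem_sup_right ?_)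
    by_cases ha0 : a = 0
    · have h0 : (0 : R) • z = 0 := Subtype.ext (zero_smul R z.1)
      rw [ha0, h0]
      exact zero_mem _
    rw [← algebraMap_smul P a z]
    refine Submodule.smul_mem_smul (Ideal.mem_map_of_mem _ ha) ?_
    refine hN' a ha0 z.1 ?_
    have : (x - ⟨u, hud⟩ : Hd).1 ∈ N' := sub_mem hx (hUN hu)
    rw [hz] at this
    exact this
  refine ⟨Finset.univ.image fun q : G' => fun j => dehom P l (g q j), le_antisymm ?_ fun x hx => ?_⟩
  · rw [Submodule.span_le, Finset.coe_image]
    rintro - ⟨q, -, rfl⟩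
    exact (hgX q).1
  · obtain ⟨d, h, hh, hdh⟩ := exists_homogenisation x
    have hhN : h ∈ N' := by
      change (fun j => dehom P l (h j)) ∈ N
      rwa [funext hdh]
    rw [← funext hdh]
    have hU' := hstep d h hh hhN
    clear hh hhN hdh
    induction hU' using Submodule.span_induction with
    | mem v hv =>
      obtain ⟨q, rfl⟩ := hv
      exact Submodule.subset_span (by rw [Finset.coe_image]; exact ⟨q, by simp, rfl⟩)
    | zero => simp only [Pi.zero_apply, map_zero]; exact zero_mem _
    | add a b _ _ ha hb => simp only [Pi.add_apply, map_add]; exact add_mem ha hb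
    | smul c a _ ha =>
      simp only [Pi.smul_apply, smul_eq_mul, map_mul]
      exact Submodule.smul_mem _ (dehom P l c) ha

end Groth.Agent.Frg27
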