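import Groth.Agent.Frg27.RigPoints
import Mathlib.RingTheory.Unramified.LocalRing
import Mathlib.RingTheory.Unramified.Finite
import Mathlib.RingTheory.Kaehler.Basic
import Mathlib.LinearAlgebra.TensorProduct.Quotient

/-!
Unramified reductions and rig-closed points.
-/

set_option autoImplicit false

universe u

open TensorProduct

namespace Groth.Agent.Frg27

theorem subsingleton_kaehler_of_quotient {A C : Type u} [CommRing A] [CommRing C] [Algebra A C]
    [Algebra.EssFiniteType A C] (n : Ideal A) (hjac : n.map (algebraMap A C) ≤ (⊥ : Ideal C).jacobson)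
    [Algebra.FormallyUnramified A (C ⧸ n.map (algebraMap A C))] : Algebra.FormallyUnramified A C := by
  constructor
  set K := n.map (algebraMap A C) with hK
  haveI : Subsingleton ((C ⧸ K) ⊗[C] Ω[C⁄A]) := by
    refine subsingleton_of_forall_eq 0 fun x => ?_
    obtain ⟨x, rfl⟩ := (KaehlerDifferential.exact_kerCotangentToTensor_mapBaseChange A C
      (C ⧸ K) Ideal.Quotient.mk_surjective x).mp (Subsingleton.elim _ _)
    obtain ⟨⟨x, hx⟩, rfl⟩ := Ideal.toCotangent_surjective _ x
    simp only [KaehlerDifferential.kerCotangentToTensor_toCotangent]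
    replace hx : x ∈ n.map (algebraMap A C) := Ideal.Quotient.eq_zero_iff_mem.mp hx
    induction hx using Submodule.span_induction with
    | zero => simp
    | mem x h => obtain ⟨x, hx, rfl⟩ := h; simp
    | add x y hx hy _ _ => simp [*, TensorProduct.tmul_add]
    | smul a x hx _ =>
      have : (Ideal.Quotient.mk K) x = 0 := Ideal.Quotient.eq_zero_iff_mem.mpr hx
      simp [*, TensorProduct.tmul_add, TensorProduct.smul_tmul', ← Algebra.algebraMap_eq_smul_one]
  haveI : Subsingleton (Ω[C⁄A] ⧸ (K • ⊤ : Submodule C Ω[C⁄A])) :=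
    (TensorProduct.quotTensorEquivQuotSMul Ω[C⁄A] K).symm.injective.subsingleton
  have htop : (K • ⊤ : Submodule C Ω[C⁄A]) = ⊤ := Submodule.Quotient.subsingleton_iff.mp inferInstance
  have hbot : (⊤ : Submodule C Ω[C⁄A]) = ⊥ :=
    Submodule.eq_bot_of_le_smul_of_le_jacobson_bot K ⊤ Module.Finite.fg_top htop.ge hjac
  exact (Submodule.subsingleton_iff C).mp (subsingleton_of_bot_eq_top hbot.symm)

theorem exists_mul_mem_of_unramified {A : Type u} [CommRing A] [IsNoetherianRing A] {I : Ideal A}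
    [IsAdicComplete I A] {B : Type u} [CommRing B] [Algebra A B] [IsNoetherianRing B]
    [IsAdicComplete (I.map (algebraMap A B)) B]
    (hft : Algebra.FiniteType A (B ⧸ I.map (algebraMap A B)))
    [Algebra.FormallyUnramified A (B ⧸ I.map (algebraMap A B))] (q : PrimeSpectrum B)
    (hp : IsRig I (PrimeSpectrum.comap (algebraMap A B) q)) :
    ∀ x ∈ q.asIdeal, ∃ s ∉ q.asIdeal,
      s * x ∈ (PrimeSpectrum.comap (algebraMap A B) q).asIdeal.map (algebraMap A B) := by
  set p := (PrimeSpectrum.comap (algebraMap A B) q).asIdeal with hpdef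
  set P := p.map (algebraMap A B) with hP
  obtain ⟨hloc, hmax, -⟩ := hp.local_data
  haveI := hloc
  set n := (IsLocalRing.maximalIdeal (A ⧸ p)).comap (Ideal.Quotient.mk p) with hn
  haveI : n.IsMaximal := Ideal.comap_isMaximal_of_surjective _ Ideal.Quotient.mk_surjective
  have hpn : p ≤ n := fun a ha => by
    rw [hn, Ideal.mem_comap, Ideal.Quotient.eq_zero_iff_mem.mpr ha]; exact zero_mem _
  have hIn : I ≤ n := fun a ha => by
    rw [hn, Ideal.mem_comap, hmax (IsLocalRing.maximalIdeal (A ⧸ p)) inferInstance]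
    exact Ideal.le_radical (Ideal.mem_map_of_mem _ ha)
  have hPC : ∀ a ∈ p, algebraMap A (B ⧸ P) a = 0 := fun a ha =>
    Ideal.Quotient.eq_zero_iff_mem.mpr (Ideal.mem_map_of_mem _ ha)
  haveI hcC : IsAdicComplete (I.map (algebraMap A (B ⧸ P))) (B ⧸ P) := complete_quotient P
  have hrad : n.map (algebraMap A (B ⧸ P)) ≤ (I.map (algebraMap A (B ⧸ P))).radical := by
    rw [Ideal.map_le_iff_le_comap]
    intro a ha
    rw [hn, Ideal.mem_comap, hmax (IsLocalRing.maximalIdeal (A ⧸ p)) inferInstance] at ha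
    obtain ⟨N, hN⟩ := ha
    rw [← map_pow] at hN
    obtain ⟨i, hi, hia⟩ := (Ideal.mem_map_iff_of_surjective _ Ideal.Quotient.mk_surjective).mp hN
    refine ⟨N, ?_⟩
    have h0 : algebraMap A (B ⧸ P) (a ^ N) = algebraMap A (B ⧸ P) i := by
      rw [← sub_eq_zero, ← map_sub]
      exact hPC _ (Ideal.Quotient.eq.mp hia.symm)
    rw [← map_pow, h0]
    exact Ideal.mem_map_of_mem _ hi
  set K := n.map (algebraMap A (B ⧸ P)) with hK
  let σ : B ⧸ I.map (algebraMap A B) →ₐ[A] (B ⧸ P) ⧸ K := Ideal.Quotient.liftₐ _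
    ((Ideal.Quotient.mkₐ A K).comp (Ideal.Quotient.mkₐ A P)) fun b hb => by
      have h := Ideal.mem_map_of_mem ((Ideal.Quotient.mkₐ A K).comp (Ideal.Quotient.mkₐ A P)).toRingHom hb
      rw [Ideal.map_map] at h
      have e : ((Ideal.Quotient.mkₐ A K).comp (Ideal.Quotient.mkₐ A P)).toRingHom.comp (algebraMap A B) =
          algebraMap A ((B ⧸ P) ⧸ K) :=
        ((Ideal.Quotient.mkₐ A K).comp (Ideal.Quotient.mkₐ A P)).comp_algebraMap
      rw [e, IsScalarTower.algebraMap_eq A (B ⧸ P) ((B ⧸ P) ⧸ K), ← Ideal.map_map] at h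
      have h2 := Ideal.map_mono (f := algebraMap (B ⧸ P) ((B ⧸ P) ⧸ K))
        (Ideal.map_mono (f := algebraMap A (B ⧸ P)) hIn) h
      rw [← hK, Ideal.Quotient.algebraMap_eq, Ideal.map_quotient_self] at h2
      exact (Submodule.mem_bot _).mp h2
  have hσ : Function.Surjective σ := fun y => by
    obtain ⟨y, rfl⟩ := Ideal.Quotient.mk_surjective y
    obtain ⟨y, rfl⟩ := Ideal.Quotient.mk_surjective y
    exact ⟨Ideal.Quotient.mk _ y, rfl⟩
  haveI : Algebra.FormallyUnramified A ((B ⧸ P) ⧸ K) := Algebra.FormallyUnramified.of_surjective σ hσ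
  haveI : Algebra.FiniteType A ((B ⧸ P) ⧸ K) := hft.of_surjective σ hσ
  haveI : Module.Finite A ((B ⧸ P) ⧸ K) := by
    letI := Ideal.Quotient.field n
    letI : Algebra (A ⧸ n) ((B ⧸ P) ⧸ K) := (Ideal.quotientMap K (algebraMap A (B ⧸ P)) Ideal.le_comap_map).toAlgebra
    haveI : IsScalarTower A (A ⧸ n) ((B ⧸ P) ⧸ K) := IsScalarTower.of_algebraMap_eq fun a => rfl
    haveI : Algebra.FormallyUnramified (A ⧸ n) ((B ⧸ P) ⧸ K) :=
      Algebra.FormallyUnramified.of_restrictScalars A _ _
    haveI : Algebra.EssFiniteType (A ⧸ n) ((B ⧸ P) ⧸ K) := Algebra.EssFiniteType.of_comp A _ _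
    haveI : Module.Finite (A ⧸ n) ((B ⧸ P) ⧸ K) := Algebra.FormallyUnramified.finite_of_free _ _
    exact Module.Finite.trans (A ⧸ n) _
  haveI : Module.Finite A (B ⧸ P) := finite_of_finite_residue (I := I) (m := K) hrad
  haveI : Algebra.EssFiniteType A (B ⧸ P) := inferInstance
  haveI : Algebra.FormallyUnramified A (B ⧸ P) :=
    subsingleton_kaehler_of_quotient n (hrad.trans fun x hx => Submodule.mem_sInf.mpr fun m hm =>
      (Ideal.IsPrime.radical_le_iff hm.2.isPrime).mpr
        ((IsAdicComplete.le_jacobson_bot _).trans (sInf_le hm)) hx)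
  have hPq : P ≤ q.asIdeal := Ideal.map_le_iff_le_comap.mpr le_rfl
  set qC := q.asIdeal.map (Ideal.Quotient.mk P)
  haveI : qC.IsPrime := Ideal.map_isPrime_of_surjective Ideal.Quotient.mk_surjective (by rwa [Ideal.mk_ker])
  have hqC : qC.comap (algebraMap A (B ⧸ P)) = p := Ideal.ext fun a => by
    rw [Ideal.mem_comap, IsScalarTower.algebraMap_apply A B (B ⧸ P)]
    exact Ideal.mem_quotient_iff_mem hPq
  let Cq := Localization.AtPrime qC
  haveI : p.IsPrime := (PrimeSpectrum.comap (algebraMap A B) q).isPrime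
  let Ap := Localization.AtPrime p
  let φ : Ap →+* Cq := Localization.localRingHom p qC (algebraMap A (B ⧸ P)) hqC.symm
  letI : Algebra Ap Cq := φ.toAlgebra
  haveI : IsScalarTower A Ap Cq := IsScalarTower.of_algebraMap_eq fun a => by
    change _ = φ (algebraMap A Ap a)
    rw [Localization.localRingHom_to_map, ← IsScalarTower.algebraMap_apply]
  haveI : IsLocalHom (algebraMap Ap Cq) := Localization.isLocalHom_localRingHom _ _ _ hqC.symm
  haveI : Algebra.FormallyUnramified (B ⧸ P) Cq := Algebra.FormallyUnramified.of_isLocalization qC.primeCompl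
  haveI : Algebra.FormallyUnramified A Cq := Algebra.FormallyUnramified.comp A (B ⧸ P) Cq
  haveI : Algebra.FormallyUnramified Ap Cq := Algebra.FormallyUnramified.of_restrictScalars A _ _
  haveI : Algebra.EssFiniteType (B ⧸ P) Cq := Algebra.EssFiniteType.of_isLocalization Cq qC.primeCompl
  haveI : Algebra.EssFiniteType A Cq := Algebra.EssFiniteType.comp A (B ⧸ P) Cq
  haveI : Algebra.EssFiniteType Ap Cq := Algebra.EssFiniteType.of_comp A Ap Cq
  have hbot : IsLocalRing.maximalIdeal Cq = ⊥ := by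
    rw [← Algebra.FormallyUnramified.map_maximalIdeal (R := Ap) (S := Cq),
      ← Localization.AtPrime.map_eq_maximalIdeal, Ideal.map_map, ← IsScalarTower.algebraMap_eq,
      Ideal.map_eq_bot_iff_le_ker]
    intro a ha
    rw [RingHom.mem_ker, IsScalarTower.algebraMap_apply A (B ⧸ P) Cq, hPC a ha, map_zero]
  intro x hx
  have h : algebraMap (B ⧸ P) Cq (Ideal.Quotient.mk P x) = 0 := by
    rw [← Submodule.mem_bot (R := Cq), ← hbot, IsLocalization.AtPrime.to_map_mem_maximal_iff Cq qC]
    exact Ideal.mem_map_of_mem _ hx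
  obtain ⟨⟨s, hs⟩, hsx⟩ := (IsLocalization.map_eq_zero_iff qC.primeCompl Cq _).mp h
  obtain ⟨s, rfl⟩ := Ideal.Quotient.mk_surjective s
  refine ⟨s, fun h' => hs (Ideal.mem_map_of_mem _ h'), ?_⟩
  rw [← map_mul] at hsx
  exact Ideal.Quotient.eq_zero_iff_mem.mp hsx

theorem map_comap_eq_maximal {A : Type u} [CommRing A] [IsNoetherianRing A] {I : Ideal A}
    [IsAdicComplete I A] {B : Type u} [CommRing B] [Algebra A B] [IsNoetherianRing B]
    [IsAdicComplete (I.map (algebraMap A B)) B]
    (hft : Algebra.FiniteType A (B ⧸ I.map (algebraMap A B)))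
    [Algebra.FormallyUnramified A (B ⧸ I.map (algebraMap A B))] (q : PrimeSpectrum B)
    (hp : IsRig I (PrimeSpectrum.comap (algebraMap A B) q)) :
    ((PrimeSpectrum.comap (algebraMap A B) q).asIdeal.map (algebraMap A B)).map
      (algebraMap B (Localization.AtPrime q.asIdeal)) =
      IsLocalRing.maximalIdeal (Localization.AtPrime q.asIdeal) := by
  rw [← Localization.AtPrime.map_eq_maximalIdeal]
  refine le_antisymm (Ideal.map_mono (Ideal.map_le_iff_le_comap.mpr le_rfl))
    (Ideal.map_le_iff_le_comap.mpr fun x hx => ?_)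
  obtain ⟨s, hs, hsx⟩ := exists_mul_mem_of_unramified hft q hp x hx
  have hu : IsUnit (algebraMap B (Localization.AtPrime q.asIdeal) s) :=
    IsLocalization.map_units _ (⟨s, hs⟩ : q.asIdeal.primeCompl)
  rw [Ideal.mem_comap, ← Ideal.unit_mul_mem_iff_mem _ hu, ← map_mul]
  exact Ideal.mem_map_of_mem _ hsx

end Groth.Agent.Frg27
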