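import Groth.Agent.Frg27.ComplPoints
import Groth.Agent.S5785
import Groth.Agent.S0568
import Groth.Prelude.Def_Found
import Mathlib.RingTheory.RegularLocalRing.Polynomial
import Mathlib.RingTheory.DedekindDomain.IntegralClosure
import Mathlib.RingTheory.Localization.BaseChange

/-!
Geometric regularity of the fibres of restricted power series over a one-dimensional complete domain.
-/

set_option autoImplicit false

universe u

open TensorProduct

namespace Groth.Agent.Frg27

theorem isRegularRing_of_isLocalization {R S : Type u} [CommRing R] [CommRing S] [Algebra R S]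
    [IsRegularRing R] (M : Submonoid R) [IsLocalization M S] : IsRegularRing S := by
  haveI : IsNoetherianRing S := IsLocalization.isNoetherianRing M S inferInstance
  rw [isRegularRing_iff]
  intro P _
  haveI := IsLocalization.isLocalization_isLocalization_atPrime_isLocalization M
    (Localization.AtPrime P) P
  exact IsRegularLocalRing.of_ringEquiv (IsLocalization.algEquiv (P.comap (algebraMap R S)).primeCompl
    (Localization.AtPrime (P.comap (algebraMap R S))) (Localization.AtPrime P)).toRingEquiv

/-- A regular finite algebra stays regular after base change to restricted power series. -/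
theorem isRegularRing_finite_tensor_compl {D G : Type u} [CommRing D] [IsNoetherianRing D] (J : Ideal D)
    [CommRing G] [Algebra D G] [Module.Finite D G] [IsRegularRing G] (σ : Type) [Finite σ] :
    IsRegularRing (G ⊗[D] Compl J (MvPolynomial σ D)) := by
  let P := MvPolynomial σ D
  let E := Compl J P
  let W := G ⊗[D] E
  let V := Compl J (MvPolynomial σ G)
  haveI : IsNoetherianRing (MvPolynomial σ G) := inferInstance
  haveI hV : IsRegularRing V := S5785.result (MvPolynomial σ G) _
  haveI : IsNoetherianRing E := CAlg1.isNoetherianRing_adicCompletion _ (IsNoetherian.noetherian _)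
  haveI := isAdicComplete_compl (C := P) (IsNoetherian.noetherian J)
  haveI := isAdicComplete_compl (C := MvPolynomial σ G) (IsNoetherian.noetherian J)
  haveI : IsAdicComplete (J.map (algebraMap D W)) W := by
    letI : Algebra E W := Algebra.TensorProduct.rightAlgebra
    haveI : IsScalarTower D E W := .of_algebraMap_eq fun a =>
      ((Algebra.TensorProduct.includeRight : E →ₐ[D] W).commutes a).symm
    haveI : Module.Finite E W :=
      Module.Finite.equiv (Algebra.TensorProduct.commRight D E G).toLinearEquiv
    haveI := AdicC27.isAdicComplete_of_finite (I := J.map (algebraMap D E)) W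
    rw [← map_eq_of_tower (J := J) (R := D) (S := E) (T := W)]
    exact (IsAdicComplete.map_algebraMap_iff _ _).mpr inferInstance
  let α : W →ₐ[D] V := Algebra.TensorProduct.lift (IsScalarTower.toAlgHom D G V)
    (complLift (MvPolynomial.aeval fun i => algebraMap (MvPolynomial σ G) V (MvPolynomial.X i)))
    (fun _ _ => Commute.all _ _)
  let g : MvPolynomial σ G →ₐ[D] W := (MvPolynomial.aeval (R := G)
    fun i => (Algebra.TensorProduct.includeRight : E →ₐ[D] W) (algebraMap P E (MvPolynomial.X i))).restrictScalars D
  let β : V →ₐ[D] W := complLift g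
  have hαβ : α.comp β = AlgHom.id D V := by
    refine compl_hom_ext (IsNoetherian.noetherian J) fun p => ?_
    change α (complLift g _) = algebraMap _ _ p
    rw [complLift_algebraMap]
    induction p using MvPolynomial.induction_on with
    | C a =>
      change α (MvPolynomial.aeval _ (MvPolynomial.C a)) = _
      rw [MvPolynomial.aeval_C]
      change α (a ⊗ₜ[D] (1 : E)) = _
      rw [Algebra.TensorProduct.lift_tmul, map_one, mul_one]
      exact IsScalarTower.algebraMap_apply G (MvPolynomial σ G) V a
    | add p q hp hq => rw [map_add, map_add, hp, hq, map_add]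
    | mul_X p i hp =>
      rw [map_mul, map_mul, hp, map_mul]
      congr 1
      change α (MvPolynomial.aeval _ (MvPolynomial.X i)) = _
      rw [MvPolynomial.aeval_X, Algebra.TensorProduct.includeRight_apply, Algebra.TensorProduct.lift_tmul,
        map_one, one_mul, complLift_algebraMap, MvPolynomial.aeval_X]
  have hβα : β.comp α = AlgHom.id D W := by
    refine Algebra.TensorProduct.ext ?_ ?_
    · refine AlgHom.ext fun a => ?_
      change β (α (a ⊗ₜ[D] (1 : E))) = a ⊗ₜ[D] (1 : E)
      rw [Algebra.TensorProduct.lift_tmul, map_one, mul_one]
      change β (algebraMap G V a) = _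
      rw [IsScalarTower.algebraMap_apply G (MvPolynomial σ G) V, complLift_algebraMap]
      change MvPolynomial.aeval _ (MvPolynomial.C a) = _
      rw [MvPolynomial.aeval_C]
      rfl
    · refine compl_hom_ext (IsNoetherian.noetherian J) fun p => ?_
      refine AlgHom.congr_fun (MvPolynomial.algHom_ext (R := D)
        (f := ((β.comp α).comp (Algebra.TensorProduct.includeRight : E →ₐ[D] W)).comp (IsScalarTower.toAlgHom D P E))
        (g := (Algebra.TensorProduct.includeRight : E →ₐ[D] W).comp (IsScalarTower.toAlgHom D P E)) fun i => ?_) p
      change β (α ((1 : G) ⊗ₜ[D] algebraMap P E (MvPolynomial.X i))) = _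
      rw [Algebra.TensorProduct.lift_tmul, map_one, one_mul, complLift_algebraMap, MvPolynomial.aeval_X,
        complLift_algebraMap]
      change MvPolynomial.aeval _ (MvPolynomial.X i) = _
      rw [MvPolynomial.aeval_X]
      rfl
  exact IsRegularRing.of_ringEquiv (AlgEquiv.ofAlgHom β α hβα hαβ).toRingEquiv

theorem isRegularRing_localization_tensor {D G : Type u} [CommRing D] [CommRing G] [Algebra D G]
    (M : Submonoid G) (L E : Type u) [CommRing L] [Algebra D L] [Algebra G L] [IsScalarTower D G L]
    [IsLocalization M L] [CommRing E] [Algebra D E] [IsRegularRing (G ⊗[D] E)] :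
    IsRegularRing (L ⊗[D] E) := by
  let φ : G ⊗[D] E →ₐ[D] L ⊗[D] E :=
    Algebra.TensorProduct.map (IsScalarTower.toAlgHom D G L) (AlgHom.id D E)
  letI : Algebra (G ⊗[D] E) (L ⊗[D] E) := φ.toRingHom.toAlgebra
  haveI : IsScalarTower G (G ⊗[D] E) (L ⊗[D] E) := .of_algebraMap_eq fun a => by
    change algebraMap G L a ⊗ₜ[D] (1 : E) = φ (a ⊗ₜ[D] (1 : E))
    rw [Algebra.TensorProduct.map_tmul, map_one]
    rfl
  haveI := IsLocalization.tensorProduct_tensorProduct D E M L
    (RingHom.ext fun e => (Algebra.TensorProduct.map_tmul _ _ (1 : G) e).trans (by rw [map_one]; rfl))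
  exact isRegularRing_of_isLocalization (Algebra.algebraMapSubmonoid (G ⊗[D] E) M)

/-- Every finite extension of the fraction field of a one-dimensional Nagata domain has a regular
finite model. -/
theorem isRegularRing_finite_field_tensor {D : Type u} [CommRing D] [IsNoetherianRing D] [IsDomain D]
    [Ring.KrullDimLE 1 D] (hN2 : CAlg.IsN2 D) (J : Ideal D) (σ : Type) [Finite σ]
    (L : Type u) [Field L] [Algebra D L] [Algebra (FractionRing D) L] [IsScalarTower D (FractionRing D) L]
    [FiniteDimensional (FractionRing D) L] : IsRegularRing (L ⊗[D] Compl J (MvPolynomial σ D)) := by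
  let G := integralClosure D L
  haveI : Module.Finite D G := hN2 L inferInstance
  haveI : IsNoetherianRing G := IsNoetherianRing.of_finite D G
  haveI : Algebra.IsAlgebraic D L :=
    (IsFractionRing.comap_isAlgebraic_iff (K := FractionRing D)).mpr inferInstance
  haveI : IsFractionRing G L := IsIntegralClosure.isFractionRing_of_finite_extension D (FractionRing D) L G
  haveI : IsDedekindDomain G := by
    haveI : Ring.DimensionLEOne D := ⟨fun hp hp' => hp'.isMaximal_of_ne_bot hp⟩
    haveI : Ring.DimensionLEOne G := inferInstance
    haveI : IsIntegrallyClosed G := (isIntegrallyClosed_iff L).mpr fun {x} hx =>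
      ⟨⟨x, isIntegral_trans (R := D) x hx⟩, rfl⟩
    exact { }
  haveI : IsLocalization (Algebra.algebraMapSubmonoid G (nonZeroDivisors D)) L :=
    IsIntegralClosure.isLocalization D (FractionRing D) L G
  let E := Compl J (MvPolynomial σ D)
  haveI : IsRegularRing (G ⊗[D] E) := isRegularRing_finite_tensor_compl J σ
  exact isRegularRing_localization_tensor (Algebra.algebraMapSubmonoid G (nonZeroDivisors D)) L E

/-- The regular homomorphism to the restricted power series. -/
theorem isRegularHom_compl_mvPolynomial {D : Type u} [CommRing D] [IsNoetherianRing D] [IsDomain D]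
    [Ring.KrullDimLE 1 D] (hN2 : CAlg.IsN2 D) (J : Ideal D) (σ : Type) [Finite σ] :
    CAlg.IsRegularHom D (Compl J (MvPolynomial σ D)) := by
  let E := Compl J (MvPolynomial σ D)
  haveI : Module.Flat D E := Module.Flat.trans D (MvPolynomial σ D) E
  refine ⟨inferInstance, fun p hp => ?_⟩
  have key : ∀ (k' : Type u) [Field k'] [Algebra p.ResidueField k'], Module.Finite p.ResidueField k' →
      IsRegularRing (k' ⊗[p.ResidueField] p.Fiber E) := by
    intro k' _ _ hk
    letI : Algebra D k' := ((algebraMap p.ResidueField k').comp (algebraMap D p.ResidueField)).toAlgebra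
    haveI : IsScalarTower D p.ResidueField k' := .of_algebraMap_eq fun _ => rfl
    suffices IsRegularRing (k' ⊗[D] E) from
      IsRegularRing.of_ringEquiv (Algebra.TensorProduct.cancelBaseChange D p.ResidueField k' k' E).symm.toRingEquiv
    by_cases hp0 : p = ⊥
    · have hinj : Function.Injective (algebraMap D p.ResidueField) := by
        rw [RingHom.injective_iff_ker_eq_bot, Ideal.ker_algebraMap_residueField, hp0]
      let F := FractionRing D
      letI : Algebra F p.ResidueField := (IsFractionRing.lift (A := D) (K := F) hinj).toAlgebra
      haveI : IsScalarTower D F p.ResidueField := .of_algebraMap_eq fun a =>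
        (IsFractionRing.lift_algebraMap hinj a).symm
      have hsurj : Function.Surjective (algebraMap F p.ResidueField) := fun x => by
        obtain ⟨x, rfl⟩ := Ideal.Quotient.mk_surjective x
        obtain ⟨a, s, rfl⟩ := IsLocalization.exists_mk'_eq p.primeCompl x
        have hs : algebraMap D p.ResidueField s ≠ 0 := fun h => by
          rw [← RingHom.mem_ker, Ideal.ker_algebraMap_residueField] at h
          exact s.2 h
        refine ⟨algebraMap D F a / algebraMap D F s, ?_⟩
        rw [map_div₀, ← IsScalarTower.algebraMap_apply, ← IsScalarTower.algebraMap_apply, div_eq_iff hs]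
        change IsLocalRing.residue _ (algebraMap D _ a) = IsLocalRing.residue _ _ * IsLocalRing.residue _ (algebraMap D _ (s : D))
        rw [← map_mul, IsLocalization.mk'_spec]
      haveI : Module.Finite F p.ResidueField :=
        Module.Finite.of_surjective (Algebra.linearMap F p.ResidueField) hsurj
      letI : Algebra F k' := ((algebraMap p.ResidueField k').comp (algebraMap F p.ResidueField)).toAlgebra
      haveI : IsScalarTower F p.ResidueField k' := .of_algebraMap_eq fun _ => rfl
      haveI : IsScalarTower D F k' := .of_algebraMap_eq fun a =>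
        congrArg (algebraMap p.ResidueField k') (IsScalarTower.algebraMap_apply D F p.ResidueField a)
      haveI : FiniteDimensional F k' := Module.Finite.trans p.ResidueField k'
      exact isRegularRing_finite_field_tensor hN2 J σ k'
    · haveI : p.IsMaximal := hp.isMaximal_of_ne_bot hp0
      haveI : Module.Finite D p.ResidueField :=
        Module.Finite.of_surjective (Algebra.linearMap D p.ResidueField) p.algebraMap_residueField_surjective
      haveI : Module.Finite D k' := Module.Finite.trans p.ResidueField k'
      exact isRegularRing_finite_tensor_compl J σ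
  refine ⟨?_, fun k' _ _ hk => key k' hk⟩
  haveI : IsNoetherianRing (p.ResidueField ⊗[p.ResidueField] p.Fiber E) :=
    (key p.ResidueField inferInstance).toIsNoetherian
  exact isNoetherianRing_of_ringEquiv (p.ResidueField ⊗[p.ResidueField] p.Fiber E)
    (Algebra.TensorProduct.lid p.ResidueField (p.Fiber E)).toRingEquiv

end Groth.Agent.Frg27
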