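import Groth.Agent.Frg27.CL
import Groth.Agent.FlatMor66.FlatDescentSource

/-!
Rig-flatness: interface and basic lemmas.
-/

set_option autoImplicit false

universe u

namespace Groth.Agent.Frg27

variable {R : Type u} [CommRing R] [IsNoetherianRing R] {J : Ideal R}

theorem map_map_cl {S : Type u} [CommRing S] [Algebra R S] (g : S) :
    ((J.map (algebraMap R S)).map (algebraMap S (Localization.Away g))).map
      (algebraMap (Localization.Away g) (CL (J.map (algebraMap R S)) g)) =
      J.map (algebraMap R (CL (J.map (algebraMap R S)) g)) :=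
  ((Ideal.map_map _ _).trans (congrArg (fun φ => Ideal.map φ (J.map (algebraMap R S)))
    (IsScalarTower.algebraMap_eq S (Localization.Away g) (CL (J.map (algebraMap R S)) g)).symm)).trans
    ((Ideal.map_map _ _).trans (congrArg (fun φ => Ideal.map φ J)
      (IsScalarTower.algebraMap_eq R S (CL (J.map (algebraMap R S)) g)).symm))

variable (J) in
/-- Flatness at the rig-closed points of all completed localizations. -/
def RigFlat (S : Type u) [CommRing S] [Algebra R S] : Prop :=
  ∀ f : R, ∀ ψ : CL J f →+* CL (J.map (algebraMap R S)) (algebraMap R S f),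
    ψ.comp (algebraMap (Localization.Away f) (CL J f)) =
      (algebraMap (Localization.Away (algebraMap R S f)) (CL (J.map (algebraMap R S)) (algebraMap R S f))).comp
        (Localization.awayMap (algebraMap R S) f) →
    ∀ q : PrimeSpectrum (CL (J.map (algebraMap R S)) (algebraMap R S f)),
      IsRig (((J.map (algebraMap R S)).map (algebraMap S (Localization.Away (algebraMap R S f)))).map
        (algebraMap (Localization.Away (algebraMap R S f)) (CL (J.map (algebraMap R S)) (algebraMap R S f)))) q →
      ((algebraMap (CL (J.map (algebraMap R S)) (algebraMap R S f)) (Localization.AtPrime q.asIdeal)).comp ψ).Flat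

variable {S : Type u} [CommRing S] [Algebra R S]

omit [IsNoetherianRing R] in
theorem awayMap_algebraMap (f a : R) :
    Localization.awayMap (algebraMap R S) f (algebraMap R (Localization.Away f) a) =
      algebraMap S (Localization.Away (algebraMap R S f)) (algebraMap R S a) :=
  IsLocalization.map_eq _ _

omit [IsNoetherianRing R] in
/-- A compatible ring map is an algebra map. -/
def toAlgHomOfCompat {f : R} (ψ : CL J f →+* CL (J.map (algebraMap R S)) (algebraMap R S f))
    (h : ψ.comp (algebraMap (Localization.Away f) (CL J f)) =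
      (algebraMap (Localization.Away (algebraMap R S f)) (CL (J.map (algebraMap R S)) (algebraMap R S f))).comp
        (Localization.awayMap (algebraMap R S) f)) :
    CL J f →ₐ[R] CL (J.map (algebraMap R S)) (algebraMap R S f) :=
  { ψ with
    commutes' := fun a => by
      have h1 := RingHom.congr_fun h (algebraMap R (Localization.Away f) a)
      rw [RingHom.comp_apply, RingHom.comp_apply, awayMap_algebraMap] at h1
      refine Eq.trans ?_ (h1.trans ?_)
      · exact congrArg ψ (IsScalarTower.algebraMap_apply R (Localization.Away f) (CL J f) a)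
      · exact ((IsScalarTower.algebraMap_apply R S _ a).trans
          (IsScalarTower.algebraMap_apply S (Localization.Away (algebraMap R S f)) _ _)).symm }

omit [IsNoetherianRing R] in
theorem compat_of_algHom {f : R} (ψ : CL J f →ₐ[R] CL (J.map (algebraMap R S)) (algebraMap R S f)) :
    ψ.toRingHom.comp (algebraMap (Localization.Away f) (CL J f)) =
      (algebraMap (Localization.Away (algebraMap R S f)) (CL (J.map (algebraMap R S)) (algebraMap R S f))).comp
        (Localization.awayMap (algebraMap R S) f) := by
  refine IsLocalization.ringHom_ext (Submonoid.powers f) (RingHom.ext fun a => ?_)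
  simp only [RingHom.comp_apply]
  rw [awayMap_algebraMap, ← IsScalarTower.algebraMap_apply R (Localization.Away f) (CL J f)]
  exact (ψ.commutes a).trans ((IsScalarTower.algebraMap_apply R S _ a).trans
    (IsScalarTower.algebraMap_apply S (Localization.Away (algebraMap R S f)) _ _))

theorem rigFlat_apply (h : RigFlat J S) {f : R}
    (ψ : CL J f →ₐ[R] CL (J.map (algebraMap R S)) (algebraMap R S f))
    {q : PrimeSpectrum (CL (J.map (algebraMap R S)) (algebraMap R S f))}
    (hq : IsRig (J.map (algebraMap R (CL (J.map (algebraMap R S)) (algebraMap R S f)))) q) :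
    ((algebraMap _ (Localization.AtPrime q.asIdeal)).comp ψ.toRingHom).Flat :=
  h f ψ.toRingHom (compat_of_algHom ψ) q (by rw [map_map_cl]; exact hq)

theorem rigFlat_intro
    (h : ∀ (f : R) (ψ : CL J f →ₐ[R] CL (J.map (algebraMap R S)) (algebraMap R S f))
      (q : PrimeSpectrum (CL (J.map (algebraMap R S)) (algebraMap R S f))),
      IsRig (J.map (algebraMap R (CL (J.map (algebraMap R S)) (algebraMap R S f)))) q →
      ((algebraMap _ (Localization.AtPrime q.asIdeal)).comp ψ.toRingHom).Flat) :
    RigFlat J S := fun f ψ hψ q hq =>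
  h f (toAlgHomOfCompat ψ hψ) q (by rw [← map_map_cl]; exact hq)

section Points

variable {E : Type u} [CommRing E] [Algebra R E] [IsNoetherianRing E]
  [IsAdicComplete (J.map (algebraMap R E)) E]

theorem exists_good (hft : Algebra.FiniteType R (E ⧸ J.map (algebraMap R E)))
    {q : PrimeSpectrum E} (hq : IsRig (J.map (algebraMap R E)) q) :
    ∃ f : R, IsUnit (algebraMap R (E ⧸ q.asIdeal) f) ∧
      ∀ (A' : Type u) [CommRing A'] [Algebra R A'] [IsNoetherianRing A']
        [IsAdicComplete (J.map (algebraMap R A')) A'] (χ : A' →ₐ[R] E ⧸ q.asIdeal),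
        IsUnit (algebraMap R A' f) → χ.toRingHom.Finite := by
  obtain ⟨hloc, hmax, -⟩ := hq.local_data
  haveI := hloc
  haveI hc : IsAdicComplete (J.map (algebraMap R (E ⧸ q.asIdeal))) (E ⧸ q.asIdeal) := complete_quotient q.asIdeal
  set m := IsLocalRing.maximalIdeal (E ⧸ q.asIdeal)
  letI := Ideal.Quotient.field m
  haveI : Algebra.FiniteType R ((E ⧸ q.asIdeal) ⧸ m) := by
    refine hft.of_surjective (Ideal.Quotient.liftₐ _
      ((Ideal.Quotient.mkₐ R m).comp (Ideal.Quotient.mkₐ R q.asIdeal)) fun a ha => ?_) ?_
    · have hle : J.map (algebraMap R (E ⧸ q.asIdeal)) ≤ m := (IsAdicComplete.le_jacobson_bot _).trans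
        (sInf_le ⟨bot_le, inferInstance⟩)
      refine Ideal.Quotient.eq_zero_iff_mem.mpr (hle ?_)
      rw [IsScalarTower.algebraMap_eq R E (E ⧸ q.asIdeal), ← Ideal.map_map]
      exact Ideal.mem_map_of_mem _ ha
    · intro y
      obtain ⟨y, rfl⟩ := Ideal.Quotient.mk_surjective y
      obtain ⟨y, rfl⟩ := Ideal.Quotient.mk_surjective y
      exact ⟨Ideal.Quotient.mk _ y, rfl⟩
  obtain ⟨f, hf0, hf⟩ := exists_away_finite (A := R) (K := (E ⧸ q.asIdeal) ⧸ m)
  refine ⟨f, IsLocalRing.notMem_maximalIdeal.mp fun hmem => hf0 (Ideal.Quotient.eq_zero_iff_mem.mpr hmem), ?_⟩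
  intro A' _ _ _ _ χ hu
  letI : Algebra A' (E ⧸ q.asIdeal) := χ.toRingHom.toAlgebra
  haveI : IsScalarTower R A' (E ⧸ q.asIdeal) := IsScalarTower.of_algebraMap_eq fun a => (χ.commutes a).symm
  haveI : Module.Finite A' ((E ⧸ q.asIdeal) ⧸ m) := hf A' hu
  have he : (J.map (algebraMap R A')).map (algebraMap A' (E ⧸ q.asIdeal)) =
      J.map (algebraMap R (E ⧸ q.asIdeal)) :=
    (Ideal.map_map _ _).trans (congrArg (fun φ => Ideal.map φ J) (IsScalarTower.algebraMap_eq R A' _).symm)
  haveI : IsAdicComplete ((J.map (algebraMap R A')).map (algebraMap A' (E ⧸ q.asIdeal))) (E ⧸ q.asIdeal) := by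
    rw [he]; exact hc
  have hle : m ≤ ((J.map (algebraMap R A')).map (algebraMap A' (E ⧸ q.asIdeal))).radical := by
    rw [he, IsScalarTower.algebraMap_eq R E (E ⧸ q.asIdeal), ← Ideal.map_map]
    exact (hmax m inferInstance).le
  exact finite_of_finite_residue (I := J.map (algebraMap R A')) hle

theorem isRig_comap {q : PrimeSpectrum E} (hq : IsRig (J.map (algebraMap R E)) q)
    {A' : Type u} [CommRing A'] [Algebra R A'] [IsNoetherianRing A']
    [IsAdicComplete (J.map (algebraMap R A')) A'] (Φ : A' →ₐ[R] E)
    (h : ((Ideal.Quotient.mk q.asIdeal).comp Φ.toRingHom).Finite) :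
    IsRig (J.map (algebraMap R A')) (PrimeSpectrum.comap Φ.toRingHom q) := by
  letI : Algebra A' E := Φ.toRingHom.toAlgebra
  have he : (J.map (algebraMap R A')).map (algebraMap A' E) = J.map (algebraMap R E) :=
    (Ideal.map_map _ _).trans (congrArg (fun φ => Ideal.map φ J) Φ.comp_algebraMap)
  haveI : IsAdicComplete ((J.map (algebraMap R A')).map (algebraMap A' E)) E := by
    rw [he]; infer_instance
  haveI : Module.Finite A' (E ⧸ q.asIdeal) := RingHom.finite_algebraMap.mp h
  exact isRig_comap_of_finite (I := J.map (algebraMap R A')) (q := q) (by rw [he]; exact hq)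

end Points

/-- Maps out of a completed localization to flat complete algebras are flat. -/
theorem flat_cl_algHom {g : R} {E' : Type u} [CommRing E'] [Algebra R E'] [IsNoetherianRing E']
    [IsAdicComplete (J.map (algebraMap R E')) E'] [Module.Flat R E'] (Φ : CL J g →ₐ[R] E') :
    Φ.toRingHom.Flat := by
  letI : Algebra (CL J g) E' := Φ.toRingHom.toAlgebra
  letI : Algebra (Localization.Away g) E' :=
    (Φ.toRingHom.comp (algebraMap (Localization.Away g) (CL J g))).toAlgebra
  haveI : IsScalarTower (Localization.Away g) (CL J g) E' := IsScalarTower.of_algebraMap_eq fun _ => rfl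
  haveI : IsScalarTower R (Localization.Away g) E' := IsScalarTower.of_algebraMap_eq fun a =>
    ((congrArg Φ (IsScalarTower.algebraMap_apply R (Localization.Away g) (CL J g) a).symm).trans
      (Φ.commutes a)).symm
  haveI : Module.Flat (Localization.Away g) E' :=
    (Module.flat_iff_of_isLocalization (Localization.Away g) (Submonoid.powers g) E').mpr inferInstance
  haveI := cl_noetherian J g
  refine flat_of_flat_base_of_surjective (R := Localization.Away g) (J.map (algebraMap R _)) E' ?_ ?_
  · rw [Ideal.map_map, ← IsScalarTower.algebraMap_eq]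
    exact IsAdicComplete.le_jacobson_bot _
  · intro y
    obtain ⟨y, rfl⟩ := Ideal.Quotient.mk_surjective y
    obtain ⟨c, hc⟩ := exists_sub_mem_compl (IsNoetherian.noetherian J) y 1
    refine ⟨c, (Ideal.Quotient.eq.mpr ?_).symm⟩
    rw [pow_one, IsScalarTower.algebraMap_eq R (Localization.Away g) (CL J g), ← Ideal.map_map] at hc
    exact hc

section Local

variable {A₀ E E' : Type u} [CommRing A₀] [CommRing E] [CommRing E']

omit [IsNoetherianRing R] in
theorem flat_at_descend {Φ : E →+* E'} (hΦ : Φ.Flat) {φ : A₀ →+* E} {q : PrimeSpectrum E}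
    {q' : PrimeSpectrum E'} (hq : PrimeSpectrum.comap Φ q' = q)
    (h : ((algebraMap E' (Localization.AtPrime q'.asIdeal)).comp (Φ.comp φ)).Flat) :
    ((algebraMap E (Localization.AtPrime q.asIdeal)).comp φ).Flat := by
  subst hq
  refine FlatMor66.flat_of_comp_localHom _
    (Localization.localRingHom (PrimeSpectrum.comap Φ q').asIdeal q'.asIdeal Φ rfl)
    (hΦ.localRingHom q'.asIdeal _ rfl) ?_
  rw [← RingHom.comp_assoc]
  convert h using 1
  rw [← RingHom.comp_assoc]
  congr 1
  exact RingHom.ext fun x => Localization.localRingHom_to_map _ _ _ rfl x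

omit [IsNoetherianRing R] in
theorem flat_at_comp {φ : A₀ →+* E} {Φ : E →+* E'} {q : PrimeSpectrum E} {q' : PrimeSpectrum E'}
    (hq : PrimeSpectrum.comap Φ q' = q)
    (h1 : ((algebraMap E (Localization.AtPrime q.asIdeal)).comp φ).Flat)
    (h2 : ((algebraMap E' (Localization.AtPrime q'.asIdeal)).comp Φ).Flat) :
    ((algebraMap E' (Localization.AtPrime q'.asIdeal)).comp (Φ.comp φ)).Flat := by
  subst hq
  set L := Localization.localRingHom (PrimeSpectrum.comap Φ q').asIdeal q'.asIdeal Φ rfl
  have hL : L.comp (algebraMap E _) = (algebraMap E' (Localization.AtPrime q'.asIdeal)).comp Φ :=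
    RingHom.ext fun x => Localization.localRingHom_to_map _ _ _ rfl x
  have hflat : L.Flat := by
    letI : Algebra E (Localization.AtPrime q'.asIdeal) :=
      ((algebraMap E' (Localization.AtPrime q'.asIdeal)).comp Φ).toAlgebra
    letI := L.toAlgebra
    haveI : IsScalarTower E (Localization.AtPrime (PrimeSpectrum.comap Φ q').asIdeal)
        (Localization.AtPrime q'.asIdeal) :=
      IsScalarTower.of_algebraMap_eq fun x => (RingHom.congr_fun hL x).symm
    exact (Module.flat_iff_of_isLocalization _ (PrimeSpectrum.comap Φ q').asIdeal.primeCompl _).mpr h2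
  rw [← RingHom.comp_assoc, ← hL, RingHom.comp_assoc]
  exact h1.comp hflat

end Local

end Groth.Agent.Frg27
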