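import Groth.Agent.Frg27.ValClosure
import Mathlib.RingTheory.Nakayama
import Mathlib.RingTheory.Localization.BaseChange

/-!
Auxiliary facts on algebras of rig-points and on generic fibres.
-/

set_option autoImplicit false
set_option linter.style.haveILetI false
set_option linter.unusedSectionVars false

namespace Groth.Agent.Frg27

universe u v

variable {R : Type u} [CommRing R]

/-- In an algebra, the inverse of an integral unit is a polynomial in it. -/
theorem inv_mem_adjoin {B : Type v} [CommRing B] [Algebra R B] (x : Bˣ)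
    (h : IsIntegral R (↑x⁻¹ : B)) : (↑x⁻¹ : B) ∈ Algebra.adjoin R {(x : B)} := by
  nontriviality B
  obtain ⟨q, hq, hqx⟩ := h
  set S := Algebra.adjoin R {(x : B)}
  have hxS : (x : B) ∈ S := Algebra.self_mem_adjoin_singleton R _
  have hd : 0 < q.natDegree := Nat.pos_of_ne_zero fun h0 => one_ne_zero (α := B) <| by
    rw [Polynomial.eq_one_of_monic_natDegree_zero hq h0, Polynomial.eval₂_one] at hqx
    exact hqx
  rw [Polynomial.eval₂_eq_sum_range, Finset.sum_range_succ, hq.coeff_natDegree, map_one, one_mul] at hqx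
  obtain ⟨d, hd'⟩ : ∃ d, q.natDegree = d + 1 := ⟨q.natDegree - 1, by omega⟩
  rw [hd'] at hqx
  have h1 : (↑x⁻¹ : B) = -((x : B) ^ d *
      ∑ i ∈ Finset.range (d + 1), algebraMap R B (q.coeff i) * (↑x⁻¹ : B) ^ i) := by
    rw [eq_neg_of_add_eq_zero_left hqx, mul_neg, neg_neg, pow_succ, ← mul_assoc, ← mul_pow,
      Units.mul_inv, one_pow, one_mul]
  rw [h1, Finset.mul_sum]
  refine neg_mem (sum_mem fun i hi => ?_)
  have hi' : i ≤ d := Nat.lt_succ_iff.mp (Finset.mem_range.mp hi)
  have h2 : (x : B) ^ d * (algebraMap R B (q.coeff i) * (↑x⁻¹ : B) ^ i) =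
      algebraMap R B (q.coeff i) * (x : B) ^ (d - i) := by
    rw [mul_left_comm]
    congr 1
    conv_lhs => rw [← Nat.sub_add_cancel hi', pow_add, mul_assoc, ← mul_pow, Units.mul_inv, one_pow,
      mul_one]
  rw [h2]
  exact mul_mem (S.algebraMap_mem _) (pow_mem hxS _)

variable [IsDomain R] [ValuationRing R] [Ring.KrullDimLE 1 R]
variable {t : R} [IsAdicComplete (Ideal.span {t}) R]

theorem algebraMap_ne_zero_of_noPowTorsion {B : Type v} [CommRing B] [Nontrivial B] [Algebra R B]
    (h : AdicRing.NoPowTorsion (Ideal.span {t}) B) : algebraMap R B t ≠ 0 := fun h0 =>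
  one_ne_zero (α := B) (noPowTorsion_iff_span.mp h 1 (by rw [Algebra.smul_def, h0, zero_mul]))

theorem krullDimLE_one_of_eq {B : Type v} [CommRing B] (h : ringKrullDim B = 1) :
    Ring.KrullDimLE 1 B :=
  Ring.krullDimLE_iff.mpr h.le

theorem isDomain_dvd_pow_of_finite (ht : t ≠ 0) {B : Type u} [CommRing B] [IsDomain B] [Algebra R B]
    [Module.Finite R B] {b : B} (hb : b ≠ 0) : ∃ N, b ∣ algebraMap R B t ^ N := by
  have hne : (Ideal.span {b}).comap (algebraMap R B) ≠ ⊥ := fun h =>
    hb (Ideal.span_singleton_eq_bot.mp (Ideal.eq_bot_of_comap_eq_bot h))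
  obtain ⟨a, ha, ha0⟩ := Submodule.exists_mem_ne_zero_of_ne_bot hne
  obtain ⟨N, hN⟩ := exists_dvd_pow_of_ne_zero ht ha0 (mem_maximalIdeal ht)
  refine ⟨N, (Ideal.mem_span_singleton.mp (Ideal.mem_comap.mp ha)).trans ?_⟩
  rw [← map_pow]
  exact (algebraMap R B).map_dvd hN

/-- Quotients of algebras topologically of finite type. -/
theorem tft_of_surjective {I : Ideal R} {A : Type u} [CommRing A] [Algebra R A]
    (hA : AdicRing.TopFiniteType R I A) {A' : Type u} [CommRing A'] [Algebra R A']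
    (f : A →ₐ[R] A') (hf : Function.Surjective f) : AdicRing.TopFiniteType R I A' := by
  obtain ⟨n, φ, hφ⟩ := hA
  exact ⟨n, f.comp φ, hf.comp hφ⟩

theorem tft_of_admissible {I : Ideal R} {A : Type u} [CommRing A] [Algebra R A]
    (hA : AdicRing.Admissible R I A) : AdicRing.TopFiniteType R I A := by
  obtain ⟨n, φ, hφ, -⟩ := hA.1
  exact ⟨n, φ, hφ⟩

theorem mem_jacobson_self (ht : t ≠ 0) : (Ideal.span {t}) ≤ (⊥ : Ideal R).jacobson := by
  rw [IsLocalRing.jacobson_eq_maximalIdeal ⊥ bot_ne_top, Ideal.span_singleton_le_iff_mem]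
  exact mem_maximalIdeal ht

/-- The submonoid defining the generic fibre. -/
abbrev genM (R : Type u) [CommRing R] (A : Type u) [CommRing A] [Algebra R A] : Submonoid A :=
  Algebra.algebraMapSubmonoid A (nonZeroDivisors R)

theorem disjoint_genM (ht : t ≠ 0) {A : Type u} [CommRing A] [Algebra R A] {p : Ideal A} [p.IsPrime]
    (htp : algebraMap R A t ∉ p) : Disjoint (genM R A : Set A) (p : Set A) := by
  rw [Set.disjoint_left]
  rintro - ⟨a, ha, rfl⟩ hap
  obtain ⟨N, hN⟩ := exists_dvd_pow_of_ne_zero ht (mem_nonZeroDivisors_iff_ne_zero.mp ha)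
    (mem_maximalIdeal ht)
  refine htp (Ideal.IsPrime.mem_of_pow_mem inferInstance N ?_)
  rw [← map_pow]
  exact Ideal.mem_of_dvd _ ((algebraMap R A).map_dvd hN) hap

end Groth.Agent.Frg27
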