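import Groth.Agent.Frg27.Lift
import Groth.Agent.Frg27.Trunc
import Mathlib.RingTheory.NoetherNormalization
import Mathlib.RingTheory.Ideal.GoingUp
import Mathlib.RingTheory.Polynomial.ScaleRoots
import Mathlib.RingTheory.Henselian
import Mathlib.RingTheory.IntegralClosure.IsIntegralClosure.Basic
import Mathlib.RingTheory.Localization.Integral
import Mathlib.RingTheory.KrullDimension.PID

/-!
Noether normalisation for domains topologically of finite type over a complete valuation ring of
rank one, and the algebras of rig-points.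
-/

set_option autoImplicit false
set_option linter.style.haveILetI false
set_option linter.unusedSectionVars false

namespace Groth.Agent.Frg27

universe u v

variable {R : Type u} [CommRing R] [IsDomain R] [ValuationRing R] [Ring.KrullDimLE 1 R]
variable {t : R} [IsAdicComplete (Ideal.span {t}) R]

theorem eq_zero_of_smul (ht : t ≠ 0) {M : Type v} [AddCommGroup M] [Module R M]
    (hM : ∀ x : M, t • x = 0 → x = 0) {a : R} (ha : a ≠ 0) {x : M} (h : a • x = 0) : x = 0 := by
  obtain ⟨N, e, he⟩ := exists_dvd_pow_of_ne_zero ht ha (mem_maximalIdeal ht)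
  have hN : t ^ N • x = 0 := by rw [he, mul_comm, mul_smul, h, smul_zero]
  clear he
  induction N with
  | zero => simpa using hN
  | succ N ih => exact ih (hM _ (by rwa [smul_smul, ← pow_succ']))

theorem smul_t_cancel_of_isDomain {B : Type v} [CommRing B] [IsDomain B] [Algebra R B]
    (htB : algebraMap R B t ≠ 0) (x : B) (h : t • x = 0) : x = 0 :=
  (mul_eq_zero.mp (by rwa [Algebra.smul_def] at h)).resolve_left htB

/-- Every nonzero series is a constant times a series with nonzero reduction. -/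
theorem exists_primitive (ht : t ≠ 0) {n : ℕ} {x : TPow t n} (hx : x ≠ 0) :
    ∃ (a : R) (x1 : TPow t n) (p : MvPolynomial (Fin n) R) (y : TPow t n), a ≠ 0 ∧ x = a • x1 ∧
      x1 = toPow t n p + t • y ∧ ∃ ν, IsUnit (MvPolynomial.coeff ν p) := by
  classical
  obtain ⟨j, σ, w, hxw, ν₀, hν₀⟩ : ∃ (j : ℕ) (σ : MvPolynomial (Fin n) R) (w : TPow t n),
      x = toPow t n σ + t ^ j • w ∧ ∃ ν, ¬ t ^ j ∣ MvPolynomial.coeff ν σ := by
    by_contra hall
    push Not at hall
    refine hx (IsHausdorff.haus (I := Ideal.span {t}) inferInstance _ fun j => ?_)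
    obtain ⟨σ, w, hw⟩ := exists_poly x j
    obtain ⟨q, hq⟩ := (MvPolynomial.C_dvd_iff_dvd_coeff (t ^ j) σ).mpr (hall j σ w hw)
    rw [SModEq.zero, mem_span_pow_smul_top]
    exact ⟨toPow t n q + w, by rw [hw, hq, ← MvPolynomial.smul_eq_C_mul, map_smul, smul_add]⟩
  obtain ⟨a, ha⟩ := exists_span_eq (fun ν : {ν // ν ∈ σ.support} => MvPolynomial.coeff ν.1 σ)
  have hdvd : ∀ ν, a ∣ MvPolynomial.coeff ν σ := fun ν => by
    by_cases hν : ν ∈ σ.support
    · exact Ideal.mem_span_singleton.mp (ha ▸ Ideal.subset_span ⟨⟨ν, hν⟩, rfl⟩)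
    · rw [MvPolynomial.notMem_support_iff.mp hν]
      exact dvd_zero _
  have hnot : ¬ t ^ j ∣ a := fun h => hν₀ (h.trans (hdvd ν₀))
  obtain ⟨b, hb⟩ := (ValuationRing.dvd_total a (t ^ j)).resolve_right hnot
  have ha0 : a ≠ 0 := fun h => hnot (h ▸ dvd_zero _)
  have hbm : b ∈ IsLocalRing.maximalIdeal R := fun hbu =>
    hnot (hb ▸ (associated_mul_unit_right a b hbu).symm.dvd)
  obtain ⟨σ', hσ'⟩ := (MvPolynomial.C_dvd_iff_dvd_coeff a σ).mpr hdvd
  obtain ⟨q, z, hwq⟩ := exists_poly w 1
  refine ⟨a, toPow t n σ' + b • w, σ' + b • q, b • z, ha0, ?_, ?_, ?_⟩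
  · rw [smul_add, smul_smul, ← hb, ← map_smul, MvPolynomial.smul_eq_C_mul, ← hσ', hxw]
  · rw [hwq, map_add, map_smul, smul_add, pow_one, smul_comm b t, add_assoc]
  · by_contra hall
    push Not at hall
    have hle : Ideal.span {a} ≤ Ideal.span {a} * IsLocalRing.maximalIdeal R := by
      conv_lhs => rw [← ha]
      rw [Ideal.span_le]
      rintro - ⟨ν, rfl⟩
      change MvPolynomial.coeff ν.1 σ ∈ _
      rw [show MvPolynomial.coeff ν.1 σ = a * MvPolynomial.coeff ν.1 σ' from
        (congrArg (MvPolynomial.coeff ν.1) hσ').trans (MvPolynomial.coeff_C_mul _ _ _)]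
      refine Ideal.mul_mem_mul (Ideal.mem_span_singleton_self _) ?_
      have := hall ν.1
      rw [MvPolynomial.coeff_add, MvPolynomial.coeff_smul, smul_eq_mul] at this
      exact (Ideal.add_mem_iff_left _ (Ideal.mul_mem_right _ _ hbm)).mp this
    obtain ⟨c, hc, hc'⟩ := Ideal.mem_span_singleton_mul.mp (hle (Ideal.mem_span_singleton_self _))
    exact absurd (mul_left_cancel₀ ha0 (hc'.trans (mul_one a).symm) ▸ hc) (fun h1 => h1 isUnit_one)

/-- Reduction of polynomials modulo the maximal ideal. -/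
noncomputable abbrev redPoly (R : Type u) [CommRing R] [IsLocalRing R] (n : ℕ) :
    MvPolynomial (Fin n) R →+* MvPolynomial (Fin n) (R ⧸ IsLocalRing.maximalIdeal R) :=
  MvPolynomial.map (Ideal.Quotient.mk (IsLocalRing.maximalIdeal R))

omit [IsDomain R] [ValuationRing R] [Ring.KrullDimLE 1 R] [IsAdicComplete (Ideal.span {t}) R] in
theorem redPoly_ne_zero [IsLocalRing R] {n : ℕ} {p : MvPolynomial (Fin n) R}
    (h : ∃ ν, IsUnit (MvPolynomial.coeff ν p)) : redPoly R n p ≠ 0 := fun h0 => by
  obtain ⟨ν, hν⟩ := h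
  have := congrArg (MvPolynomial.coeff ν) h0
  rw [MvPolynomial.coeff_map, MvPolynomial.coeff_zero, Ideal.Quotient.eq_zero_iff_mem] at this
  exact this hν

theorem tPow_mul_eq_zero (ht : t ≠ 0) {n : ℕ} {x y : TPow t n} (h : x * y = 0) : x = 0 ∨ y = 0 := by
  by_contra hxy
  push Not at hxy
  obtain ⟨a, x1, p, w, ha, rfl, rfl, hp⟩ := exists_primitive ht hxy.1
  obtain ⟨b, y1, q, z, hb, rfl, rfl, hq⟩ := exists_primitive ht hxy.2
  rw [smul_mul_assoc, mul_smul_comm, smul_smul] at h
  have h1 := eq_zero_of_smul ht (fun u hu =>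
    smul_pow_cancel (mem_nonZeroDivisors_of_ne_zero ht) (j := 1) (by rwa [pow_one]))
    (mul_ne_zero ha hb) h
  have h2 : toPow t n (p * q) = t ^ 1 • -(toPow t n p * z + w * toPow t n q + t • (w * z)) := by
    rw [map_mul, pow_one, smul_neg, eq_neg_iff_add_eq_zero, ← h1]
    simp only [Algebra.smul_def]
    ring
  refine mul_ne_zero (redPoly_ne_zero hp) (redPoly_ne_zero hq) ?_
  rw [← map_mul]
  ext ν
  rw [MvPolynomial.coeff_map, MvPolynomial.coeff_zero, Ideal.Quotient.eq_zero_iff_mem]
  obtain ⟨c, hc⟩ := dvd_coeff_of_toPow_eq_smul h2 ν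
  rw [hc, pow_one]
  exact Ideal.mul_mem_right _ _ (mem_maximalIdeal ht)

theorem isDomain_tPow (ht : t ≠ 0) (n : ℕ) : IsDomain (TPow t n) := by
  haveI : Nontrivial (TPow t n) := by
    refine ⟨⟨1, 0, fun h => ?_⟩⟩
    have h2 : toPow t n 1 = t ^ 1 • (0 : TPow t n) := by rw [map_one, h, smul_zero]
    have h3 := dvd_coeff_of_toPow_eq_smul h2 0
    rw [pow_one, MvPolynomial.coeff_one, if_pos rfl] at h3
    exact mem_maximalIdeal ht (isUnit_of_dvd_one h3)
  haveI : NoZeroDivisors (TPow t n) := ⟨fun h => tPow_mul_eq_zero ht h⟩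
  exact NoZeroDivisors.to_isDomain _

omit [IsAdicComplete (Ideal.span {t}) R] in
theorem map_maximalIdeal_le_radical (ht : t ≠ 0) {A : Type v} [CommRing A] [Algebra R A] :
    (IsLocalRing.maximalIdeal R).map (algebraMap R A) ≤ ((Ideal.span {t}).map (algebraMap R A)).radical := by
  rw [Ideal.map_le_iff_le_comap]
  intro a ha
  obtain ⟨N, c, hc⟩ := exists_dvd_pow_of_mem ht ha
  refine ⟨N, ?_⟩
  rw [← map_pow, hc, map_mul]
  exact Ideal.mul_mem_right _ _ (Ideal.mem_map_of_mem _ (Ideal.mem_span_singleton_self t))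

/-- An algebra topologically of finite type which is integral modulo the maximal ideal over a
complete subalgebra is finite over it. -/
theorem finite_of_integral_mod (ht : t ≠ 0) {A : Type u} [CommRing A] [Algebra R A]
    (hA : AdicRing.TopFiniteType R (Ideal.span {t}) A) (Q : Type u) [CommRing Q] [Algebra R Q]
    [Algebra Q A] [IsScalarTower R Q A] [IsPrecomplete (Ideal.span {t}) Q]
    (h : ∀ x : A, ∃ q : Polynomial Q, q.Monic ∧
      Polynomial.aeval x q ∈ (IsLocalRing.maximalIdeal R).map (algebraMap R A)) :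
    Module.Finite Q A := by
  have hR := isBase_rank1 (R := R) ht
  set J := (Ideal.span {t}).map (algebraMap R A)
  haveI := finiteType_quotient (base_fg hR) hA
  haveI : Algebra.FiniteType Q (A ⧸ J) := Algebra.FiniteType.of_restrictScalars_finiteType R Q (A ⧸ J)
  haveI : Algebra.IsIntegral Q (A ⧸ J) := ⟨fun y => by
    obtain ⟨x, rfl⟩ := Ideal.Quotient.mk_surjective y
    obtain ⟨q, hq, hqx⟩ := h x
    obtain ⟨N, hN⟩ := map_maximalIdeal_le_radical ht hqx
    refine ⟨q ^ N, hq.pow N, ?_⟩
    rw [← Polynomial.aeval_def, ← Ideal.Quotient.mkₐ_eq_mk Q, Polynomial.aeval_algHom_apply,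
      map_pow, Ideal.Quotient.mkₐ_eq_mk, Ideal.Quotient.eq_zero_iff_mem]
    exact hN⟩
  haveI : Module.Finite Q (A ⧸ J) := Algebra.IsIntegral.finite
  obtain ⟨m, g, hg⟩ := Module.Finite.exists_fin (R := Q) (M := A ⧸ J)
  choose e he using fun i => Ideal.Quotient.mk_surjective (g i)
  haveI := isHausdorff_of_finite_tft hR hA A
  haveI : IsPrecomplete (Ideal.span {t}) (Fin m → Q) := isPrecomplete_fin_pi m
  have hsurj : Function.Surjective ((Fintype.linearCombination Q e).restrictScalars R) := by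
    refine surjective_of_mkQ_comp_surjective (I := Ideal.span {t}) ?_
    intro y
    obtain ⟨y, rfl⟩ := Submodule.Quotient.mk_surjective _ y
    obtain ⟨c, hc⟩ := (Submodule.mem_span_range_iff_exists_fun Q).mp
      (hg ▸ Submodule.mem_top : Ideal.Quotient.mk J y ∈ Submodule.span Q (Set.range g))
    refine ⟨c, (Submodule.Quotient.eq _).mpr ?_⟩
    rw [Ideal.smul_top_eq_map]
    change (Fintype.linearCombination Q e) c - y ∈ J
    rw [← Ideal.Quotient.eq, ← hc, Fintype.linearCombination_apply, map_sum]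
    refine Finset.sum_congr rfl fun i _ => ?_
    rw [← he i, ← Ideal.Quotient.mkₐ_eq_mk Q, map_smul]
  exact Module.Finite.of_surjective (Fintype.linearCombination Q e) hsurj

/-- Noether normalisation for domains topologically of finite type. -/
theorem exists_normalization (ht : t ≠ 0) {B : Type u} [CommRing B] [IsDomain B] [Algebra R B]
    (hB : AdicRing.TopFiniteType R (Ideal.span {t}) B) (htB : algebraMap R B t ≠ 0) :
    ∃ (d : ℕ) (G : TPow t d →ₐ[R] B), Function.Injective G ∧ G.Finite := by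
  have hR := isBase_rank1 (R := R) ht
  haveI := isAdicComplete_tft_self hR hB
  set m := IsLocalRing.maximalIdeal R
  set mB := m.map (algebraMap R B) with hmB
  have hne : mB ≠ ⊤ := fun h => by
    have h1 : (Ideal.span {t}).map (algebraMap R B) = ⊤ :=
      Ideal.radical_eq_top.mp (top_le_iff.mp (h ▸ map_maximalIdeal_le_radical ht))
    have h2 := map_ideal_le_jacobson (base_fg hR) hB
    rw [h1, top_le_iff, Ideal.jacobson_eq_top_iff] at h2
    exact bot_ne_top h2
  haveI : Nontrivial (B ⧸ mB) := Ideal.Quotient.nontrivial_iff.mpr hne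
  letI := Ideal.Quotient.field m
  haveI hft : Algebra.FiniteType (R ⧸ m) (B ⧸ mB) := by
    haveI := finiteType_quotient (base_fg hR) hB
    have hle : (Ideal.span {t}).map (algebraMap R B) ≤ mB :=
      Ideal.map_mono ((Ideal.span_singleton_le_iff_mem _).mpr (mem_maximalIdeal ht))
    haveI : Algebra.FiniteType R (B ⧸ mB) := Algebra.FiniteType.of_surjective
      (Ideal.Quotient.factorₐ R hle) (Ideal.Quotient.factor_surjective hle)
    exact Algebra.FiniteType.of_restrictScalars_finiteType R _ _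
  obtain ⟨d, g, hg, hgfin⟩ := exists_finite_inj_algHom_of_fg (R ⧸ m) (B ⧸ mB)
  choose b hb using fun i => Ideal.Quotient.mk_surjective (g (MvPolynomial.X i))
  set ev : MvPolynomial (Fin d) R →ₐ[R] B := MvPolynomial.aeval b with hev
  let G : TPow t d →ₐ[R] B := complLift (I := Ideal.span {t}) ev
  have hGp : ∀ p, G (toPow t d p) = ev p := complLift_algebraMap (I := Ideal.span {t}) ev
  have hred : ∀ p, Ideal.Quotient.mk mB (ev p) = g (redPoly R d p) := by
    have : (Ideal.Quotient.mk mB).comp ev.toRingHom = g.toRingHom.comp (redPoly R d) := by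
      refine MvPolynomial.ringHom_ext (fun r => ?_) fun i => ?_
      · simp only [RingHom.comp_apply, AlgHom.toRingHom_eq_coe, RingHom.coe_coe, hev,
          MvPolynomial.aeval_C, MvPolynomial.map_C]
        rw [show (MvPolynomial.C (Ideal.Quotient.mk m r)) =
          algebraMap (R ⧸ m) (MvPolynomial (Fin d) (R ⧸ m)) (Ideal.Quotient.mk m r) from rfl,
          g.commutes]
        rfl
      · simp [hev, hb]
    exact fun p => RingHom.congr_fun this p
  have hmk : ∀ (p : MvPolynomial (Fin d) R) (y : TPow t d),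
      Ideal.Quotient.mk mB (G (toPow t d p + t • y)) = g (redPoly R d p) := fun p y => by
    rw [map_add, map_smul, hGp, map_add, hred, add_eq_left, Ideal.Quotient.eq_zero_iff_mem,
      Algebra.smul_def]
    exact Ideal.mul_mem_right _ _ (Ideal.mem_map_of_mem _ (mem_maximalIdeal ht))
  refine ⟨d, G, (injective_iff_map_eq_zero G).mpr fun x hx => ?_, ?_⟩
  · by_contra h0
    obtain ⟨a, x1, p, y, ha, rfl, rfl, hp⟩ := exists_primitive ht h0
    rw [map_smul] at hx
    have h1 := eq_zero_of_smul ht (smul_t_cancel_of_isDomain htB) ha hx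
    have h2 := hmk p y
    rw [h1, map_zero] at h2
    exact redPoly_ne_zero hp (hg (h2.symm.trans (map_zero g).symm))
  · letI : Algebra (TPow t d) B := G.toRingHom.toAlgebra
    haveI : IsScalarTower R (TPow t d) B := IsScalarTower.of_algebraMap_eq fun r => (G.commutes r).symm
    refine finite_of_integral_mod ht hB (TPow t d) fun x => ?_
    obtain ⟨q0, hq0, hqx⟩ := hgfin.to_isIntegral (Ideal.Quotient.mk mB x)
    have hsurj : Function.Surjective (redPoly R d) :=
      MvPolynomial.map_surjective _ Ideal.Quotient.mk_surjective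
    obtain ⟨q1, hq1, -, hq1m⟩ := Polynomial.lifts_and_degree_eq_and_monic
      ((Polynomial.lifts_iff_coeff_lifts q0).mpr fun i => hsurj _) hq0
    refine ⟨q1.map (toPow t d).toRingHom, hq1m.map _, ?_⟩
    rw [← Ideal.Quotient.eq_zero_iff_mem, Polynomial.aeval_def, Polynomial.eval₂_map,
      Polynomial.hom_eval₂]
    rw [← hq1, Polynomial.eval₂_map] at hqx
    refine (congrArg (fun f => Polynomial.eval₂ f (Ideal.Quotient.mk mB x) q1) ?_).trans hqx
    exact RingHom.ext fun p => (congrArg (Ideal.Quotient.mk mB) (hGp p)).trans (hred p)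

/-- Evaluation at the origin. -/
noncomputable def evalZero (t : R) [IsAdicComplete (Ideal.span {t}) R] (d : ℕ) : TPow t d →ₐ[R] R :=
  haveI : IsAdicComplete ((Ideal.span {t}).map (algebraMap R R)) R := by
    rwa [Algebra.algebraMap_self, Ideal.map_id]
  complLift (I := Ideal.span {t}) (MvPolynomial.aeval fun _ : Fin d => (0 : R))

theorem evalZero_toPow (d : ℕ) (p : MvPolynomial (Fin d) R) :
    evalZero t d (toPow t d p) = MvPolynomial.aeval (fun _ : Fin d => (0 : R)) p :=
  haveI : IsAdicComplete ((Ideal.span {t}).map (algebraMap R R)) R := by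
    rwa [Algebra.algebraMap_self, Ideal.map_id]
  complLift_algebraMap (I := Ideal.span {t}) _ p

theorem algebraMap_tPow_zero_surjective (ht : t ≠ 0) :
    Function.Surjective (algebraMap R (TPow t 0)) := by
  intro x
  refine ⟨evalZero t 0 x, (sub_eq_zero.mp (IsHausdorff.haus (I := Ideal.span {t}) inferInstance _ fun j => ?_))⟩
  rw [SModEq.zero, mem_span_pow_smul_top]
  obtain ⟨p, y, rfl⟩ := exists_poly x j
  obtain ⟨r, rfl⟩ : ∃ r, p = MvPolynomial.C r := ⟨_, MvPolynomial.eq_C_of_isEmpty p⟩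
  refine ⟨algebraMap R _ (evalZero t 0 y) - y, ?_⟩
  rw [map_add, map_smul, evalZero_toPow, MvPolynomial.aeval_C, map_add, Algebra.algebraMap_self,
    RingHom.id_apply, smul_eq_mul, map_mul, ← Algebra.smul_def, smul_sub]
  rw [show toPow t 0 (MvPolynomial.C r) = algebraMap R (TPow t 0) r from (toPow t 0).commutes r]
  abel

theorem tft_self (ht : t ≠ 0) : AdicRing.TopFiniteType R (Ideal.span {t}) R :=
  ⟨0, evalZero t 0, fun r => ⟨algebraMap R _ r, (evalZero t 0).commutes r⟩⟩

variable {B : Type u} [CommRing B] [IsDomain B] [Algebra R B]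

theorem finite_of_zero (ht : t ≠ 0) {d : ℕ} (G : TPow t d →ₐ[R] B) (hG : G.Finite) (hd : d = 0) :
    Module.Finite R B := by
  subst hd
  exact RingHom.finite_algebraMap.mp (G.comp_algebraMap ▸
    RingHom.Finite.comp (show G.toRingHom.Finite from hG)
      (RingHom.Finite.of_surjective _ (algebraMap_tPow_zero_surjective ht)))

theorem isMaximal_ker_lt (ht : t ≠ 0) {d : ℕ} (hd : 0 < d) :
    ∃ P P' : Ideal (TPow t d), P.IsPrime ∧ P'.IsPrime ∧ P ≠ ⊥ ∧ P < P' := by
  refine ⟨RingHom.ker (evalZero t d).toRingHom,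
    (IsLocalRing.maximalIdeal R).comap (evalZero t d).toRingHom, RingHom.ker_isPrime _,
    inferInstance, fun h => ?_, ?_⟩
  · have hX : toPow t d (MvPolynomial.X ⟨0, hd⟩) ∈ RingHom.ker (evalZero t d).toRingHom := by
      rw [RingHom.mem_ker]
      exact (evalZero_toPow d _).trans (MvPolynomial.aeval_X _ _)
    rw [h, Submodule.mem_bot] at hX
    have h3 := dvd_coeff_of_toPow_eq_smul (j := 1) (hX.trans (smul_zero (t ^ 1)).symm)
      (Finsupp.single ⟨0, hd⟩ 1)
    rw [pow_one, MvPolynomial.coeff_X, if_pos rfl] at h3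
    exact mem_maximalIdeal ht (isUnit_of_dvd_one h3)
  · refine lt_of_le_of_ne (fun x hx => ?_) fun h => ?_
    · rw [Ideal.mem_comap, RingHom.mem_ker.mp hx]
      exact zero_mem _
    · have h1 : algebraMap R (TPow t d) t ∈
          (IsLocalRing.maximalIdeal R).comap (evalZero t d).toRingHom := by
        rw [Ideal.mem_comap]
        exact ((evalZero t d).commutes t).symm ▸ mem_maximalIdeal ht
      rw [← h, RingHom.mem_ker] at h1
      exact ht (((evalZero t d).commutes t).symm.trans h1)

/-- A one-dimensional domain topologically of finite type is finite over the base. -/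
theorem finite_of_krullDimLE_one (ht : t ≠ 0) (hB : AdicRing.TopFiniteType R (Ideal.span {t}) B)
    (htB : algebraMap R B t ≠ 0) [Ring.KrullDimLE 1 B] : Module.Finite R B := by
  obtain ⟨d, G, hinj, hfin⟩ := exists_normalization ht hB htB
  refine finite_of_zero ht G hfin ?_
  by_contra hd
  obtain ⟨P, P', hP, hP', hP0, hlt⟩ := isMaximal_ker_lt (R := R) ht (Nat.pos_of_ne_zero hd)
  letI : Algebra (TPow t d) B := G.toRingHom.toAlgebra
  haveI : Module.Finite (TPow t d) B := hfin
  have hbot : (⊥ : Ideal B).comap (algebraMap (TPow t d) B) ≤ P := fun x hx => by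
    rw [Ideal.mem_comap, Submodule.mem_bot] at hx
    rw [hinj (hx.trans (map_zero G).symm)]
    exact zero_mem _
  obtain ⟨Q1, -, hQ1, hQ1c⟩ := Ideal.exists_ideal_over_prime_of_isIntegral P ⊥ hbot
  obtain ⟨Q2, hle, hQ2, hQ2c⟩ := Ideal.exists_ideal_over_prime_of_isIntegral P' Q1 (hQ1c ▸ hlt.le)
  have hmax : Q1.IsMaximal := Ring.krullDimLE_one_iff_of_noZeroDivisors.mp inferInstance Q1 (fun h => by
    refine hP0 (le_bot_iff.mp ?_)
    rw [← hQ1c, h]
    intro x hx
    rw [Ideal.mem_comap, Submodule.mem_bot] at hx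
    exact (Submodule.mem_bot _).mpr (hinj (hx.trans (map_zero G).symm))) hQ1
  have heq := hmax.eq_of_le hQ2.ne_top hle
  rw [← hQ1c, ← hQ2c, heq] at hlt
  exact lt_irrefl _ hlt

/-- A domain topologically of finite type with a field as generic fibre is finite over the base. -/
theorem finite_of_forall_dvd_pow (ht : t ≠ 0) (hB : AdicRing.TopFiniteType R (Ideal.span {t}) B)
    (htB : algebraMap R B t ≠ 0) (hfield : ∀ b : B, b ≠ 0 → ∃ N, b ∣ algebraMap R B t ^ N) :
    Module.Finite R B := by
  obtain ⟨d, G, hinj, hfin⟩ := exists_normalization ht hB htB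
  refine finite_of_zero ht G hfin ?_
  by_contra hd
  set y := toPow t d (MvPolynomial.X ⟨0, Nat.pos_of_ne_zero hd⟩) with hy
  have hy0 : evalZero t d y = 0 := (evalZero_toPow d _).trans (MvPolynomial.aeval_X _ _)
  have hyne : G y ≠ 0 := fun h => by
    have hX := hinj (h.trans (map_zero G).symm)
    have h3 := dvd_coeff_of_toPow_eq_smul (j := 1) (hX.trans (smul_zero (t ^ 1)).symm)
      (Finsupp.single ⟨0, Nat.pos_of_ne_zero hd⟩ 1)
    rw [pow_one, MvPolynomial.coeff_X, if_pos rfl] at h3
    exact mem_maximalIdeal ht (isUnit_of_dvd_one h3)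
  obtain ⟨N, c, hc⟩ := hfield _ hyne
  obtain ⟨p, hp, hpc⟩ := hfin.to_isIntegral c
  have h1 := Polynomial.scaleRoots_eval₂_eq_zero G.toRingHom (s := y) hpc
  change Polynomial.eval₂ G.toRingHom (G y * c) (p.scaleRoots y) = 0 at h1
  rw [← hc, show algebraMap R B t ^ N = G.toRingHom (algebraMap R _ (t ^ N)) from
    ((G.commutes (t ^ N)).trans (map_pow _ _ _)).symm, Polynomial.eval₂_at_apply] at h1
  have h2 := congrArg (evalZero t d) (hinj (h1.trans (map_zero G).symm))
  rw [map_zero, ← Polynomial.eval₂_id, ← AlgHom.coe_toRingHom, Polynomial.hom_eval₂, RingHom.comp_id,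
    ← Polynomial.eval_map, Polynomial.map_scaleRoots _ _ _ (by rw [hp.leadingCoeff, map_one]; exact one_ne_zero)] at h2
  simp only [AlgHom.coe_toRingHom, hy0, Polynomial.scaleRoots_zero, AlgHom.commutes] at h2
  rw [(hp.map _).leadingCoeff, one_smul, Polynomial.eval_pow, Polynomial.eval_X,
    Algebra.algebraMap_self, RingHom.id_apply, ← pow_mul] at h2
  exact ht (eq_zero_of_pow_eq_zero h2)

theorem idem_of_pow_sub_mem {B : Type v} [CommRing B] {J : Ideal B} {x v : B} {I : ℕ}
    (hv : x ^ I - x ^ (I + 1) * v ∈ J) :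
    x ^ I - x ^ I * (x * v) ^ I ∈ J ∧ (x * v) ^ I * (x * v) ^ I - (x * v) ^ I ∈ J := by
  have : ∀ r : ℕ, x ^ I - x ^ I * (x * v) ^ r ∈ J := fun r => by
    induction r with
    | zero => simp
    | succ r ih =>
      have heq : x ^ I - x ^ I * (x * v) ^ (r + 1) =
          (x ^ I - x ^ I * (x * v) ^ r) * (x * v) + (x ^ I - x ^ (I + 1) * v) := by ring
      rw [heq]
      exact add_mem (Ideal.mul_mem_right _ _ ih) hv
  refine ⟨this I, ?_⟩
  have heq : (x * v) ^ I * (x * v) ^ I - (x * v) ^ I =
      -(v ^ I) * (x ^ I - x ^ I * (x * v) ^ I) := by ring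
  rw [heq]
  exact Ideal.mul_mem_left _ _ (this I)

theorem exists_idempotent_lift {B : Type v} [CommRing B] [Nontrivial B] (J : Ideal B)
    [IsAdicComplete J B] {e : B} (hee : e * e - e ∈ J) :
    ∃ ε : B, ε * (ε - 1) = 0 ∧ ε - e ∈ J := by
  haveI : HenselianRing B J := inferInstance
  obtain ⟨ε, hε, hεe⟩ := HenselianRing.is_henselian (I := J) (Polynomial.X ^ 2 - Polynomial.X)
    (by
      refine Polynomial.monic_X_pow_sub (n := 2) ?_
      rw [Polynomial.degree_X]
      norm_num) e
    (by simpa [sq] using hee)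
    (by
      refine IsUnit.of_mul_eq_one (Ideal.Quotient.mk J (2 * e - 1)) ?_
      rw [show (Polynomial.X ^ 2 - Polynomial.X : Polynomial B).derivative.eval e = 2 * e - 1 by
        simp [Polynomial.derivative_pow], ← map_mul, ← map_one (Ideal.Quotient.mk J), Ideal.Quotient.eq]
      have : (2 * e - 1) * (2 * e - 1) - 1 = 4 * (e * e - e) := by ring
      rw [this]
      exact Ideal.mul_mem_left _ _ hee)
  refine ⟨ε, ?_, hεe⟩
  simp [Polynomial.IsRoot, sq] at hε
  linear_combination hε

set_option maxHeartbeats 400000 in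
/-- A finite domain over the base ring is local. -/
theorem isLocalRing_of_finite (ht : t ≠ 0) [Module.Finite R B] : IsLocalRing B := by
  have hR := isBase_rank1 (R := R) ht
  haveI := isAdicComplete_of_finite_tft hR (tft_self (R := R) ht) B
  set J := (Ideal.span {t}).map (algebraMap R B)
  haveI : IsAdicComplete J B := (IsAdicComplete.map_algebraMap_iff _ _).mpr inferInstance
  refine IsLocalRing.of_unique_max_ideal ?_
  obtain ⟨M, hM⟩ := Ideal.exists_maximal B
  refine ⟨M, hM, fun M2 hM2 => ?_⟩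
  by_contra hne
  obtain ⟨x, hxM, hxM2⟩ := SetLike.not_le_iff_exists.mp
    fun hle => hne ((hM.eq_of_le hM2.ne_top hle)).symm
  have hJM : ∀ P : Ideal B, P.IsMaximal → J ≤ P := fun P hP =>
    (IsAdicComplete.le_jacobson_bot J).trans (sInf_le ⟨bot_le, hP⟩)
  set k := IsLocalRing.ResidueField R
  obtain ⟨q, hq, hqx⟩ := IsIntegral.of_finite R x
  set qb := q.map (IsLocalRing.residue R) with hqb
  obtain ⟨i, hi⟩ : ∃ i, i = qb.natTrailingDegree := ⟨_, rfl⟩
  have hci : IsUnit (q.coeff i) := by
    have h1 : qb.coeff i ≠ 0 := by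
      rw [hi]
      exact mt Polynomial.trailingCoeff_eq_zero.mp (hq.map _).ne_zero
    rw [hqb, Polynomial.coeff_map, ne_eq, IsLocalRing.residue_eq_zero_iff] at h1
    exact not_not.mp h1
  have hlow : ∀ j < i, q.coeff j ∈ IsLocalRing.maximalIdeal R := fun j hj => by
    rw [← IsLocalRing.residue_eq_zero_iff, ← Polynomial.coeff_map]
    exact Polynomial.coeff_eq_zero_of_lt_natTrailingDegree (hi ▸ hj)
  -- x^i (c + x w) lies in the radical of J
  obtain ⟨w, hw⟩ : ∃ w : B, x ^ i * (algebraMap R B (q.coeff i) + x * w) ∈ J.radical := by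
    refine ⟨∑ j ∈ Finset.range (q.natDegree - i), algebraMap R B (q.coeff (i + 1 + j)) * x ^ j, ?_⟩
    have hle : i ≤ q.natDegree := by
      by_contra h
      exact (not_isUnit_zero (M₀ := R)) ((Polynomial.coeff_eq_zero_of_natDegree_lt (not_le.mp h)) ▸ hci)
    rw [Polynomial.eval₂_eq_sum_range] at hqx
    rw [show q.natDegree + 1 = i + (1 + (q.natDegree - i)) by omega, Finset.sum_range_add,
      Finset.sum_range_add] at hqx
    simp only [Finset.range_one, Finset.sum_singleton, add_zero] at hqx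
    have : x ^ i * (algebraMap R B (q.coeff i) + x * ∑ j ∈ Finset.range (q.natDegree - i),
        algebraMap R B (q.coeff (i + 1 + j)) * x ^ j) =
        -∑ j ∈ Finset.range i, algebraMap R B (q.coeff j) * x ^ j := by
      rw [eq_neg_iff_add_eq_zero, ← hqx, add_comm, mul_add, Finset.mul_sum, Finset.mul_sum]
      congr 1
      congr 1
      · exact mul_comm _ _
      · refine Finset.sum_congr rfl fun j _ => ?_
        rw [← add_assoc i 1 j, show x ^ (i + 1 + j) = x ^ i * (x * x ^ j) by ring]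
        ring
    rw [this]
    exact neg_mem (Ideal.sum_mem _ fun j hj => Ideal.mul_mem_right _ _
      (map_maximalIdeal_le_radical ht (Ideal.mem_map_of_mem _ (hlow j (Finset.mem_range.mp hj)))))
  obtain ⟨N, hN⟩ := hw
  obtain ⟨c, hc⟩ := hci.map (algebraMap R B)
  set I' := i * N + 1
  obtain ⟨v, hv⟩ : ∃ v : B, x ^ I' - x ^ (I' + 1) * v ∈ J := by
    obtain ⟨w', hw'⟩ : x ∣ (algebraMap R B (q.coeff i) + x * w) ^ N - algebraMap R B (q.coeff i) ^ N :=
      (dvd_mul_right x w).trans ((Dvd.intro_left 1 (by ring)).trans (sub_dvd_pow_sub_pow _ _ N))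
    refine ⟨-(↑(c ^ N)⁻¹ : B) * w', ?_⟩
    have h1 : x ^ I' - x ^ (I' + 1) * (-(↑(c ^ N)⁻¹ : B) * w') =
        (↑(c ^ N)⁻¹ : B) * x * (x ^ i * (algebraMap R B (q.coeff i) + x * w)) ^ N := by
      rw [mul_pow, sub_eq_iff_eq_add.mp hw', ← hc, ← Units.val_pow_eq_pow_val]
      have h2 : (↑(c ^ N)⁻¹ : B) * ↑(c ^ N) = 1 := Units.inv_mul _
      linear_combination (-x ^ I') * h2
    rw [h1]
    exact Ideal.mul_mem_left _ _ hN
  obtain ⟨hxe, hee⟩ := idem_of_pow_sub_mem hv
  set e := (x * v) ^ I' with he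
  obtain ⟨ε, hε2, hεe⟩ := exists_idempotent_lift J hee
  rcases mul_eq_zero.mp hε2 with h0 | h1
  · have he0 : e ∈ J := by simpa [h0] using hεe
    have : x ^ I' ∈ M2 := hJM M2 hM2 (by simpa using add_mem hxe (Ideal.mul_mem_left _ (x ^ I') he0))
    exact hxM2 (hM2.isPrime.mem_of_pow_mem _ this)
  · have he1 : 1 - e ∈ M := hJM M hM (by rw [← sub_eq_zero.mp h1]; exact hεe)
    have heM : e ∈ M := by
      rw [he, mul_pow]
      exact Ideal.mul_mem_right _ _ (Ideal.pow_mem_of_mem _ hxM _ (Nat.succ_pos _))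
    exact hM.ne_top ((Ideal.eq_top_iff_one _).mpr (by simpa using add_mem he1 heM))

theorem krullDimLE_one_of_finite (ht : t ≠ 0) [Module.Finite R B] (htB : algebraMap R B t ≠ 0) :
    Ring.KrullDimLE 1 B := by
  have hinj : Function.Injective (algebraMap R B) := (injective_iff_map_eq_zero _).mpr fun r hr => by
    by_contra hr0
    obtain ⟨N, e, he⟩ := exists_dvd_pow_of_ne_zero ht hr0 (mem_maximalIdeal ht)
    have := congrArg (algebraMap R B) he
    rw [map_pow, map_mul, hr, zero_mul] at this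
    exact htB (eq_zero_of_pow_eq_zero this)
  refine Ring.krullDimLE_one_iff_of_noZeroDivisors.mpr fun P hP0 hP => ?_
  refine Ideal.isMaximal_of_isIntegral_of_isMaximal_comap (R := R) P ?_
  haveI : (P.comap (algebraMap R B)).IsPrime := Ideal.IsPrime.comap _
  exact Ring.krullDimLE_one_iff_of_noZeroDivisors.mp inferInstance _
    (fun h => hP0 (Ideal.eq_bot_of_comap_eq_bot h)) inferInstance

theorem ringKrullDim_eq_one_of_finite (ht : t ≠ 0) [Module.Finite R B] (htB : algebraMap R B t ≠ 0) :
    ringKrullDim B = 1 := by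
  haveI := krullDimLE_one_of_finite ht htB
  refine eq_of_le_of_not_lt ?_ fun h' => ?_
  · rw [← Nat.cast_one, ← Ring.krullDimLE_iff]
    infer_instance
  · have h'' : ringKrullDim B ≤ 0 := Order.le_of_lt_succ h'
    rw [← Nat.cast_zero, ← Ring.krullDimLE_iff] at h''
    haveI := isAdicComplete_of_finite_tft (isBase_rank1 (R := R) ht) (tft_self (R := R) ht) B
    haveI : IsAdicComplete ((Ideal.span {t}).map (algebraMap R B)) B :=
      (IsAdicComplete.map_algebraMap_iff _ _).mpr inferInstance
    obtain ⟨c, hc⟩ := (Ring.KrullDimLE.isField_of_isDomain : IsField B).mul_inv_cancel htB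
    have hj := IsAdicComplete.le_jacobson_bot ((Ideal.span {t}).map (algebraMap R B))
      (Ideal.mem_map_of_mem _ (Ideal.mem_span_singleton_self t))
    have := Ideal.mem_jacobson_bot.mp hj (-c)
    rw [mul_neg, hc, neg_add_cancel] at this
    exact not_isUnit_zero this

end Groth.Agent.Frg27
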