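import Groth.Agent.Frg27.RigFlat
import Groth.Agent.S8837

/-!
Moving rig-closed points between completed localizations.
-/

set_option autoImplicit false

universe u

namespace Groth.Agent.Frg27

variable {R : Type u} [CommRing R] [IsNoetherianRing R] {J : Ideal R}
variable {E E' : Type u} [CommRing E] [Algebra R E] [IsNoetherianRing E]
  [IsAdicComplete (J.map (algebraMap R E)) E] [CommRing E'] [Algebra R E'] [IsNoetherianRing E']
  [IsAdicComplete (J.map (algebraMap R E')) E']

theorem exists_point {q : PrimeSpectrum E} (hq : IsRig (J.map (algebraMap R E)) q) (Φ : E →ₐ[R] E')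
    (π : E' →ₐ[R] E ⧸ q.asIdeal) (hπ : ∀ x, π (Φ x) = Ideal.Quotient.mk q.asIdeal x) :
    ∃ q' : PrimeSpectrum E', IsRig (J.map (algebraMap R E')) q' ∧
      PrimeSpectrum.comap Φ.toRingHom q' = q ∧
      Function.Surjective ((Ideal.Quotient.mk q'.asIdeal).comp Φ.toRingHom) := by
  have hsurj : Function.Surjective π := fun y => by
    obtain ⟨x, rfl⟩ := Ideal.Quotient.mk_surjective y
    exact ⟨Φ x, hπ x⟩
  obtain ⟨q', hq', hrig⟩ := isRig_ker hq hsurj
  refine ⟨q', hrig, PrimeSpectrum.ext (Ideal.ext fun x => ?_), fun y => ?_⟩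
  · change Φ x ∈ q'.asIdeal ↔ x ∈ q.asIdeal
    rw [hq', RingHom.mem_ker]
    exact (Eq.congr_left (hπ x)).trans Ideal.Quotient.eq_zero_iff_mem
  · obtain ⟨y, rfl⟩ := Ideal.Quotient.mk_surjective y
    obtain ⟨x, hx⟩ := Ideal.Quotient.mk_surjective (π y)
    refine ⟨x, Ideal.Quotient.eq.mpr ?_⟩
    rw [hq', RingHom.mem_ker, map_sub]
    exact sub_eq_zero.mpr ((hπ x).trans hx)

omit [IsNoetherianRing R] [IsNoetherianRing E] [IsNoetherianRing E'] [IsAdicComplete (J.map (algebraMap R E)) E]
  [IsAdicComplete (J.map (algebraMap R E')) E'] in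
theorem finite_of_good {q : PrimeSpectrum E} {f : R}
    (hgood : ∀ (A' : Type u) [CommRing A'] [Algebra R A'] [IsNoetherianRing A']
      [IsAdicComplete (J.map (algebraMap R A')) A'] (χ : A' →ₐ[R] E ⧸ q.asIdeal),
      IsUnit (algebraMap R A' f) → χ.toRingHom.Finite)
    {Φ : E →ₐ[R] E'} {q' : PrimeSpectrum E'} (hcomap : PrimeSpectrum.comap Φ.toRingHom q' = q)
    (hsurj : Function.Surjective ((Ideal.Quotient.mk q'.asIdeal).comp Φ.toRingHom))
    {A' : Type u} [CommRing A'] [Algebra R A'] [IsNoetherianRing A']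
    [IsAdicComplete (J.map (algebraMap R A')) A'] (ψ : A' →ₐ[R] E')
    (hu : IsUnit (algebraMap R A' f)) :
    ((Ideal.Quotient.mk q'.asIdeal).comp ψ.toRingHom).Finite := by
  subst hcomap
  let e0 : E ⧸ (PrimeSpectrum.comap Φ.toRingHom q').asIdeal →ₐ[R] E' ⧸ q'.asIdeal :=
    Ideal.quotientMapₐ q'.asIdeal Φ le_rfl
  let e := AlgEquiv.ofBijective e0 ⟨Ideal.quotientMap_injective, fun y => by
    obtain ⟨x, hx⟩ := hsurj y
    exact ⟨Ideal.Quotient.mk _ x, hx⟩⟩
  have h := hgood A' (e.symm.toAlgHom.comp ((Ideal.Quotient.mkₐ R q'.asIdeal).comp ψ)) hu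
  have h2 := (RingHom.Finite.of_surjective e0.toRingHom e.surjective).comp h
  convert h2 using 1
  exact RingHom.ext fun x => (e.apply_symm_apply _).symm

omit [IsNoetherianRing R] in
theorem ft_trans {S T : Type u} [CommRing S] [CommRing T] [Algebra R S] [Algebra R T] [Algebra S T]
    [IsScalarTower R S T] (hS : Algebra.FiniteType R (S ⧸ J.map (algebraMap R S)))
    (hT : Algebra.FiniteType S (T ⧸ J.map (algebraMap R T))) :
    Algebra.FiniteType R (T ⧸ J.map (algebraMap R T)) := by
  set P := J.map (algebraMap R S)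
  set K := J.map (algebraMap R T)
  have hle : P ≤ K.comap (algebraMap S T) := by
    rw [← Ideal.map_le_iff_le_comap, Ideal.map_map, ← IsScalarTower.algebraMap_eq]
  letI : Algebra (S ⧸ P) (T ⧸ K) := (Ideal.quotientMap K (algebraMap S T) hle).toAlgebra
  haveI : IsScalarTower S (S ⧸ P) (T ⧸ K) := IsScalarTower.of_algebraMap_eq fun r => rfl
  haveI : IsScalarTower R (S ⧸ P) (T ⧸ K) := IsScalarTower.of_algebraMap_eq fun r =>
    congrArg (Ideal.Quotient.mk K) (IsScalarTower.algebraMap_apply R S T r)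
  haveI : Algebra.FiniteType (S ⧸ P) (T ⧸ K) := Algebra.FiniteType.of_restrictScalars_finiteType S _ _
  exact Algebra.FiniteType.trans (S := S ⧸ P) hS inferInstance

omit [IsNoetherianRing R] in
theorem map_eq_of_tower {S T : Type u} [CommRing S] [CommRing T] [Algebra R S] [Algebra R T] [Algebra S T]
    [IsScalarTower R S T] : (J.map (algebraMap R S)).map (algebraMap S T) = J.map (algebraMap R T) :=
  (Ideal.map_map _ _).trans (congrArg (fun φ => Ideal.map φ J) (IsScalarTower.algebraMap_eq R S T).symm)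

section Tower

omit [IsNoetherianRing R]

variable {S T : Type u} [CommRing S] [CommRing T] [Algebra R S] [Algebra R T] [Algebra S T]
  [IsScalarTower R S T]

theorem complete_tower (h : IsAdicComplete (J.map (algebraMap R T)) T) :
    IsAdicComplete ((J.map (algebraMap R S)).map (algebraMap S T)) T := by
  rw [map_eq_of_tower]; exact h

theorem isRig_tower_iff {q : PrimeSpectrum T} :
    IsRig ((J.map (algebraMap R S)).map (algebraMap S T)) q ↔ IsRig (J.map (algebraMap R T)) q := by
  rw [map_eq_of_tower]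

theorem isUnit_tower_iff {a : R} :
    IsUnit (algebraMap S T (algebraMap R S a)) ↔ IsUnit (algebraMap R T a) := by
  rw [← IsScalarTower.algebraMap_apply R S T]

end Tower

omit [IsNoetherianRing R] in
theorem ft_congr {T : Type u} [CommRing T] [Algebra R T] {K K' : Ideal T} (h : K = K')
    (hft : Algebra.FiniteType R (T ⧸ K)) : Algebra.FiniteType R (T ⧸ K') := h ▸ hft

end Groth.Agent.Frg27
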