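import Groth.Agent.Frg27.RigPoint
import Mathlib.FieldTheory.IntermediateField.Adjoin.Basic
import Mathlib.RingTheory.Norm.Transitivity
import Mathlib.FieldTheory.Minpoly.IsIntegrallyClosed
import Mathlib.RingTheory.Algebraic.Integral
import Mathlib.Algebra.GCDMonoid.IntegrallyClosed

/-!
The integral closure of a complete valuation ring of rank one in an algebraic field extension is a
valuation ring; the norm criterion of integrality.
-/

set_option autoImplicit false
set_option linter.style.haveILetI false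
set_option linter.unusedSectionVars false

namespace Groth.Agent.Frg27

universe u

variable {R : Type u} [CommRing R] [IsDomain R] [ValuationRing R] [Ring.KrullDimLE 1 R]
variable {t : R} [IsAdicComplete (Ideal.span {t}) R]
variable {L : Type u} [Field L] [Algebra R L]

theorem integralClosure_sum_not_isUnit (ht : t ≠ 0) {x y : L} (hx : IsIntegral R x)
    (hy : IsIntegral R y) (hxy : x + y ≠ 0) (hz : IsIntegral R (x + y)⁻¹) :
    IsIntegral R x⁻¹ ∧ x ≠ 0 ∨ IsIntegral R y⁻¹ ∧ y ≠ 0 := by
  classical
  set T := Algebra.adjoin R ({x, y, (x + y)⁻¹} : Set L) with hT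
  haveI : Module.Finite R T := Module.Finite.iff_fg.mpr
    (fg_adjoin_of_finite (Set.toFinite _) (by
      rintro w (rfl | rfl | rfl) <;> assumption))
  haveI := isLocalRing_of_finite (R := R) (B := ↥T) ht
  have hsub : ∀ {w : L}, w ∈ T → IsIntegral R w := fun hw =>
    (IsIntegral.of_finite R (⟨_, hw⟩ : T)).map T.val
  let X : T := ⟨x, Algebra.subset_adjoin (by simp)⟩
  let Y : T := ⟨y, Algebra.subset_adjoin (by simp)⟩
  let Z : T := ⟨(x + y)⁻¹, Algebra.subset_adjoin (by simp)⟩
  have h1 : IsUnit (X + Y) := IsUnit.of_mul_eq_one Z (Subtype.ext (mul_inv_cancel₀ hxy))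
  have hinv : ∀ {w : T}, IsUnit w → IsIntegral R (w : L)⁻¹ ∧ (w : L) ≠ 0 := fun {w} hw => by
    obtain ⟨w', hw'⟩ := hw.exists_right_inv
    have h2 : (w : L) * w' = 1 := congrArg Subtype.val hw'
    exact ⟨(inv_eq_of_mul_eq_one_right h2).symm ▸ hsub w'.2, left_ne_zero_of_mul_eq_one h2⟩
  exact (IsLocalRing.isUnit_or_isUnit_of_isUnit_add h1).imp (fun h => hinv h) (fun h => hinv h)

theorem isIntegral_or_inv_of_root (ht : t ≠ 0) (x : L) : ∀ (n : ℕ) (c : ℕ → L),
    (∀ i, IsIntegral R (c i)) → (∃ j ≤ n, c j ≠ 0 ∧ IsIntegral R (c j)⁻¹) →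
      ∑ i ∈ Finset.range (n + 1), c i * x ^ i = 0 → IsIntegral R x ∨ IsIntegral R x⁻¹ := by
  intro n
  induction n with
  | zero =>
    rintro c hc ⟨j, hj, hj0, -⟩ h
    obtain rfl : j = 0 := Nat.le_zero.mp hj
    simp at h
    exact absurd h hj0
  | succ n ih =>
    rintro c hc ⟨j, hj, hj0, hjinv⟩ h
    set y := c (n + 1) * x with hy
    have hyint : IsIntegral R y := by
      let S := integralClosure R L
      let p : Polynomial S := ∑ i ∈ Finset.range (n + 1 + 1), Polynomial.C ⟨c i, hc i⟩ * Polynomial.X ^ i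
      by_cases hlead : c (n + 1) = 0
      · rw [hy, hlead, zero_mul]; exact isIntegral_zero
      have hpx : Polynomial.aeval x p = 0 := by
        rw [← h]
        simp [p]
      have hdeg : p.natDegree = n + 1 := by
        refine Polynomial.natDegree_eq_of_le_of_coeff_ne_zero ?_ ?_
        · refine Polynomial.natDegree_sum_le_of_forall_le _ _ fun i hi => ?_
          exact (Polynomial.natDegree_C_mul_X_pow_le _ _).trans (by have := Finset.mem_range.mp hi; omega)
        · simp [p, Polynomial.coeff_C_mul_X_pow]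
          exact fun h0 => hlead (congrArg Subtype.val h0)
      have hlc : (p.leadingCoeff : L) = c (n + 1) := by
        rw [Polynomial.leadingCoeff, hdeg]
        simp [p, Polynomial.coeff_C_mul_X_pow]
      have h2 := isIntegral_trans (R := R) _ (isIntegral_leadingCoeff_smul (R := S) p x hpx)
      rwa [show p.leadingCoeff • x = (p.leadingCoeff : L) * x from rfl, hlc] at h2
    by_cases hlead : c (n + 1) ≠ 0 ∧ IsIntegral R (c (n + 1))⁻¹
    · left
      have := hlead.2.mul hyint
      rwa [hy, ← mul_assoc, inv_mul_cancel₀ hlead.1, one_mul] at this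
    by_cases hyu : y ≠ 0 ∧ IsIntegral R y⁻¹
    · right
      have := (hc (n + 1)).mul hyu.2
      rwa [hy, mul_inv, ← mul_assoc, mul_inv_cancel₀ (left_ne_zero_of_mul (hy ▸ hyu.1)), one_mul] at this
    refine ih (fun i => if i = n then c n + y else c i) (fun i => ?_) ?_ ?_
    · change IsIntegral R (if i = n then c n + y else c i)
      split_ifs
      · exact (hc n).add hyint
      · exact hc i
    · rcases Nat.lt_or_ge j n with hjn | hjn
      · exact ⟨j, hjn.le, by simp only [if_neg hjn.ne]; exact ⟨hj0, hjinv⟩⟩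
      · have hj' : j = n := by
          rcases Nat.eq_or_lt_of_le hj with h1 | h1
          · exact absurd ⟨h1 ▸ hj0, h1 ▸ hjinv⟩ hlead
          · omega
        subst hj'
        refine ⟨j, le_rfl, ?_⟩
        simp only [if_true]
        have hne : c j + y ≠ 0 := fun h0 => by
          refine hyu ?_
          rw [eq_neg_of_add_eq_zero_right h0, inv_neg, neg_ne_zero]
          exact ⟨hj0, hjinv.neg⟩
        refine ⟨hne, ?_⟩
        have h3 : c j = (c j + y) + -y := by ring
        rcases integralClosure_sum_not_isUnit (R := R) ht ((hc j).add hyint) hyint.neg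
          (h3 ▸ hj0) (h3 ▸ hjinv) with h4 | h4
        · exact h4.1
        · exact absurd ⟨neg_ne_zero.mp h4.2, by simpa using h4.1.neg⟩ hyu
    · rw [← h, Finset.sum_range_succ _ (n + 1)]
      simp only [Finset.sum_range_succ _ n, if_true]
      rw [Finset.sum_congr rfl fun i hi => by rw [if_neg (Finset.mem_range.mp hi).ne]]
      rw [hy]
      ring

theorem isIntegral_or_inv (ht : t ≠ 0) (hinj : Function.Injective (algebraMap R L)) {x : L}
    (hx : IsAlgebraic R x) : IsIntegral R x ∨ IsIntegral R x⁻¹ := by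
  obtain ⟨p, hp0, hpx⟩ := hx
  obtain ⟨a, ha⟩ := exists_span_eq (fun i : {i // i ∈ p.support} => p.coeff i.1)
  have hdvd : ∀ i, a ∣ p.coeff i := fun i => by
    by_cases hi : i ∈ p.support
    · exact Ideal.mem_span_singleton.mp (ha ▸ Ideal.subset_span ⟨⟨i, hi⟩, rfl⟩)
    · rw [Polynomial.notMem_support_iff.mp hi]; exact dvd_zero _
  choose b hb using hdvd
  have ha0 : a ≠ 0 := fun h => hp0 (Polynomial.ext fun i => by rw [hb i, h, zero_mul, Polynomial.coeff_zero])
  have hu : ∃ j ≤ p.natDegree, IsUnit (b j) := by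
    by_contra hall
    push Not at hall
    have hle : Ideal.span {a} ≤ Ideal.span {a} * IsLocalRing.maximalIdeal R := by
      conv_lhs => rw [← ha]
      rw [Ideal.span_le]
      rintro - ⟨i, rfl⟩
      change p.coeff i.1 ∈ _
      rw [hb i.1]
      exact Ideal.mul_mem_mul (Ideal.mem_span_singleton_self _)
        (hall i.1 (Polynomial.le_natDegree_of_mem_supp _ i.2))
    obtain ⟨c, hc, hc'⟩ := Ideal.mem_span_singleton_mul.mp (hle (Ideal.mem_span_singleton_self _))
    exact absurd (mul_left_cancel₀ ha0 (hc'.trans (mul_one a).symm) ▸ hc) (fun h1 => h1 isUnit_one)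
  obtain ⟨j, hj, hju⟩ := hu
  refine isIntegral_or_inv_of_root (R := R) ht x p.natDegree (fun i => algebraMap R L (b i))
    (fun i => isIntegral_algebraMap) ⟨j, hj, ?_, ?_⟩ ?_
  · exact (hju.map (algebraMap R L)).ne_zero
  · obtain ⟨v, hv⟩ := hju
    have : (algebraMap R L (b j))⁻¹ = algebraMap R L (↑v⁻¹ : R) := by
      refine inv_eq_of_mul_eq_one_right ?_
      rw [← map_mul, ← hv, Units.mul_inv, map_one]
    rw [this]
    exact isIntegral_algebraMap
  · refine (mul_eq_zero.mp (?_ : algebraMap R L a * _ = 0)).resolve_left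
      (fun h => ha0 (hinj (h.trans (map_zero _).symm)))
    rw [← hpx, Finset.mul_sum, Polynomial.aeval_eq_sum_range]
    refine Finset.sum_congr rfl fun i _ => ?_
    rw [hb i, Algebra.smul_def, map_mul, mul_assoc]

/-- The integral closure in an algebraic extension is a valuation ring. -/
theorem valuationRing_integralClosure (ht : t ≠ 0) {B : Type u} [CommRing B] [Algebra R B]
    [Algebra B L] [IsScalarTower R B L] [Algebra.IsIntegral R B]
    (hinj : Function.Injective (algebraMap R L)) (halg : Algebra.IsAlgebraic R L) :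
    ValuationRing (integralClosure B L) := by
  have htop : ∀ {x : L}, IsIntegral R x → IsIntegral B x := fun h => h.tower_top
  refine (ValuationRing.iff_dvd_total).mpr ⟨fun a b => ?_⟩
  by_cases hb : (b : L) = 0
  · exact Or.inl (by rw [show b = 0 from Subtype.ext hb]; exact dvd_zero _)
  by_cases ha : (a : L) = 0
  · exact Or.inr (by rw [show a = 0 from Subtype.ext ha]; exact dvd_zero _)
  rcases isIntegral_or_inv ht hinj (halg.isAlgebraic ((b : L) / a)) with h | h
  · exact Or.inl ⟨⟨_, htop h⟩, Subtype.ext (by simp [mul_div_cancel₀ _ ha])⟩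
  · refine Or.inr ⟨⟨_, htop h⟩, Subtype.ext ?_⟩
    simp [inv_div, mul_div_cancel₀ _ hb]

theorem isIntegral_of_norm_mem (ht : t ≠ 0) {K : Type u} [Field K] [Algebra R K] [IsFractionRing R K]
    [Algebra K L] [IsScalarTower R K L] [Algebra.IsAlgebraic K L] (α : L)
    (h : Algebra.norm K (IntermediateField.AdjoinSimple.gen K α) ∈ (algebraMap R K).range) :
    IsIntegral R α := by
  have hinj : Function.Injective (algebraMap R L) := by
    rw [IsScalarTower.algebraMap_eq R K L]
    exact (algebraMap K L).injective.comp (IsFractionRing.injective R K)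
  haveI : Algebra.IsAlgebraic R L :=
    (IsFractionRing.comap_isAlgebraic_iff (A := R) (K := K) (C := L)).mpr inferInstance
  have hαK : IsIntegral K α := (Algebra.IsAlgebraic.isAlgebraic α).isIntegral
  rcases isIntegral_or_inv ht hinj (Algebra.IsAlgebraic.isAlgebraic (R := R) α) with hα | hβ
  · exact hα
  by_cases hα0 : α = 0
  · rw [hα0]; exact isIntegral_zero
  set p := minpoly K α with hp
  have hp0 : p.coeff 0 ∈ (algebraMap R K).range := by
    obtain ⟨r, hr⟩ := h
    have h2 := Algebra.PowerBasis.norm_gen_eq_coeff_zero_minpoly (IntermediateField.adjoin.powerBasis hαK)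
    rw [IntermediateField.adjoin.powerBasis_gen, IntermediateField.minpoly_gen, ← hr] at h2
    refine ⟨(-1) ^ (IntermediateField.adjoin.powerBasis hαK).dim * r, ?_⟩
    rw [map_mul, map_pow, map_neg, map_one, h2, ← mul_assoc, ← mul_pow]
    simp [hp]
  obtain ⟨r, hr⟩ := hp0
  have hp0ne : p.coeff 0 ≠ 0 := minpoly.coeff_zero_ne_zero hαK hα0
  have hβK : IsIntegral K α⁻¹ := hβ.tower_top
  have hq : minpoly K α⁻¹ = Polynomial.C (p.coeff 0)⁻¹ * p.reverse := by
    have hrev : (Polynomial.C (p.coeff 0)⁻¹ * p.reverse).natDegree = p.natDegree := by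
      rw [Polynomial.natDegree_C_mul (inv_ne_zero hp0ne), Polynomial.reverse_natDegree,
        Polynomial.natTrailingDegree_eq_zero.mpr (Or.inr hp0ne), Nat.sub_zero]
    have hmon : (Polynomial.C (p.coeff 0)⁻¹ * p.reverse).Monic := by
      rw [Polynomial.Monic, Polynomial.leadingCoeff, hrev, Polynomial.coeff_C_mul,
        Polynomial.coeff_reverse, Polynomial.revAt_le le_rfl, Nat.sub_self, inv_mul_cancel₀ hp0ne]
    refine (Polynomial.eq_of_monic_of_dvd_of_natDegree_le (minpoly.monic hβK) hmon
      (minpoly.dvd K α⁻¹ ?_) ?_).symm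
    · rw [map_mul]
      refine mul_eq_zero_of_right _ ?_
      haveI : Invertible α := invertibleOfNonzero hα0
      rw [Polynomial.aeval_def, ← invOf_eq_inv, Polynomial.eval₂_reverse_eq_zero_iff]
      exact minpoly.aeval K α
    · rw [hrev, ← IntermediateField.adjoin.finrank hβK, hp, ← IntermediateField.adjoin.finrank hαK]
      refine le_of_eq (congrArg (fun F : IntermediateField K L => Module.finrank K F) (le_antisymm ?_ ?_))
      · rw [IntermediateField.adjoin_simple_le_iff]
        simpa using inv_mem (IntermediateField.mem_adjoin_simple_self K α⁻¹)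
      · rw [IntermediateField.adjoin_simple_le_iff]
        exact inv_mem (IntermediateField.mem_adjoin_simple_self K α)
  classical
  haveI : IsIntegrallyClosed R := by
    letI : GCDMonoid R := IsBezout.toGCDDomain R
    infer_instance
  have hqR : minpoly K α⁻¹ = (minpoly R α⁻¹).map (algebraMap R K) :=
    minpoly.isIntegrallyClosed_eq_field_fractions' K hβ
  have hunit : IsUnit ((minpoly R α⁻¹).coeff 0) := by
    refine IsUnit.of_mul_eq_one r (IsFractionRing.injective R K ?_)
    rw [map_mul, map_one, hr, ← Polynomial.coeff_map, ← hqR, hq, Polynomial.coeff_C_mul,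
      Polynomial.coeff_zero_reverse, (minpoly.monic hαK).leadingCoeff, mul_one, inv_mul_cancel₀ hp0ne]
  obtain ⟨v, hv⟩ := hunit
  set q := minpoly R α⁻¹
  have h3 : α⁻¹ * Polynomial.aeval α⁻¹ q.divX + algebraMap R L (q.coeff 0) = 0 := by
    have h4 := congrArg (Polynomial.aeval α⁻¹) (Polynomial.X_mul_divX_add q)
    rw [minpoly.aeval, map_add, map_mul, Polynomial.aeval_X, Polynomial.aeval_C] at h4
    exact h4
  have h5 : α = algebraMap R L (-(↑v⁻¹ : R)) * Polynomial.aeval α⁻¹ q.divX := by
    have h6 : Polynomial.aeval α⁻¹ q.divX = -(α * algebraMap R L (q.coeff 0)) := by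
      rw [eq_neg_iff_add_eq_zero, ← mul_zero α, ← h3, mul_add, ← mul_assoc, mul_inv_cancel₀ hα0, one_mul]
    rw [h6, map_neg, neg_mul_neg, mul_left_comm, ← map_mul, ← hv, Units.inv_mul, map_one, mul_one]
  rw [h5]
  refine isIntegral_algebraMap.mul ?_
  rw [Polynomial.aeval_eq_sum_range]
  exact IsIntegral.sum _ fun i _ => (hβ.pow i).smul _

end Groth.Agent.Frg27
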